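import Cfsg.Agent.Blocks.ConstantDeficit.Core
import Cfsg.Agent.Blocks.Quotient
import Cfsg.Agent.Chars.Count

/-!
# The centralizer of an involution is the Sylow 2-subgroup
-/

set_option autoImplicit false
set_option linter.unusedSectionVars false
set_option linter.style.haveILetI false
set_option maxHeartbeats 1000000

namespace Cfsg.Lib.Deficit

open Cfsg Cfsg.Lib.Chars Cfsg.Lib.Blocks
open scoped ComplexConjugate

universe u

variable {G : Type u} [Group G] [Fintype G] {M : Ideal AlgInt} {u s : G} {P : Sylow 2 G}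

namespace Base

/-- The kernel of the principal block on the section of `s` counts centralizers. -/
theorem colKer_section_card (b : Base M u s P) (y : Subgroup.centralizer ({s} : Set G)) (hy : ¬ 2 ∣ orderOf y) :
    colKer (principalBlock M G) (s * (y : G)) (s * (y : G)) =
      (Nat.card (Subgroup.centralizer ({y} : Set (Subgroup.centralizer ({s} : Set G)))) : ℂ) := by
  classical
  haveI : Fact (Nat.Prime 2) := ⟨Nat.prime_two⟩
  letI : Fintype (Subgroup.centralizer ({s} : Set G)) := Fintype.ofFinite _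
  have hH : Subgroup.centralizer ({s} : Set G) = Subgroup.centralizer (Subgroup.zpowers s : Set G) := by
    rw [centralizer_zpowers]
  rw [colKer_section b.hM ⟨1, by rw [pow_one, b.s_two]⟩ hH (B := principalBlock M G)
      (isPBlock_blockOf (principal G)) hy hy,
    filter_induced_principal b.hM ⟨1, by rw [pow_one, b.s_two]⟩ hH, Finset.sum_singleton]
  have hPC := comm_mem_centralizer (P := P) (fun _ h => b.sq_eq_one h) b.mem
  set Pc := P.subtype hPC with hPc
  haveI : (Pc : Subgroup (Subgroup.centralizer ({s} : Set G))).Normal := ⟨fun p hp g =>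
    b.conj_mem_of_commute b.mem b.s_ne_one (Subgroup.mem_centralizer_singleton_iff.1 g.2) hp⟩
  have hself : Subgroup.centralizer ((Pc : Subgroup (Subgroup.centralizer ({s} : Set G))) : Set _) ≤
      (Pc : Subgroup (Subgroup.centralizer ({s} : Set G))) := by
    intro g hg
    have hg' : (g : G) ∈ Subgroup.centralizer ((P : Subgroup G) : Set G) :=
      Subgroup.mem_centralizer_iff.2 fun p hp => congrArg Subtype.val (Subgroup.mem_centralizer_iff.1 hg ⟨p, hPC hp⟩ hp)
    exact b.centralizer_le hg'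
  have hall : pbFin M (Subgroup.centralizer ({s} : Set G)) = Finset.univ :=
    Finset.eq_univ_iff_forall.2 fun ψ => mem_pbFin.2
      (sameBlock_of_self_centralizing b.hM Pc.2 hself (principal _) ψ)
  rw [colKer_principal, hall, second_orthogonality y y, if_pos (IsConj.refl y)]

/-- An element of odd order fixing `s` is trivial. -/
theorem eq_one_of_odd_commute (b : Base M u s P) {x : G} (hxs : x * s = s * x) (hx : ¬ 2 ∣ orderOf x) : x = 1 := by
  classical
  haveI : Fact (Nat.Prime 2) := ⟨Nat.prime_two⟩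
  by_contra hx1
  have hxN : x ∈ Subgroup.normalizer ((P : Subgroup G) : Set G) :=
    b.centralizer_le_normalizer b.mem b.s_ne_one (Subgroup.mem_centralizer_singleton_iff.2 hxs)
  have hxCP : x ∉ Subgroup.centralizer ((P : Subgroup G) : Set G) := fun h =>
    hx1 (eq_one_of_odd_two P.2 (b.centralizer_le h) hx dvd_rfl)
  set P' := (P : Subgroup G) with hP'
  have hmem : ∀ {c : G}, c ∈ P' → x * c * x⁻¹ ∈ P' := fun hc => (Subgroup.mem_normalizer_iff.1 hxN _).1 hc
  letI : CommGroup P' :=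
    { P'.toGroup with
      mul_comm := fun a c => Subtype.ext (b.comm a.2 c.2) }
  letI : Fintype P' := Fintype.ofFinite P'
  -- the displacement map
  let ψ : P' →* P' :=
    MonoidHom.mk' (fun c => c * ⟨x * ((c⁻¹ : P') : G) * x⁻¹, hmem (c⁻¹ : P').2⟩) fun c c' => by
      have e : (⟨x * (((c * c')⁻¹ : P') : G) * x⁻¹, hmem ((c * c')⁻¹ : P').2⟩ : P') =
          ⟨x * ((c⁻¹ : P') : G) * x⁻¹, hmem (c⁻¹ : P').2⟩ * ⟨x * ((c'⁻¹ : P') : G) * x⁻¹, hmem (c'⁻¹ : P').2⟩ :=
        Subtype.ext (by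
          rw [mul_inv_rev, mul_comm c'⁻¹ c⁻¹]
          simp only [Subgroup.coe_mul]
          group)
      rw [e, mul_mul_mul_comm]
  have hψ : ∀ c : P', (ψ c : G) = (c : G) * x * (c : G)⁻¹ * x⁻¹ := fun c => by
    show (c : G) * (x * ((c⁻¹ : P') : G) * x⁻¹) = _
    rw [Subgroup.coe_inv, ← mul_assoc, ← mul_assoc]
  set K := ψ.range with hK
  set P0 := ψ.ker with hP0
  have hP0mem : ∀ c : P', c ∈ P0 ↔ (c : G) * x = x * c := fun c => by
    rw [hP0, MonoidHom.mem_ker, ← Subtype.coe_inj, hψ, Subgroup.coe_one, mul_inv_eq_one, mul_inv_eq_iff_eq_mul]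
  -- the two parts meet trivially
  have hdisj : ∀ k ∈ K, k ∈ P0 → k = 1 := by
    rintro _ ⟨c, rfl⟩ hk
    have hxk := (hP0mem _).1 hk
    have hord : orderOf (x) % 2 = 1 := by omega
    -- iterate the displacement
    have hit : ∀ i : ℕ, x ^ i * (c : G) * (x ^ i)⁻¹ = ((ψ c : G)⁻¹) ^ i * c := by
      intro i
      induction i with
      | zero => simp
      | succ i hi =>
        have hc : Commute x (((ψ c : G)⁻¹) ^ i) := ((Commute.symm hxk).inv_right).pow_right i
        have hstep : x * (c : G) * x⁻¹ = (ψ c : G)⁻¹ * c := by rw [hψ]; group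
        calc x ^ (i + 1) * (c : G) * (x ^ (i + 1))⁻¹ = x * (x ^ i * (c : G) * (x ^ i)⁻¹) * x⁻¹ := by
              rw [pow_succ']; group
          _ = x * ((ψ c : G)⁻¹) ^ i * c * x⁻¹ := by rw [hi]; group
          _ = ((ψ c : G)⁻¹) ^ i * (x * c * x⁻¹) := by rw [hc.eq]; group
          _ = _ := by rw [hstep, pow_succ, mul_assoc]
    have h := hit (orderOf x)
    rw [pow_orderOf_eq_one, one_mul, inv_one, mul_one] at h
    have h2 : ((ψ c : G)⁻¹) ^ orderOf x = 1 := mul_eq_right.1 h.symm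
    have hsq : ((ψ c : G)⁻¹) ^ 2 = 1 := by rw [pow_two]; exact b.sq_eq_one (inv_mem (ψ c).2)
    rw [← pow_mod_orderOf] at h2
    have h3 : (ψ c : G)⁻¹ = 1 := by
      have h4 : ((ψ c : G)⁻¹) ^ orderOf x = 1 := by rw [← pow_mod_orderOf]; exact h2
      rwa [show orderOf x = 2 * (orderOf x / 2) + 1 by omega, pow_succ, pow_mul, hsq, one_pow, one_mul] at h4
    exact Subtype.ext (inv_eq_one.1 h3)
  have hKP : Nat.card K * Nat.card P0 = Nat.card P' := by
    rw [hK, hP0, ← Subgroup.index_ker, mul_comm, Subgroup.card_mul_index]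
  -- unique decomposition
  let μ : P0 × K → P' := fun a => (a.1 : P') * a.2
  have hμ : Function.Bijective μ := by
    rw [Fintype.bijective_iff_injective_and_card]
    refine ⟨fun a a' h => ?_, ?_⟩
    · have h1 : ((a'.1 : P'))⁻¹ * (a.1 : P') = (a'.2 : P') * ((a.2 : P'))⁻¹ := by
        change (a.1 : P') * a.2 = (a'.1 : P') * a'.2 at h
        rw [inv_mul_eq_iff_eq_mul, ← mul_assoc, ← h, mul_inv_cancel_right]
      have h2 := hdisj _ (mul_mem a'.2.2 (inv_mem a.2.2)) (h1 ▸ mul_mem (inv_mem a'.1.2) a.1.2)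
      have h3 : (a.1 : P') = a'.1 := inv_mul_eq_one.1 (h1.trans h2) |>.symm
      exact Prod.ext (Subtype.ext h3) (Subtype.ext (mul_inv_eq_one.1 h2).symm)
    · rw [Fintype.card_prod, ← Nat.card_eq_fintype_card, ← Nat.card_eq_fintype_card, ← Nat.card_eq_fintype_card,
        mul_comm, hKP]
  -- moving elements of the coset
  have hconj : ∀ (a : P0) (k : K), ∃ c ∈ P', ((a : P') : G) * ((k : P') : G) * x = c * ((((a : P') : G)) * x) * c⁻¹ := by
    rintro a ⟨_, c, rfl⟩
    refine ⟨c, c.2, ?_⟩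
    rw [hψ c, ← mul_assoc (c : G), b.comm c.2 (a : P').2]
    group
  have hodd0 : ∀ a : P0, ¬ 2 ∣ orderOf (((a : P') : G) * x) → a = 1 := by
    intro a ha
    have hp : IsPPart 2 (((a : P') : G) * x) ((a : P') : G) :=
      isPPart_mul ((hP0mem _).1 a.2) (b.exists_pow (a : P').2) hx
    exact Subtype.ext (Subtype.ext (IsPPart.eq Nat.prime_two hp ((isPPart_one_iff Nat.prime_two).2 ha)))
  -- one class
  have hone : ∀ (a : P0), a ≠ 1 → ∀ χ : IrrCharacter G, (χ : G → ℂ) (((a : P') : G) * x) = (χ : G → ℂ) (s * x) := by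
    intro a ha χ
    set t := ((a : P') : G) with ht
    have htP : t ∈ P' := (a : P').2
    have ht1 : t ≠ 1 := fun h => ha (Subtype.ext (Subtype.ext h))
    have hxt : x * t * x⁻¹ = t := by rw [← (hP0mem _).1 a.2, mul_inv_cancel_right]
    obtain ⟨n, hn, hnt⟩ := b.transitive b.mem b.s_ne_one htP ht1
    have hnt' : n * x * n⁻¹ * t * (n * x * n⁻¹)⁻¹ = t := by
      rw [← hnt]
      calc n * x * n⁻¹ * (n * s * n⁻¹) * (n * x * n⁻¹)⁻¹ = n * (x * s) * x⁻¹ * n⁻¹ := by group
        _ = n * s * n⁻¹ := by rw [hxs]; group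
    have hact := fun {p : G} (hp : p ∈ P') => b.act_eq hn hxN htP ht1 hxt hnt' hp
    have hz : n * x * n⁻¹ * x⁻¹ ∈ P' := by
      refine b.centralizer_le (Subgroup.mem_centralizer_iff.2 fun p hp => ?_)
      have hp' : x⁻¹ * p * x ∈ P' := (Subgroup.mem_normalizer_iff''.1 hxN p).1 hp
      have h := hact hp'
      rw [show x * (x⁻¹ * p * x) * x⁻¹ = p by group] at h
      calc p * (n * x * n⁻¹ * x⁻¹) = (n * x * n⁻¹ * (x⁻¹ * p * x) * (n * x * n⁻¹)⁻¹) * (n * x * n⁻¹ * x⁻¹) := by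
            rw [h]
        _ = n * x * n⁻¹ * x⁻¹ * p := by group
    obtain ⟨⟨a0, k⟩, hak⟩ := hμ.2 ⟨_, hz⟩
    obtain ⟨c, hc, he⟩ := hconj a0 k
    have hnx : n * x * n⁻¹ = c * (((a0 : P') : G) * x) * c⁻¹ := by
      rw [← he, ← Subgroup.coe_mul, show (a0 : P') * (k : P') = ⟨_, hz⟩ from hak, inv_mul_cancel_right]
    have ha0 : a0 = 1 := by
      refine hodd0 a0 ?_
      have h1 : orderOf (((a0 : P') : G) * x) = orderOf x := by
        rw [← orderOf_injective (MulAut.conj c).toMonoidHom (MulAut.conj c).injective,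
          show (MulAut.conj c).toMonoidHom (((a0 : P') : G) * x) = n * x * n⁻¹ from hnx.symm,
          show n * x * n⁻¹ = (MulAut.conj n).toMonoidHom x from rfl, orderOf_injective _ (MulAut.conj n).injective]
      rwa [h1]
    rw [ha0, OneMemClass.coe_one, OneMemClass.coe_one, one_mul] at hnx
    refine classFunction_eq_of_isConj (isClassFunction_irr χ) (isConj_iff.2 ⟨n⁻¹ * c, ?_⟩)
    have hct : c * t * c⁻¹ = t := by rw [b.comm hc htP, mul_inv_cancel_right]
    calc n⁻¹ * c * (t * x) * (n⁻¹ * c)⁻¹ = n⁻¹ * ((c * t * c⁻¹) * (c * x * c⁻¹)) * n := by group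
      _ = n⁻¹ * ((n * s * n⁻¹) * (n * x * n⁻¹)) * n := by rw [hct, ← hnx, hnt]
      _ = s * x := by group
  -- a linear character
  have hsP0 : (⟨s, b.mem⟩ : P') ∈ P0 := (hP0mem _).2 hxs.symm
  have hs1 : (⟨s, b.mem⟩ : P') ≠ 1 := fun h => b.s_ne_one (congrArg Subtype.val h)
  obtain ⟨lam, hlK, hls⟩ : ∃ lam : P' →* ℂˣ, (∀ k ∈ K, lam k = 1) ∧ lam ⟨s, b.mem⟩ ≠ 1 := by
    have hne : QuotientGroup.mk' K ⟨s, b.mem⟩ ≠ 1 := fun h => hs1 (hdisj _ ((QuotientGroup.eq_one_iff _).1 h) hsP0)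
    obtain ⟨f, hf⟩ := CommGroup.exists_apply_ne_one_of_hasEnoughRootsOfUnity (P' ⧸ K) ℂ hne
    exact ⟨f.comp (QuotientGroup.mk' K), fun k hk => by
      rw [MonoidHom.comp_apply, QuotientGroup.mk'_apply, (QuotientGroup.eq_one_iff k).2 hk, map_one], hf⟩
  set H : Subgroup G := P' ⊔ Subgroup.zpowers x with hH
  letI : Fintype H := Fintype.ofFinite H
  have hPH : P' ≤ H := le_sup_left
  have hxH : x ∈ H := Subgroup.mem_sup_right (Subgroup.mem_zpowers x)
  have hHN : H ≤ Subgroup.normalizer (P' : Set G) := sup_le Subgroup.le_normalizer (Subgroup.zpowers_le.2 hxN)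
  set E' := P'.subgroupOf H with hE'
  haveI : E'.Normal := ⟨fun e he g => (Subgroup.mem_normalizer_iff.1 (hHN g.2) _).1 he⟩
  letI : Fintype E' := Fintype.ofFinite E'
  let ι : E' ≃* P' := Subgroup.subgroupOfEquivOfLe hPH
  have hE0 : (Nat.card E' : ℂ) ≠ 0 := Nat.cast_ne_zero.2 Nat.card_pos.ne'
  have hEc : Nat.card E' = Nat.card P' := Nat.card_congr ι.toEquiv
  have hEsum : ∀ (l : P' →* ℂˣ) (χ : IrrCharacter G) (g : H),
      avgPart E' (l.comp ι.toMonoidHom) (fun h : H => (χ : G → ℂ) h) g * (Nat.card P' : ℂ) =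
        ∑ e : P', (l e : ℂ) * (χ : G → ℂ) ((e : G) * (g : G)) := by
    intro l χ g
    rw [avgPart_eq, mul_comm, ← mul_assoc, ← hEc, mul_inv_cancel₀ hE0, one_mul]
    exact Fintype.sum_equiv ι.toEquiv _ _ fun e => rfl
  have hchar : ∀ l : P' →* ℂˣ, (∀ k ∈ K, l k = 1) → ∀ χ : IrrCharacter G,
      IsCharacter H (avgPart E' (l.comp ι.toMonoidHom) (fun h : H => (χ : G → ℂ) h)) := by
    intro l hl χ
    refine isCharacter_avgPart E' _ ?_ (IsCharacter.restrict (isCharacter_of_irr χ.2) H)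
    intro g e
    let S : Subgroup H :=
      { carrier := {g : H | ∀ p : P',
          l ⟨(g : G) * p * (g : G)⁻¹, (Subgroup.mem_normalizer_iff.1 (hHN g.2) _).1 p.2⟩ = l p}
        one_mem' := fun p => congrArg l (Subtype.ext (by simp))
        mul_mem' := fun {g g'} hg hg' p => by
          rw [← hg' p, ← hg ⟨(g' : G) * p * (g' : G)⁻¹, (Subgroup.mem_normalizer_iff.1 (hHN g'.2) _).1 p.2⟩]
          exact congrArg l (Subtype.ext (by simp only [Subgroup.coe_mul]; group))
        inv_mem' := fun {g} hg p => by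
          have h := hg ⟨((g⁻¹ : H) : G) * p * ((g⁻¹ : H) : G)⁻¹,
            (Subgroup.mem_normalizer_iff.1 (hHN (g⁻¹ : H).2) _).1 p.2⟩
          refine Eq.trans h.symm (congrArg l (Subtype.ext ?_))
          simp only [Subgroup.coe_inv]
          group }
    have hS : H ≤ S.map H.subtype := by
      refine sup_le (fun p hp => ⟨⟨p, hPH hp⟩, fun p' => congrArg l (Subtype.ext ?_), rfl⟩)
        (Subgroup.zpowers_le.2 ⟨⟨x, hxH⟩, fun p' => ?_, rfl⟩)
      · show p * (p' : G) * p⁻¹ = p'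
        rw [b.comm hp p'.2, mul_inv_cancel_right]
      · have e1 : (⟨x * (p' : G) * x⁻¹, hmem p'.2⟩ : P') = p' * ψ p' := Subtype.ext (by
          rw [Subgroup.coe_mul, hψ, inv_eq_of_mul_eq_one_right (b.sq_eq_one p'.2), ← mul_assoc, ← mul_assoc,
            ← mul_assoc, b.sq_eq_one p'.2, one_mul])
        show l ⟨x * (p' : G) * x⁻¹, _⟩ = l p'
        rw [e1, map_mul, hl _ ⟨p', rfl⟩, mul_one]
    obtain ⟨g', hg', hgg⟩ := hS g.2
    obtain rfl : g' = g := Subtype.ext hgg
    exact hg' (ι e)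
  have hP0s : ∀ l : P' →* ℂˣ, (∀ k ∈ K, l k = 1) → ∀ χ : IrrCharacter G,
      ∑ e : P', (l e : ℂ) * (χ : G → ℂ) ((e : G) * x) = (Nat.card K : ℂ) *
        ((χ : G → ℂ) x - (χ : G → ℂ) (s * x) + (∑ a : P0, (l a : ℂ)) * (χ : G → ℂ) (s * x)) := by
    intro l hl χ
    have e2 : ∀ a : P0, (l a : ℂ) * (χ : G → ℂ) (((a : P') : G) * x) =
        (if a = 1 then (χ : G → ℂ) x - (χ : G → ℂ) (s * x) else 0) + (l a : ℂ) * (χ : G → ℂ) (s * x) := by
      intro a
      split_ifs with h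
      · subst h; simp
      · rw [hone a h, zero_add]
    have e3 : ∀ q : P0 × K, (l (μ q) : ℂ) * (χ : G → ℂ) (((μ q : P') : G) * x) =
        (l q.1 : ℂ) * (χ : G → ℂ) (((q.1 : P') : G) * x) := by
      intro q
      obtain ⟨c, hc, he⟩ := hconj q.1 q.2
      simp only [μ]
      rw [map_mul, hl _ q.2.2, mul_one, Subgroup.coe_mul, he]
      exact congrArg _ (isClassFunction_irr χ _ c)
    rw [← Fintype.sum_equiv (Equiv.ofBijective μ hμ) (fun q => (l q.1 : ℂ) * (χ : G → ℂ) (((q.1 : P') : G) * x))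
      (fun e => (l e : ℂ) * (χ : G → ℂ) ((e : G) * x)) fun q => (e3 q).symm, Fintype.sum_prod_type]
    simp only [Finset.sum_const, Finset.card_univ, nsmul_eq_mul, ← Finset.mul_sum, e2, Finset.sum_add_distrib,
      Finset.sum_ite_eq', Finset.mem_univ, if_true, ← Finset.sum_mul, ← Nat.card_eq_fintype_card]
  have hlam0 : ∑ a : P0, (lam a : ℂ) = 0 := by
    set sa : P0 := ⟨⟨s, b.mem⟩, hsP0⟩
    have h : (lam sa : ℂ) * ∑ a : P0, (lam a : ℂ) = ∑ a : P0, (lam a : ℂ) := by
      rw [Finset.mul_sum]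
      refine Fintype.sum_equiv (Equiv.mulLeft sa) _ _ fun a => ?_
      simp
    have h2 : ((lam sa : ℂ) - 1) * ∑ a : P0, (lam a : ℂ) = 0 := by rw [sub_mul, one_mul, h, sub_self]
    exact (mul_eq_zero.1 h2).resolve_left (sub_ne_zero.2 fun h' => hls (Units.ext h'))
  have hlamP : ∑ e : P', (lam e : ℂ) = 0 := by
    have h : (lam ⟨s, b.mem⟩ : ℂ) * ∑ e : P', (lam e : ℂ) = ∑ e : P', (lam e : ℂ) := by
      rw [Finset.mul_sum]
      refine Fintype.sum_equiv (Equiv.mulLeft ⟨s, b.mem⟩) _ _ fun a => ?_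
      simp
    have h2 : ((lam ⟨s, b.mem⟩ : ℂ) - 1) * ∑ e : P', (lam e : ℂ) = 0 := by rw [sub_mul, one_mul, h, sub_self]
    exact (mul_eq_zero.1 h2).resolve_left (sub_ne_zero.2 fun h' => hls (Units.ext h'))
  have hq0 : (Nat.card P' : ℂ) ≠ 0 := b.cast_ne_zero
  have hKC : (Nat.card K : ℂ) * (Nat.card P0 : ℂ) = (Nat.card P' : ℂ) := by exact_mod_cast hKP
  have hP00 : (Nat.card P0 : ℂ) ≠ 0 := Nat.cast_ne_zero.2 Nat.card_pos.ne'
  -- the termwise bound
  set ζ : IrrCharacter G → ℂ := fun χ => ((χ : G → ℂ) x - (χ : G → ℂ) (s * x)) / (Nat.card P0 : ℂ) with hζ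
  choose d hd hdge hddeg using fun χ : {χ : IrrCharacter G // χ ∈ pbNon M G} =>
    b.s_ge (mem_pbNon.1 χ.2).1 (mem_pbNon.1 χ.2).2
  have hval1 : ∀ (l : P' →* ℂˣ) (χ : {χ : IrrCharacter G // χ ∈ pbNon M G}),
      ∑ e : P', (l e : ℂ) * (χ.1 : G → ℂ) ((e : G) * ((1 : H) : G)) =
        (Nat.card P' : ℂ) + (∑ e : P', (l e : ℂ)) * (d χ : ℂ) := by
    intro l χ
    have e : ∀ e : P', (l e : ℂ) * (χ.1 : G → ℂ) ((e : G) * ((1 : H) : G)) =
        (if e = 1 then (Nat.card P' : ℂ) else 0) + (l e : ℂ) * (d χ : ℂ) := by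
      intro e
      rw [Subgroup.coe_one, mul_one]
      split_ifs with h
      · subst h
        rw [map_one, Units.val_one, OneMemClass.coe_one, irr_apply_one_eq_deg, one_mul, one_mul]
        exact_mod_cast hddeg χ
      · rw [b.value χ.1 e.2 (fun h' => h (Subtype.ext h')), hd χ, zero_add]
    simp only [e, Finset.sum_add_distrib, Finset.sum_ite_eq', Finset.mem_univ, if_true, ← Finset.sum_mul]
  have hζ1 : ∀ χ : {χ : IrrCharacter G // χ ∈ pbNon M G}, Complex.normSq (ζ χ.1) = 1 := by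
    intro χ
    set f := avgPart E' (lam.comp ι.toMonoidHom) (fun h : H => (χ.1 : G → ℂ) h)
    have h1 : f 1 = 1 := mul_right_cancel₀ hq0 (by
      rw [hEsum, hval1, hlamP, zero_mul, add_zero, one_mul])
    have hx' : f ⟨x, hxH⟩ = ζ χ.1 := mul_right_cancel₀ hq0 (by
      rw [hEsum, hP0s lam hlK, hlam0, zero_mul, add_zero, ← hKC, hζ]
      field_simp)
    rw [← hx', Complex.normSq_eq_norm_sq, norm_deg_one (hchar lam hlK χ.1) h1, one_pow]
  have hα : ∀ χ : {χ : IrrCharacter G // χ ∈ pbNon M G},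
      Complex.normSq ((χ.1 : G → ℂ) (s * x) + ζ χ.1) ≤ ((d χ : ℝ) + 1) ^ 2 := by
    intro χ
    set f := avgPart E' ((1 : P' →* ℂˣ).comp ι.toMonoidHom) (fun h : H => (χ.1 : G → ℂ) h)
    have hsum1 : ∑ e : P', ((1 : P' →* ℂˣ) e : ℂ) = (Nat.card P' : ℂ) := by
      simp [Nat.card_eq_fintype_card]
    have h1 : f 1 = (((d χ : ℝ) + 1 : ℝ) : ℂ) := mul_right_cancel₀ hq0 (by
      rw [hEsum, hval1, hsum1]; push_cast; ring)
    have hx' : f ⟨x, hxH⟩ = (χ.1 : G → ℂ) (s * x) + ζ χ.1 := mul_right_cancel₀ hq0 (by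
      rw [hEsum, hP0s 1 (fun _ _ => rfl), ← hKC, hζ,
        show ∑ a : P0, ((1 : P' →* ℂˣ) a : ℂ) = (Nat.card P0 : ℂ) by simp [Nat.card_eq_fintype_card]]
      field_simp
      ring)
    have h : ‖f ⟨x, hxH⟩‖ ≤ (f 1).re := IsCharacter.norm_le (hchar 1 (fun _ _ => rfl) χ.1) ⟨x, hxH⟩
    rw [hx', h1, Complex.ofReal_re] at h
    rw [Complex.normSq_eq_norm_sq]
    exact pow_le_pow_left₀ (norm_nonneg _) h 2
  set r : {χ : IrrCharacter G // χ ∈ pbNon M G} → ℝ :=
    fun χ => (ζ χ.1 * conj ((χ.1 : G → ℂ) (s * x))).re with hr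
  have hrsq : ∀ χ, r χ ^ 2 ≤ Complex.normSq ((χ.1 : G → ℂ) (s * x)) := fun χ => by
    have h := Complex.re_sq_le_normSq (ζ χ.1 * conj ((χ.1 : G → ℂ) (s * x)))
    rw [Complex.normSq_mul, hζ1, one_mul, Complex.normSq_conj, ← pow_two] at h
    exact h
  have hexp : ∀ χ, Complex.normSq ((χ.1 : G → ℂ) (s * x)) + 2 * r χ + 1 ≤ ((d χ : ℝ) + 1) ^ 2 := fun χ => by
    have h := hα χ
    rw [add_comm ((χ.1 : G → ℂ) (s * x)), Complex.normSq_add, hζ1] at h
    linarith
  have hd1 : ∀ χ, (0 : ℝ) ≤ (d χ : ℝ) + 1 := fun χ => by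
    have := hdge χ
    have h : (-1 : ℝ) ≤ (d χ : ℝ) := by exact_mod_cast this
    linarith
  have hrd : ∀ χ, r χ ≤ (d χ : ℝ) := fun χ => by
    by_contra hlt
    nlinarith [hrsq χ, hexp χ, hd1 χ]
  -- the kernels
  set xc : Subgroup.centralizer ({s} : Set G) := ⟨x, Subgroup.mem_centralizer_singleton_iff.2 hxs⟩
  have hxc : (xc : G) = x := rfl
  set cx := Nat.card (Subgroup.centralizer ({xc} : Set (Subgroup.centralizer ({s} : Set G)))) with hcx
  set c := Nat.card (Subgroup.centralizer ({s} : Set G)) with hc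
  have hsx : 2 ∣ orderOf (s * x) := by
    by_contra h
    exact b.s_ne_one (IsPPart.eq Nat.prime_two (isPPart_mul hxs.symm ⟨1, by rw [pow_one, b.s_two]⟩ hx)
      ((isPPart_one_iff Nat.prime_two).2 h))
  have hA : ∑ χ : {χ : IrrCharacter G // χ ∈ pbNon M G}, (χ.1 : G → ℂ) x * conj ((χ.1 : G → ℂ) (s * x)) = -1 := by
    have h := colKer_regular_singular b.hM hx hsx
    rw [colKer_principal, pbFin_sum b.hM, ← Finset.sum_coe_sort (pbNon M G)] at h
    simp only [principal, map_one, mul_one] at h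
    linear_combination h
  have hB : ∑ χ : {χ : IrrCharacter G // χ ∈ pbNon M G}, (χ.1 : G → ℂ) (s * x) * conj ((χ.1 : G → ℂ) (s * x)) =
      (cx : ℂ) - 1 := by
    have h := b.colKer_section_card xc (by rwa [Subgroup.orderOf_mk])
    rw [colKer_principal, pbFin_sum b.hM, ← Finset.sum_coe_sort (pbNon M G)] at h
    simp only [principal, map_one, mul_one] at h
    linear_combination h
  have hA' : ∑ χ : {χ : IrrCharacter G // χ ∈ pbNon M G}, ((Nat.card P' : ℂ) + (d χ : ℂ)) * (d χ : ℂ) = -1 := by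
    have h := b.one_s
    rw [colKer_principal, pbFin_sum b.hM, ← Finset.sum_coe_sort (pbNon M G)] at h
    simp only [principal, map_one, mul_one, hd, map_intCast] at h
    rw [Finset.sum_congr rfl fun χ _ => show (χ.1 : G → ℂ) 1 * (d χ : ℂ) =
      ((Nat.card P' : ℂ) + (d χ : ℂ)) * (d χ : ℂ) by
        rw [irr_apply_one_eq_deg, show (deg (χ.1 : G → ℂ) : ℂ) = (Nat.card P' : ℂ) + (d χ : ℂ) by
          exact_mod_cast hddeg χ]] at h
    linear_combination h
  have hB' : ∑ χ : {χ : IrrCharacter G // χ ∈ pbNon M G}, (d χ : ℂ) * (d χ : ℂ) = (c : ℂ) - 1 := by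
    have h := b.colKer_section_card 1 (by simp)
    rw [colKer_principal, pbFin_sum b.hM, ← Finset.sum_coe_sort (pbNon M G)] at h
    simp only [principal, map_one, mul_one, Subgroup.coe_one, hd, map_intCast] at h
    rw [show Nat.card (Subgroup.centralizer ({1} : Set (Subgroup.centralizer ({s} : Set G)))) = c from
      Nat.card_congr (Equiv.subtypeUnivEquiv fun g => Subgroup.mem_centralizer_singleton_iff.2 (by simp))] at h
    linear_combination h
  have hC1 : (Nat.card P0 : ℂ) * ∑ χ : {χ : IrrCharacter G // χ ∈ pbNon M G},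
      ζ χ.1 * conj ((χ.1 : G → ℂ) (s * x)) = -(cx : ℂ) := by
    rw [Finset.mul_sum, Finset.sum_congr rfl fun χ _ => show (Nat.card P0 : ℂ) * (ζ χ.1 * conj ((χ.1 : G → ℂ) (s * x))) =
      (χ.1 : G → ℂ) x * conj ((χ.1 : G → ℂ) (s * x)) - (χ.1 : G → ℂ) (s * x) * conj ((χ.1 : G → ℂ) (s * x)) by
        simp only [hζ]; field_simp, Finset.sum_sub_distrib, hA, hB]
    ring
  have hC2 : (Nat.card P' : ℂ) * ∑ χ : {χ : IrrCharacter G // χ ∈ pbNon M G}, (d χ : ℂ) = -(c : ℂ) := by
    rw [Finset.mul_sum, Finset.sum_congr rfl fun χ _ => show (Nat.card P' : ℂ) * (d χ : ℂ) =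
      ((Nat.card P' : ℂ) + (d χ : ℂ)) * (d χ : ℂ) - (d χ : ℂ) * (d χ : ℂ) by ring, Finset.sum_sub_distrib, hA', hB']
    ring
  have hR1 : (Nat.card P0 : ℝ) * ∑ χ, r χ = -(cx : ℝ) := by
    have h := congrArg Complex.re hC1
    rw [← Complex.ofReal_natCast, Complex.re_ofReal_mul, Complex.re_sum] at h
    simpa [hr] using h
  have hR2 : (Nat.card P' : ℝ) * ∑ χ : {χ : IrrCharacter G // χ ∈ pbNon M G}, (d χ : ℝ) = -(c : ℝ) := by
    have h := congrArg Complex.re hC2
    rw [← Complex.ofReal_natCast, Complex.re_ofReal_mul, Complex.re_sum] at h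
    simpa using h
  -- comparing the centralizers
  have hPC : P' ≤ (Subgroup.centralizer ({s} : Set G)) := comm_mem_centralizer (fun _ h => b.sq_eq_one h) b.mem
  have hle : Nat.card P' * cx ≤ c * Nat.card P0 := by
    set Pc := P'.subgroupOf (Subgroup.centralizer ({s} : Set G))
    have h1 : Pc.relIndex (Subgroup.centralizer ({xc} : Set (Subgroup.centralizer ({s} : Set G)))) ≤ Pc.index := by
      rw [← Subgroup.relIndex_top_right]
      exact Subgroup.relIndex_le_of_le_right le_top (by rw [Subgroup.relIndex_top_right]; exact Subgroup.index_ne_zero_of_finite)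
    have h2 : Nat.card Pc * Pc.index = c := Subgroup.card_mul_index _
    have h3 : Nat.card (Pc ⊓ (Subgroup.centralizer ({xc} : Set (Subgroup.centralizer ({s} : Set G)))) : Subgroup (Subgroup.centralizer ({s} : Set G))) * Pc.relIndex (Subgroup.centralizer ({xc} : Set (Subgroup.centralizer ({s} : Set G)))) = cx := by
      rw [← Subgroup.inf_relIndex_right, ← Subgroup.relIndex_bot_left,
        Subgroup.relIndex_mul_relIndex ⊥ (Pc ⊓ (Subgroup.centralizer ({xc} : Set (Subgroup.centralizer ({s} : Set G))))) (Subgroup.centralizer ({xc} : Set (Subgroup.centralizer ({s} : Set G)))) bot_le inf_le_right, Subgroup.relIndex_bot_left]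
    have h4 : Nat.card (Pc ⊓ (Subgroup.centralizer ({xc} : Set (Subgroup.centralizer ({s} : Set G)))) : Subgroup (Subgroup.centralizer ({s} : Set G))) = Nat.card P0 := by
      refine Nat.card_congr
        { toFun := fun g => ⟨⟨((g : Subgroup.centralizer ({s} : Set G)) : G), g.2.1⟩, (hP0mem _).2
            (by simpa [hxc] using congrArg Subtype.val (Subgroup.mem_centralizer_singleton_iff.1 g.2.2))⟩
          invFun := fun a => ⟨⟨((a : P') : G), hPC (a : P').2⟩, ⟨(a : P').2,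
            Subgroup.mem_centralizer_singleton_iff.2 (Subtype.ext (by simpa [hxc] using (hP0mem _).1 a.2))⟩⟩
          left_inv := fun g => Subtype.ext (Subtype.ext rfl)
          right_inv := fun a => Subtype.ext (Subtype.ext rfl) }
    have h5 : Nat.card Pc = Nat.card P' := Nat.card_congr (Subgroup.subgroupOfEquivOfLe hPC).toEquiv
    rw [← h2, ← h3, h4, h5]
    calc Nat.card P' * (Nat.card P0 * Pc.relIndex (Subgroup.centralizer ({xc} : Set (Subgroup.centralizer ({s} : Set G))))) ≤ Nat.card P' * (Nat.card P0 * Pc.index) :=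
          Nat.mul_le_mul_left _ (Nat.mul_le_mul_left _ h1)
      _ = Nat.card P' * Pc.index * Nat.card P0 := by ring
  have hleR : (Nat.card P' : ℝ) * (cx : ℝ) ≤ (c : ℝ) * (Nat.card P0 : ℝ) := by exact_mod_cast hle
  have hqpos : (0 : ℝ) < (Nat.card P' : ℝ) := by exact_mod_cast (Nat.card_pos : 0 < Nat.card P')
  have hq0pos : (0 : ℝ) < (Nat.card P0 : ℝ) := by exact_mod_cast (Nat.card_pos : 0 < Nat.card P0)
  have heq : ∀ χ, r χ = (d χ : ℝ) := by
    have h1 : ∑ χ : {χ : IrrCharacter G // χ ∈ pbNon M G}, ((d χ : ℝ) - r χ) ≤ 0 := by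
      rw [Finset.sum_sub_distrib, sub_nonpos]
      refine le_of_mul_le_mul_left ?_ (mul_pos hqpos hq0pos)
      calc (Nat.card P' : ℝ) * (Nat.card P0 : ℝ) * ∑ χ : {χ : IrrCharacter G // χ ∈ pbNon M G}, (d χ : ℝ)
          = (Nat.card P0 : ℝ) * (-(c : ℝ)) := by rw [← hR2]; ring
        _ ≤ (Nat.card P' : ℝ) * (-(cx : ℝ)) := by linarith
        _ = _ := by rw [← hR1]; ring
    intro χ
    have h2 := le_antisymm h1 (Finset.sum_nonneg fun χ _ => by linarith [hrd χ])
    have h3 := (Finset.sum_eq_zero_iff_of_nonneg fun χ _ => by linarith [hrd χ]).1 h2 χ (Finset.mem_univ _)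
    linarith
  have hnorm : ∀ χ, Complex.normSq ((χ.1 : G → ℂ) (s * x)) = (d χ : ℝ) ^ 2 := fun χ => by
    have h1 := hrsq χ
    have h2 := hexp χ
    rw [heq] at h1 h2
    linarith
  have hcc : (cx : ℝ) = (c : ℝ) := by
    have h1 := congrArg Complex.re hB
    have h2 := congrArg Complex.re hB'
    simp only [Complex.mul_conj, Complex.re_sum, Complex.ofReal_re, hnorm, Complex.sub_re, Complex.one_re,
      Complex.natCast_re] at h1 h2
    have h2' : ∑ χ : {χ : IrrCharacter G // χ ∈ pbNon M G}, ((d χ : ℝ)) ^ 2 = (c : ℝ) - 1 := by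
      rw [← h2]
      exact Finset.sum_congr rfl fun χ _ => by simp [pow_two]
    linarith
  have hle' : Nat.card P' ≤ Nat.card P0 := by
    have hcpos : (0 : ℝ) < (c : ℝ) := by
      rw [hc]; exact_mod_cast (Nat.card_pos : 0 < Nat.card (Subgroup.centralizer ({s} : Set G)))
    have : (Nat.card P' : ℝ) ≤ (Nat.card P0 : ℝ) := by
      rw [hcc] at hleR
      exact le_of_mul_le_mul_right (by linarith) hcpos
    exact_mod_cast this
  refine hxCP (Subgroup.mem_centralizer_iff.2 fun p hp => ?_)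
  exact (hP0mem ⟨p, hp⟩).1 ((Subgroup.eq_top_of_le_card _ hle').ge (Subgroup.mem_top _))

/-- The centralizer of each involution is the Sylow 2-subgroup. -/
theorem centralizer_eq (b : Base M u s P) {t : G} (ht : t ∈ (P : Subgroup G)) (ht1 : t ≠ 1) {g : G}
    (hg : g * t = t * g) : g ∈ (P : Subgroup G) := by
  classical
  haveI : Fact (Nat.Prime 2) := ⟨Nat.prime_two⟩
  obtain ⟨n, hn, hnt⟩ := b.transitive b.mem b.s_ne_one ht ht1
  set g' := n⁻¹ * g * n with hg'def
  have hg' : g' * s = s * g' := by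
    have e : s = n⁻¹ * t * n := by rw [← hnt]; group
    rw [e, hg'def]
    calc n⁻¹ * g * n * (n⁻¹ * t * n) = n⁻¹ * (g * t) * n := by group
      _ = n⁻¹ * (t * g) * n := by rw [hg]
      _ = n⁻¹ * t * n * (n⁻¹ * g * n) := by group
  obtain ⟨a, y, hay, hcy, ⟨k, hk⟩, hy⟩ : ∃ a y : G, a * y = g' ∧ Commute a y ∧ (∃ k, orderOf a = 2 ^ k) ∧ ¬ 2 ∣ orderOf y := by
    obtain ⟨a, ha⟩ := exists_isPPart' (p := 2) Nat.prime_two g'
    obtain ⟨y, h⟩ := ha
    exact ⟨a, y, h⟩
  obtain ⟨m, hm0, hm1⟩ := Nat.chineseRemainder (show (orderOf a).Coprime (orderOf y) by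
    rw [hk]; exact (Nat.prime_two.coprime_iff_not_dvd.2 hy).pow_left k) 0 1
  have hyj : y = g' ^ m := by
    rw [← hay, hcy.mul_pow, orderOf_dvd_iff_pow_eq_one.1 (Nat.modEq_zero_iff_dvd.1 hm0),
      pow_eq_pow_iff_modEq.2 hm1, one_mul, pow_one]
  have hys : y * s = s * y := hyj ▸ (Commute.pow_left (show Commute g' s from hg') m).eq
  have hy1 := b.eq_one_of_odd_commute hys hy
  rw [hy1, mul_one] at hay
  rw [← hay] at hg'
  have hle : Subgroup.zpowers a ≤ Subgroup.normalizer ((P : Subgroup G) : Set G) :=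
    Subgroup.zpowers_le.2 (b.centralizer_le_normalizer b.mem b.s_ne_one (Subgroup.mem_centralizer_singleton_iff.2 hg'))
  have hsup : IsPGroup 2 ((Subgroup.zpowers a ⊔ (P : Subgroup G) : Subgroup G)) :=
    (IsPGroup.of_card (n := k) (by rw [Nat.card_zpowers, hk]) : IsPGroup 2 (Subgroup.zpowers a)).to_sup_of_normal_right' P.2 hle
  have haP : a ∈ (P : Subgroup G) :=
    (P.is_maximal' hsup le_sup_right).le (Subgroup.mem_sup_left (Subgroup.mem_zpowers a))
  have := (Subgroup.mem_normalizer_iff.1 hn a).1 haP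
  rwa [hay, hg'def, show n * (n⁻¹ * g * n) * n⁻¹ = g by group] at this

end Base

end Cfsg.Lib.Deficit
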