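import Cfsg.Agent.Chars.Sums
import Cfsg.Agent.Chars.Construct
import Cfsg.Agent.Chars.Values

/-!
# The part of a character on which a normal subgroup acts by a linear character
-/

set_option autoImplicit false
set_option linter.unusedSectionVars false

namespace Cfsg.Lib.Deficit

open Cfsg Cfsg.Lib.Chars
open scoped ComplexConjugate

universe u

variable {H : Type u} [Group H] [Fintype H]

/-- The average of a character against an invariant linear character of a normal subgroup. -/
noncomputable def avgPart (E : Subgroup H) (lam : E →* ℂˣ) (χ : H → ℂ) (h : H) : ℂ :=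
  (Nat.card E : ℂ)⁻¹ * ∑ᶠ e : E, (lam e : ℂ) * χ ((e : H) * h)

theorem avgPart_eq (E : Subgroup H) [Fintype E] (lam : E →* ℂˣ) (χ : H → ℂ) (h : H) :
    avgPart E lam χ h = (Nat.card E : ℂ)⁻¹ * ∑ e : E, (lam e : ℂ) * χ ((e : H) * h) := by
  rw [avgPart, finsum_eq_sum_of_fintype]

/-- The average of a character against an invariant linear character is a character. -/
theorem isCharacter_avgPart (E : Subgroup H) [E.Normal] (lam : E →* ℂˣ)
    (hinv : ∀ (g : H) (e : E), lam ⟨g * e * g⁻¹, Subgroup.Normal.conj_mem inferInstance _ e.2 g⟩ = lam e)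
    {χ : H → ℂ} (hχ : IsCharacter H χ) : IsCharacter H (avgPart E lam χ) := by
  classical
  haveI := Fintype.ofFinite E
  set c : ℂ := (Nat.card E : ℂ) with hc
  have hc0 : c ≠ 0 := Nat.cast_ne_zero.2 Nat.card_pos.ne'
  let F : H → ℂ := fun x => if hx : x ∈ E then (lam ⟨x, hx⟩ : ℂ) else 0
  have hF : IsClassFunction H F := fun x g => by
    by_cases hx : x ∈ E
    · have hgx : g * x * g⁻¹ ∈ E := Subgroup.Normal.conj_mem inferInstance _ hx g
      simp only [F, dif_pos hx, dif_pos hgx]
      exact congrArg Units.val (hinv g ⟨x, hx⟩)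
    · have hgx : g * x * g⁻¹ ∉ E := fun h => hx (by
        simpa [mul_assoc] using Subgroup.Normal.conj_mem inferInstance _ h g⁻¹)
      simp only [F, dif_neg hx, dif_neg hgx]
  have hconv : ∀ Φ : H → ℂ, ∑ x, F x * Φ x = ∑ e : E, (lam e : ℂ) * Φ e := fun Φ => by
    rw [← Finset.sum_subset (Finset.subset_univ (Finset.univ.filter (· ∈ E))) fun x _ hx => by
      simp only [Finset.mem_filter, Finset.mem_univ, true_and] at hx
      simp [F, hx]]
    rw [Finset.sum_subtype (p := (· ∈ E)) _ (fun x => by simp) (fun x => F x * Φ x)]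
    exact Finset.sum_congr rfl fun e _ => by simp [F]
  -- on an irreducible character the average is zero or one
  have hirr : ∀ θ : IrrCharacter H, ∃ b : ℕ, ∀ h : H, avgPart E lam (θ : H → ℂ) h = b * (θ : H → ℂ) h := by
    intro θ
    obtain ⟨d, ρ, hρ, hθ⟩ := θ.2
    haveI := hρ
    set a := (∑ x, F x * ρ.character x) / (Module.finrank ℂ (Fin d → ℂ) : ℂ)
    have hscal : ∀ h : H, ∑ e : E, (lam e : ℂ) * (θ : H → ℂ) ((e : H) * h) = a * (θ : H → ℂ) h := fun h => by
      rw [← hconv fun x => (θ : H → ℂ) (x * h), ← hθ]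
      exact sum_smul_rep_trace ρ hF h
    have h1 : (θ : H → ℂ) 1 ≠ 0 := IsIrrCharacter.apply_one_ne_zero θ.2
    have hsq : a * a * (θ : H → ℂ) 1 = c * (a * (θ : H → ℂ) 1) := by
      calc a * a * (θ : H → ℂ) 1
          = ∑ e : E, (lam e : ℂ) * (a * (θ : H → ℂ) e) := by
            rw [mul_assoc, ← hscal 1, Finset.mul_sum]
            exact Finset.sum_congr rfl fun e _ => by rw [mul_one]; ring
        _ = ∑ e : E, ∑ e' : E, (lam e : ℂ) * ((lam e' : ℂ) * (θ : H → ℂ) ((e' : H) * e)) := by
            refine Finset.sum_congr rfl fun e _ => ?_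
            rw [← hscal, Finset.mul_sum]
        _ = ∑ _e : E, ∑ g : E, (lam g : ℂ) * (θ : H → ℂ) g := by
            refine Finset.sum_congr rfl fun e _ => ?_
            refine Fintype.sum_equiv (Equiv.mulRight e) _ _ fun e' => ?_
            simp only [Equiv.coe_mulRight, Subgroup.coe_mul, map_mul, Units.val_mul]
            ring
        _ = c * (a * (θ : H → ℂ) 1) := by
            rw [Finset.sum_const, Finset.card_univ, ← Nat.card_eq_fintype_card, nsmul_eq_mul, hc, ← hscal 1]
            simp
    have ha : a = 0 ∨ a = c := by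
      rcases eq_or_ne a 0 with h | h
      · exact Or.inl h
      · refine Or.inr (mul_left_cancel₀ h (mul_right_cancel₀ h1 ?_))
        linear_combination hsq
    rcases ha with ha | ha
    · exact ⟨0, fun h => by rw [avgPart_eq, hscal, ha]; simp⟩
    · exact ⟨1, fun h => by rw [avgPart_eq, hscal, ha, ← hc]; field_simp; simp⟩
  choose b hb using hirr
  obtain ⟨m, hm⟩ := IsCharacter.exists_decomp hχ
  have e : avgPart E lam χ = ∑ θ : IrrCharacter H, (m θ * b θ) • (θ : H → ℂ) := funext fun h => by
    rw [Finset.sum_apply, avgPart_eq]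
    have e1 : ∀ x : H, χ x = ∑ θ : IrrCharacter H, (m θ : ℂ) * (θ : H → ℂ) x := fun x => by
      rw [hm, Finset.sum_apply]; simp
    simp only [e1, Finset.mul_sum]
    rw [Finset.sum_comm]
    refine Finset.sum_congr rfl fun θ _ => ?_
    simp only [Pi.smul_apply, nsmul_eq_mul, Nat.cast_mul]
    rw [mul_assoc, ← hb θ h, avgPart_eq, Finset.mul_sum, Finset.mul_sum]
    exact Finset.sum_congr rfl fun e _ => by ring
  rw [e]
  exact IsCharacter.sum _ _ fun θ _ => IsCharacter.nsmul (isCharacter_of_irr θ.2) _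

/-- A character of degree one has values of norm one, is multiplicative and takes roots of unity. -/
theorem deg_one_mul {f : H → ℂ} (hf : IsCharacter H f) (h1 : f 1 = 1) (a b : H) :
    f (a * b) = f a * f b := by
  obtain ⟨g, rfl⟩ := exists_hom_of_deg_one hf h1
  simp

theorem norm_deg_one {f : H → ℂ} (hf : IsCharacter H f) (h1 : f 1 = 1) (a : H) : ‖f a‖ = 1 := by
  obtain ⟨g, rfl⟩ := exists_hom_of_deg_one hf h1
  have h : (g a : ℂ) ^ orderOf a = 1 := by
    rw [← Units.val_pow_eq_pow_val, ← map_pow, pow_orderOf_eq_one, map_one, Units.val_one]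
  exact Complex.norm_eq_one_of_pow_eq_one h (orderOf_pos a).ne'

/-- A character of degree one takes the value one on an element of odd order conjugate to its inverse. -/
theorem deg_one_eq_one_of_inverted {f : H → ℂ} (hf : IsCharacter H f) (h1 : f 1 = 1) {a b : H}
    (ho : Odd (orderOf a)) (hb : b * a * b⁻¹ = a⁻¹) : f a = 1 := by
  obtain ⟨g, rfl⟩ := exists_hom_of_deg_one hf h1
  have h2 : g a = (g a)⁻¹ := by
    have h := congrArg g hb
    rw [map_mul, map_mul, map_inv, map_inv, mul_comm (g b), mul_inv_cancel_right] at h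
    exact h
  have h3 : g a ^ 2 = 1 := by rw [pow_two]; nth_rw 2 [h2]; rw [mul_inv_cancel]
  have h4 : orderOf (g a) ∣ orderOf a := orderOf_map_dvd g a
  have h5 : orderOf (g a) ∣ 2 := orderOf_dvd_of_pow_eq_one h3
  have h6 : g a = 1 := orderOf_eq_one_iff.1 (Nat.eq_one_of_dvd_coprimes ho.coprime_two_right h4 h5)
  show ((g a : ℂˣ) : ℂ) = 1
  rw [h6, Units.val_one]

end Cfsg.Lib.Deficit
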