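import Cfsg.Agent.Blocks.ConstantDeficit.ClosedBasics
import Cfsg.Agent.S0217
import Cfsg.Agent.S0205

/-!
# When an abelian Sylow 2-subgroup is covered by the core

If on no section of index at least four the normalizer is transitive, the Sylow 2-subgroup and the core
generate a normal subgroup.
-/

set_option autoImplicit false
set_option linter.style.haveILetI false
set_option linter.unusedSectionVars false

namespace Cfsg.Lib.Deficit

open Subgroup

universe u

variable {X : Type u} [Group X] [Finite X]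

/-- No action of the normalizer is transitive on a section of index at least four. -/
def NoTransitive (P : Sylow 2 X) : Prop :=
  ∀ U : Subgroup X, U ≤ (P : Subgroup X) → 4 * Nat.card U ≤ Nat.card (P : Subgroup X) →
    ∃ a ∈ (P : Subgroup X), a ∉ U ∧ ∃ b ∈ (P : Subgroup X), b ∉ U ∧
      ∀ n ∈ normalizer ((P : Subgroup X) : Set X), (∀ x ∈ U, n * x * n⁻¹ = x) → n * a * n⁻¹ * b⁻¹ ∉ U

theorem comm_of_elementary {P : Sylow 2 X} (hP : ∀ t ∈ (P : Subgroup X), t * t = 1) {a c : X}
    (ha : a ∈ (P : Subgroup X)) (hc : c ∈ (P : Subgroup X)) : a * c = c * a := by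
  have hi : ∀ {t : X}, t ∈ (P : Subgroup X) → t⁻¹ = t := fun ht => inv_eq_of_mul_eq_one_right (hP _ ht)
  calc a * c = (a * c)⁻¹ := (hi (mul_mem ha hc)).symm
    _ = c * a := by rw [mul_inv_rev, hi ha, hi hc]

theorem isMulCommutative_of_elementary {P : Sylow 2 X} (hP : ∀ t ∈ (P : Subgroup X), t * t = 1) :
    IsMulCommutative (P : Subgroup X) :=
  ⟨⟨fun a c => Subtype.ext (comm_of_elementary hP a.2 c.2)⟩⟩

/-- An odd power of the normalizer centralises an abelian Sylow 2-subgroup. -/
theorem exists_odd_pow_centralizes (P : Sylow 2 X) [IsMulCommutative (P : Subgroup X)] :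
    ∃ m : ℕ, ¬ 2 ∣ m ∧ ∀ n ∈ normalizer ((P : Subgroup X) : Set X),
      n ^ m ∈ centralizer ((P : Subgroup X) : Set X) := by
  set N := normalizer ((P : Subgroup X) : Set X)
  set C := centralizer ((P : Subgroup X) : Set X)
  haveI : (C.subgroupOf N).Normal := by
    refine ⟨fun c hc g => ?_⟩
    rw [Subgroup.mem_subgroupOf, Subgroup.mem_centralizer_iff] at hc ⊢
    intro p hp
    have h := hc _ ((Subgroup.mem_normalizer_iff''.1 g.2 p).1 hp)
    show p * ((g : X) * c * (g : X)⁻¹) = (g : X) * c * (g : X)⁻¹ * p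
    calc p * ((g : X) * c * (g : X)⁻¹) = g * (((g : X)⁻¹ * p * g) * c) * (g : X)⁻¹ := by group
      _ = g * (c * ((g : X)⁻¹ * p * g)) * (g : X)⁻¹ := by rw [h]
      _ = (g : X) * c * (g : X)⁻¹ * p := by group
  refine ⟨(C.subgroupOf N).index, fun hd => P.not_dvd_index ?_, fun n hn => ?_⟩
  · refine hd.trans ?_
    refine (Subgroup.index_dvd_of_le (H := (P : Subgroup X).subgroupOf N)
      (Subgroup.comap_mono (le_centralizer _))).trans ?_
    exact Dvd.intro _ (relIndex_mul_index le_normalizer)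
  · exact Subgroup.mem_subgroupOf.1 ((C.subgroupOf N).pow_index_mem ⟨n, hn⟩)

/-- Four elements: a moving normalizer is transitive. -/
theorem normalizer_le_centralizer_of_four (P : Sylow 2 X) (hP : ∀ t ∈ (P : Subgroup X), t * t = 1)
    (h4 : Nat.card (P : Subgroup X) ≤ 4)
    (hno : Nat.card (P : Subgroup X) = 4 → NoTransitive P) :
    normalizer ((P : Subgroup X) : Set X) ≤ centralizer ((P : Subgroup X) : Set X) := by
  classical
  haveI := isMulCommutative_of_elementary hP
  intro n hn
  rw [Subgroup.mem_centralizer_iff]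
  by_contra hne
  obtain ⟨a, ha, hne⟩ : ∃ a ∈ (P : Subgroup X), n * a * n⁻¹ ≠ a := by
    by_contra! h
    refine hne fun p hp => ?_
    conv_lhs => rw [← h p hp]
    group
  have hmem : ∀ x ∈ (P : Subgroup X), n * x * n⁻¹ ∈ (P : Subgroup X) := fun x hx =>
    (Subgroup.mem_normalizer_iff.1 hn x).1 hx
  set c : X → X := fun x => n * x * n⁻¹ with hcdef
  have hinj : Function.Injective c := fun x y h => mul_left_cancel (mul_right_cancel h)
  have ha1 : a ≠ 1 := fun h => hne (by rw [h, mul_one, mul_inv_cancel])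
  set b := c a with hb
  have hbP : b ∈ (P : Subgroup X) := hmem a ha
  have hb1 : b ≠ 1 := fun h => ha1 (hinj (h.trans (by simp [hcdef])))
  have hba : b ≠ a := hne
  have hab : a * b ≠ 1 := fun h => hba (mul_left_cancel (h.trans (hP a ha).symm))
  -- the four elements
  haveI := Fintype.ofFinite (P : Subgroup X)
  let T : Finset X := {1, a, b, a * b}
  have hT : T.card = 4 := by
    simp only [T]
    rw [Finset.card_insert_of_notMem, Finset.card_insert_of_notMem, Finset.card_pair]
    · exact fun h => ha1 (right_eq_mul.1 h)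
    · simp only [Finset.mem_insert, Finset.mem_singleton, not_or]
      exact ⟨fun h => hba h.symm, fun h => hb1 (left_eq_mul.1 h)⟩
    · simp only [Finset.mem_insert, Finset.mem_singleton, not_or]
      exact ⟨ha1.symm, hb1.symm, hab.symm⟩
  have hTP : T ⊆ ((P : Subgroup X) : Set X).toFinset := by
    intro x hx
    simp only [T, Finset.mem_insert, Finset.mem_singleton] at hx
    rw [Set.mem_toFinset]
    rcases hx with rfl | rfl | rfl | rfl
    · exact one_mem _
    · exact ha
    · exact hbP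
    · exact mul_mem ha hbP
  have hcard : ((P : Subgroup X) : Set X).toFinset.card = Nat.card (P : Subgroup X) := by
    rw [Nat.card_eq_fintype_card, Set.toFinset_card]
    exact Fintype.card_congr (Equiv.refl _)
  have hfour : Nat.card (P : Subgroup X) = 4 := by
    have := Finset.card_le_card hTP
    omega
  have hall : ∀ x ∈ (P : Subgroup X), x = 1 ∨ x = a ∨ x = b ∨ x = a * b := by
    intro x hx
    have hx' : x ∈ T := by
      rw [Finset.eq_of_subset_of_card_le hTP (by omega)]
      exact Set.mem_toFinset.2 hx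
    simpa [T] using hx'
  have hc1 : c 1 = 1 := by simp [hcdef]
  have hc2 : c (a * b) = c a * c b := by simp only [hcdef]; group
  -- the image of `b`
  have hcb : c b = a * b := by
    rcases hall _ (hmem b hbP) with h | h | h | h
    · exact absurd (hinj (h.trans hc1.symm)) hb1
    · exfalso
      -- then the square centralises
      obtain ⟨m, hm, hmC⟩ := exists_odd_pow_centralizes P
      obtain ⟨j, rfl⟩ : ∃ j, m = 2 * j + 1 := ⟨m / 2, by omega⟩
      have h2 : Commute (n * n) a := by
        have : n * (n * a * n⁻¹) * n⁻¹ = a := h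
        calc n * n * a = n * (n * a * n⁻¹) * n⁻¹ * (n * n) := by group
          _ = a * (n * n) := by rw [this]
      have hj : Commute (n ^ (2 * j)) a := by
        rw [pow_mul, pow_two]; exact h2.pow_left j
      have ht : a * n ^ (2 * j + 1) = n ^ (2 * j + 1) * a := Subgroup.mem_centralizer_iff.1 (hmC n hn) a ha
      refine hne ?_
      rw [pow_succ, ← mul_assoc, ← hj.eq, mul_assoc, mul_assoc] at ht
      rw [← mul_left_cancel ht, mul_inv_cancel_right]
    · exact absurd (hinj h) hba
    · exact h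
  have hcab : c (a * b) = a := by
    rw [hc2, hcb, ← hb, ← mul_assoc, comm_of_elementary hP hbP ha, mul_assoc, hP b hbP, mul_one]
  obtain ⟨x, hx, hx1, y, hy, hy1, hxy⟩ := hno hfour ⊥ bot_le (by rw [Subgroup.card_bot, mul_one, hfour])
  have key : ∀ g ∈ normalizer ((P : Subgroup X) : Set X), g * x * g⁻¹ ≠ y := fun g hg e =>
    hxy g hg (fun z hz => by rw [Subgroup.mem_bot.1 hz]; simp) (Subgroup.mem_bot.2 (by rw [e, mul_inv_cancel]))
  have k0 : x ≠ y := fun e => key 1 (one_mem _) (by simpa using e)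
  have k1 : c x ≠ y := key n hn
  have k2 : c (c x) ≠ y := fun e => key (n * n) (mul_mem hn hn) (by rw [← e]; simp only [hcdef]; group)
  rw [Subgroup.mem_bot] at hx1 hy1
  rcases hall x hx with hX | hX | hX | hX <;> rcases hall y hy with hY | hY | hY | hY
  · exact hx1 hX
  · exact hx1 hX
  · exact hx1 hX
  · exact hx1 hX
  · exact hy1 hY
  · exact k0 (hX.trans hY.symm)
  · exact k1 (by rw [hX, hY])
  · exact k2 (by rw [hX, hY, ← hb, hcb])
  · exact hy1 hY
  · exact k2 (by rw [hX, hY, hcb, hcab])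
  · exact k0 (hX.trans hY.symm)
  · exact k1 (by rw [hX, hY, hcb])
  · exact hy1 hY
  · exact k1 (by rw [hX, hY, hcab])
  · exact k2 (by rw [hX, hY, hcab])
  · exact k0 (hX.trans hY.symm)

/-- A proper subgroup containing the normalizer and the centralizers of involutions gives one class. -/
theorem isConj_of_container (P : Sylow 2 X) (hP : ∀ t ∈ (P : Subgroup X), t * t = 1) {H : Subgroup X}
    (hH : H ≠ ⊤) (hN : normalizer ((P : Subgroup X) : Set X) ≤ H)
    (hC : ∀ a ∈ (P : Subgroup X), a ≠ 1 → centralizer ({a} : Set X) ≤ H) {a b : X}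
    (ha : a ∈ (P : Subgroup X)) (ha1 : a ≠ 1) (hb : b ∈ (P : Subgroup X)) (hb1 : b ≠ 1) : IsConj a b := by
  haveI : Fact (Nat.Prime 2) := ⟨Nat.prime_two⟩
  obtain ⟨j, hjH, hj⟩ : ∃ j, j ∉ H ∧ j * j = 1 := by
    by_contra! hall
    refine hH (eq_top_iff.2 ?_)
    set K := normalClosure ((P : Subgroup X) : Set X)
    have hK : K ≤ H := by
      rw [show K = Subgroup.closure (Group.conjugatesOfSet ((P : Subgroup X) : Set X)) from rfl, Subgroup.closure_le]
      intro x hx
      obtain ⟨p, hp, hpx⟩ := Group.mem_conjugatesOfSet_iff.1 hx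
      obtain ⟨g, rfl⟩ := isConj_iff.1 hpx
      by_contra hxH
      refine hall _ hxH ?_
      calc g * p * g⁻¹ * (g * p * g⁻¹) = g * (p * p) * g⁻¹ := by group
        _ = 1 := by rw [hP p hp, mul_one, mul_inv_cancel]
    rw [← Sylow.normalizer_sup_eq_top' P (subset_normalClosure : ((P : Subgroup X) : Set X) ⊆ K)]
    exact sup_le hN hK
  have key : ∀ i ∈ (P : Subgroup X), i ≠ 1 → IsConj j i := by
    intro i hi hi1
    by_contra hne
    obtain ⟨z, hz, hz1, hzi, hzj⟩ := Cfsg.Lib.CoThreeRecog.conj_or_common (hP i hi) hj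
      (fun g e => hne (isConj_iff.2 ⟨g, e⟩))
    have hzH : z ∈ H := hC i hi hi1 (Subgroup.mem_centralizer_singleton_iff.2 hzi)
    obtain ⟨Q, hQ⟩ := (IsPGroup.of_card (n := 1) (by
      rw [Nat.card_zpowers, pow_one, Subgroup.orderOf_mk, orderOf_eq_prime (by rwa [pow_two]) hz1]) :
      IsPGroup 2 (zpowers (⟨z, hzH⟩ : H))).exists_le_sylow
    obtain ⟨h, hh⟩ := MulAction.exists_smul_eq H Q (P.subtype (le_normalizer.trans hN))
    have hm : h * (⟨z, hzH⟩ : H) * h⁻¹ ∈ ((P.subtype (le_normalizer.trans hN) : Sylow 2 H) : Subgroup H) := by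
      rw [← hh, Sylow.coe_subgroup_smul]
      exact Subgroup.smul_mem_pointwise_smul _ (MulAut.conj h) _ (hQ (mem_zpowers _))
    have hm' : (h : X) * z * (h : X)⁻¹ ∈ (P : Subgroup X) := hm
    have h1 : (h : X) * z * (h : X)⁻¹ ≠ 1 := fun e => hz1 (conj_eq_one_iff.1 e)
    have h2 : (h : X) * j * (h : X)⁻¹ ∈ H := hC _ hm' h1 (Subgroup.mem_centralizer_singleton_iff.2 (by
      calc (h : X) * j * (h : X)⁻¹ * (h * z * (h : X)⁻¹) = h * (j * z) * (h : X)⁻¹ := by group
        _ = h * (z * j) * (h : X)⁻¹ := by rw [hzj]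
        _ = h * z * (h : X)⁻¹ * (h * j * (h : X)⁻¹) := by group))
    have h3 := H.mul_mem (H.mul_mem (H.inv_mem h.2) h2) h.2
    rw [show (h : X)⁻¹ * ((h : X) * j * (h : X)⁻¹) * h = j by group] at h3
    exact hjH h3
  exact (key a ha ha1).symm.trans (key b hb hb1)

/-- A proper subgroup cannot contain the normalizer and all those centralizers. -/
theorem eq_top_of_container (P : Sylow 2 X) (hP : ∀ t ∈ (P : Subgroup X), t * t = 1) (hno : NoTransitive P)
    (h4 : 4 ≤ Nat.card (P : Subgroup X)) {H : Subgroup X} (hN : normalizer ((P : Subgroup X) : Set X) ≤ H)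
    (hC : ∀ a ∈ (P : Subgroup X), a ≠ 1 → centralizer ({a} : Set X) ≤ H) : H = ⊤ := by
  haveI : Fact (Nat.Prime 2) := ⟨Nat.prime_two⟩
  haveI := isMulCommutative_of_elementary hP
  by_contra hH
  obtain ⟨a, ha, ha1, b, hb, hb1, hab⟩ := hno ⊥ bot_le (by rw [Subgroup.card_bot, mul_one]; exact h4)
  rw [Subgroup.mem_bot] at ha1 hb1
  obtain ⟨g, hg⟩ := isConj_iff.1 (isConj_of_container P hP hH hN hC ha ha1 hb hb1)
  obtain ⟨n, hn, hn'⟩ := P.conj_eq_normalizer_conj_of_mem a g⁻¹ ha (by rw [inv_inv, hg]; exact hb)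
  refine hab n⁻¹ (inv_mem hn) (fun z hz => by rw [Subgroup.mem_bot.1 hz]; simp) (Subgroup.mem_bot.2 ?_)
  rw [inv_inv, ← hn', inv_inv, hg, mul_inv_cancel]

theorem comm_mem_centralizer {P : Sylow 2 X} (hP : ∀ t ∈ (P : Subgroup X), t * t = 1) {a : X}
    (ha : a ∈ (P : Subgroup X)) : (P : Subgroup X) ≤ centralizer ({a} : Set X) := fun x hx =>
  Subgroup.mem_centralizer_singleton_iff.2 (comm_of_elementary hP hx ha)

theorem mem_centralizerCore {a x : X} :
    x ∈ Cfsg.centralizerPPrimeCore 2 a ↔
      ∃ h : x ∈ centralizer ({a} : Set X), (⟨x, h⟩ : centralizer ({a} : Set X)) ∈ Cfsg.oddCore _ := by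
  constructor
  · rintro ⟨y, hy, rfl⟩; exact ⟨y.2, hy⟩
  · rintro ⟨h, hx⟩; exact ⟨⟨x, h⟩, hx, rfl⟩

theorem not_two_dvd_centralizerCore (a : X) : ¬ 2 ∣ Nat.card (Cfsg.centralizerPPrimeCore 2 a) :=
  Nat.prime_two.coprime_iff_not_dvd.1 (Nat.coprime_comm.1 (Cfsg.Lib.Components.centralizerPPrimeCore_card_coprime a))

/-- Balance, when the centralizers are covered by their cores. -/
theorem balance (P : Sylow 2 X) (hP : ∀ t ∈ (P : Subgroup X), t * t = 1) {a b : X}
    (ha : a ∈ (P : Subgroup X)) (hb : b ∈ (P : Subgroup X))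
    (hcl : Closed (P.subtype (comm_mem_centralizer hP hb))) :
    Cfsg.centralizerPPrimeCore 2 a ⊓ centralizer {b} ≤ Cfsg.centralizerPPrimeCore 2 b := by
  rintro z ⟨hza, hzb⟩
  haveI : IsMulCommutative ((P.subtype (comm_mem_centralizer hP hb) : Sylow 2 (centralizer ({b} : Set X))) :
      Subgroup (centralizer ({b} : Set X))) :=
    ⟨⟨fun x y => Subtype.ext (Subtype.ext (comm_of_elementary hP x.2 y.2))⟩⟩
  refine mem_centralizerCore.2 ⟨hzb, mem_core_of_centralizes (P.subtype (comm_mem_centralizer hP hb)) hcl ?_ ?_⟩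
  · rw [Subgroup.orderOf_mk]; exact not_two_dvd_orderOf_of_mem (not_two_dvd_centralizerCore a) hza
  intro p hp
  refine mem_core_of_mem_sup (P.subtype (comm_mem_centralizer hP hb)).2 ?_ ?_
  · exact mul_mem ((hcl : (_ ⊔ _ : Subgroup _).Normal).conj_mem _ (Subgroup.mem_sup_left hp) _)
      (inv_mem (Subgroup.mem_sup_left hp))
  · rw [← Subgroup.orderOf_coe]
    refine not_two_dvd_orderOf_of_mem (not_two_dvd_centralizerCore a) ?_
    have hpa : (p : X) ∈ normalizer (Cfsg.centralizerPPrimeCore 2 a : Set X) :=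
      Cfsg.Lib.Components.centralizer_le_normalizer_centralizerPPrimeCore a (comm_mem_centralizer hP ha hp)
    show z * (p : X) * z⁻¹ * (p : X)⁻¹ ∈ _
    rw [mul_assoc, mul_assoc, ← mul_assoc (p : X)]
    exact mul_mem hza ((Subgroup.mem_normalizer_iff.1 hpa _).1 (inv_mem hza))

/-- The centralizer is the product of its core with a normalizer. -/
theorem centralizer_le_of_closed (P : Sylow 2 X) (hP : ∀ t ∈ (P : Subgroup X), t * t = 1) {a : X}
    (ha : a ∈ (P : Subgroup X)) (hcl : Closed (P.subtype (comm_mem_centralizer hP ha))) {H : Subgroup X}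
    (hN : normalizer ((P : Subgroup X) : Set X) ≤ H) (hO : Cfsg.centralizerPPrimeCore 2 a ≤ H) :
    centralizer ({a} : Set X) ≤ H := by
  haveI : Fact (Nat.Prime 2) := ⟨Nat.prime_two⟩
  set C := centralizer ({a} : Set X)
  set Pc := P.subtype (comm_mem_centralizer hP ha)
  haveI : ((Pc : Subgroup C) ⊔ Cfsg.oddCore C).Normal := hcl
  have h := Sylow.normalizer_sup_eq_top' Pc (le_sup_left : (Pc : Subgroup C) ≤ (Pc : Subgroup C) ⊔ Cfsg.oddCore C)
  have hnorm : ∀ n : C, n ∈ normalizer ((Pc : Subgroup C) : Set C) → (n : X) ∈ normalizer ((P : Subgroup X) : Set X) := by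
    intro n hn
    rw [Subgroup.mem_normalizer_iff]
    intro x
    constructor
    · intro hx; exact (Subgroup.mem_normalizer_iff.1 hn ⟨x, comm_mem_centralizer hP ha hx⟩).1 hx
    · intro hx
      have h1 := (Subgroup.mem_normalizer_iff''.1 hn ⟨_, comm_mem_centralizer hP ha hx⟩).1 hx
      have h2 : (n : X)⁻¹ * ((n : X) * x * (n : X)⁻¹) * n ∈ (P : Subgroup X) := h1
      rwa [show (n : X)⁻¹ * ((n : X) * x * (n : X)⁻¹) * n = x by group] at h2
  have hle : normalizer ((Pc : Subgroup C) : Set C) ⊔ ((Pc : Subgroup C) ⊔ Cfsg.oddCore C) ≤ H.comap C.subtype :=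
    sup_le (fun n hn => hN (hnorm n hn)) (sup_le (fun n hn => hN (le_normalizer hn))
      (fun n hn => hO ⟨n, hn, rfl⟩))
  intro x hx
  exact hle (h.ge (Subgroup.mem_top ⟨x, hx⟩))

/-- The criterion. -/
theorem closed_of_noTransitive : ∀ (n : ℕ) {X : Type u} [Group X] [Finite X] (P : Sylow 2 X),
    Nat.card (P : Subgroup X) = n → (∀ t ∈ (P : Subgroup X), t * t = 1) → NoTransitive P → Closed P := by
  intro n
  induction n using Nat.strong_induction_on with
  | _ n ih =>
  intro X _ _ P hn hP hno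
  haveI : Fact (Nat.Prime 2) := ⟨Nat.prime_two⟩
  haveI := isMulCommutative_of_elementary hP
  by_cases h4 : Nat.card (P : Subgroup X) ≤ 4
  · exact closed_of_central P (normalizer_le_centralizer_of_four P hP h4 fun _ => hno)
  obtain ⟨k, hk⟩ := IsPGroup.iff_card.1 P.2
  have h8 : 8 ≤ Nat.card (P : Subgroup X) := by
    have hk3 : 3 ≤ k := by
      by_contra hlt
      have : 2 ^ k ≤ 2 ^ 2 := Nat.pow_le_pow_right (by norm_num) (by omega)
      omega
    rw [hk]
    exact (by norm_num : (8 : ℕ) = 2 ^ 3) ▸ Nat.pow_le_pow_right (by norm_num) hk3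
  -- the centralizers are covered by their cores
  have hcl : ∀ a (ha : a ∈ (P : Subgroup X)), a ≠ 1 → Closed (P.subtype (comm_mem_centralizer hP ha)) := by
    intro a ha ha1
    set Pc := P.subtype (comm_mem_centralizer hP ha) with hPc
    set z : (centralizer ({a} : Set X)) := ⟨a, Subgroup.mem_centralizer_singleton_iff.2 rfl⟩ with hzdef
    have hz : z ∈ center (centralizer ({a} : Set X)) := Subgroup.mem_center_iff.2 fun x => Subtype.ext (Subgroup.mem_centralizer_singleton_iff.1 x.2)
    have hz2 : orderOf z = 2 := by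
      rw [hzdef, Subgroup.orderOf_mk]
      exact orderOf_eq_prime (by rw [pow_two]; exact hP a ha) ha1
    haveI : (zpowers z).Normal := ⟨fun x hx g => by
      rw [Subgroup.mem_center_iff.1 ((zpowers_le).2 hz hx) g, mul_inv_cancel_right]; exact hx⟩
    have hzP : z ∈ (Pc : Subgroup (centralizer ({a} : Set X))) := ha
    refine closed_of_quotient hz hz2 Pc hzP ?_
    set π := QuotientGroup.mk' (zpowers z) with hπ
    have hZP : zpowers z ≤ (Pc : Subgroup (centralizer ({a} : Set X))) := zpowers_le.2 hzP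
    have hcard : ∀ S : Subgroup (centralizer ({a} : Set X)), zpowers z ≤ S → Nat.card S = 2 * Nat.card (S.map π) := by
      intro S hS
      have h1 := Subgroup.card_eq_card_quotient_mul_card_subgroup ((zpowers z).subgroupOf S)
      rw [Nat.card_congr (Subgroup.subgroupOfEquivOfLe hS).toEquiv, Nat.card_zpowers, hz2] at h1
      rw [h1, mul_comm]
      congr 1
      refine Nat.card_congr (Equiv.trans ?_ (QuotientGroup.quotientKerEquivRange (π.comp S.subtype)).toEquiv |>.trans
        (MulEquiv.subgroupCongr (by rw [MonoidHom.range_comp, Subgroup.range_subtype])).toEquiv)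
      exact (QuotientGroup.quotientMulEquivOfEq (by
        rw [← MonoidHom.comap_ker, hπ, QuotientGroup.ker_mk']; rfl)).toEquiv
    have hPccard : Nat.card (Pc : Subgroup (centralizer ({a} : Set X))) = Nat.card (P : Subgroup X) :=
      Nat.card_congr (Subgroup.subgroupOfEquivOfLe (comm_mem_centralizer hP ha)).toEquiv
    refine ih (Nat.card ((Pc : Subgroup (centralizer ({a} : Set X))).map π)) ?_ (Pc.mapSurjective (QuotientGroup.mk'_surjective _)) rfl ?_ ?_
    · have := hcard _ hZP
      omega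
    · rintro _ ⟨x, hx, rfl⟩
      rw [← map_mul, show x * x = 1 from Subtype.ext (hP _ hx), map_one]
    · intro U' hU' hU'4
      set U0 : Subgroup (centralizer ({a} : Set X)) := (Pc : Subgroup (centralizer ({a} : Set X))) ⊓ U'.comap π with hU0
      have hzU : zpowers z ≤ U0 := le_inf hZP ((QuotientGroup.ker_mk' (zpowers z)).ge.trans (Subgroup.comap_mono bot_le))
      have hmapU : U0.map π = U' := by
        refine le_antisymm ((Subgroup.map_mono inf_le_right).trans (Subgroup.map_comap_le _ _)) fun y hy => ?_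
        obtain ⟨x, hx, rfl⟩ := hU' hy
        exact ⟨x, ⟨hx, hy⟩, rfl⟩
      have hU0c : 4 * Nat.card (U0.map (centralizer ({a} : Set X)).subtype) ≤ Nat.card (P : Subgroup X) := by
        rw [Nat.card_congr (Subgroup.equivMapOfInjective U0 _ (centralizer ({a} : Set X)).subtype_injective).symm.toEquiv, hcard U0 hzU, hmapU]
        have h2 := hcard _ hZP
        have h3 : 4 * Nat.card U' ≤ Nat.card ((Pc : Subgroup _).map π) := hU'4
        omega
      obtain ⟨x, hx, hxU, y, hy, hyU, hxy⟩ := hno (U0.map (centralizer ({a} : Set X)).subtype)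
        (by rintro _ ⟨w, hw, rfl⟩; exact hw.1) hU0c
      refine ⟨π ⟨x, comm_mem_centralizer hP ha hx⟩, ⟨_, hx, rfl⟩, fun h => hxU ⟨_, ⟨hx, h⟩, rfl⟩,
        π ⟨y, comm_mem_centralizer hP ha hy⟩, ⟨_, hy, rfl⟩, fun h => hyU ⟨_, ⟨hy, h⟩, rfl⟩, ?_⟩
      intro n' hn' hfix hbad
      obtain ⟨n, rfl⟩ := QuotientGroup.mk'_surjective (zpowers z) n'
      have hback : ∀ w : (centralizer ({a} : Set X)), π w ∈ (Pc : Subgroup (centralizer ({a} : Set X))).map π → w ∈ (Pc : Subgroup (centralizer ({a} : Set X))) := by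
        rintro w ⟨v, hv, he⟩
        have : v⁻¹ * w ∈ zpowers z := QuotientGroup.eq.1 he
        simpa using mul_mem hv (hZP this)
      have hnN : (n : X) ∈ normalizer ((P : Subgroup X) : Set X) := by
        rw [Subgroup.mem_normalizer_iff]
        intro w
        constructor
        · intro hw
          exact hback (n * ⟨w, comm_mem_centralizer hP ha hw⟩ * n⁻¹) (by
            rw [map_mul, map_mul, map_inv]
            exact (Subgroup.mem_normalizer_iff.1 hn' _).1 ⟨_, hw, rfl⟩)
        · intro hw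
          have h1 := hback (n⁻¹ * ⟨_, comm_mem_centralizer hP ha hw⟩ * n) (by
            rw [map_mul, map_mul, map_inv]
            exact (Subgroup.mem_normalizer_iff''.1 hn' _).1 ⟨_, hw, rfl⟩)
          have h2 : (n : X)⁻¹ * ((n : X) * w * (n : X)⁻¹) * n ∈ (P : Subgroup X) := h1
          rwa [show (n : X)⁻¹ * ((n : X) * w * (n : X)⁻¹) * n = w by group] at h2
      refine hxy n hnN ?_ ?_
      · rintro _ ⟨w, hw, rfl⟩
        obtain ⟨m, hm, hmC⟩ := exists_odd_pow_centralizes P
        -- the displacement lies in the centre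
        set e : (centralizer ({a} : Set X)) := n * w * n⁻¹ * w⁻¹ with he
        have heZ : e ∈ zpowers z := by
          have h1 : π (n * w * n⁻¹) = π w := by
            rw [map_mul, map_mul, map_inv]; exact hfix (π w) hw.2
          rw [← QuotientGroup.ker_mk' (zpowers z), MonoidHom.mem_ker, he, map_mul, h1, map_inv, mul_inv_cancel]
        have hec : Commute n e := Subgroup.mem_center_iff.1 ((zpowers_le).2 hz heZ) n
        have hpow : ∀ i : ℕ, n ^ i * w * (n ^ i)⁻¹ = e ^ i * w := by
          intro i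
          induction i with
          | zero => simp
          | succ i hi =>
            calc n ^ (i + 1) * w * (n ^ (i + 1))⁻¹ = n * (n ^ i * w * (n ^ i)⁻¹) * n⁻¹ := by
                  rw [pow_succ']; group
              _ = n * e ^ i * w * n⁻¹ := by rw [hi]; group
              _ = e ^ i * n * w * n⁻¹ := by rw [(hec.pow_right i).eq]
              _ = e ^ i * (n * w * n⁻¹ * w⁻¹) * w := by group
              _ = e ^ (i + 1) * w := by rw [pow_succ]
        have hm1 : n ^ m * w * (n ^ m)⁻¹ = w := by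
          refine Subtype.ext ?_
          have h := Subgroup.mem_centralizer_iff.1 (hmC n hnN) (w : X) hw.1
          push_cast
          rw [← h, mul_inv_cancel_right]
        rw [hpow m] at hm1
        have hem : e ^ m = 1 := mul_eq_right.1 hm1
        have he1 : e = 1 := eq_one_of_odd_two Pc.2 (hZP heZ) hm (orderOf_dvd_of_pow_eq_one hem)
        have h3 : n * w * n⁻¹ = w := mul_inv_eq_one.1 he1
        exact congrArg Subtype.val h3
      · refine ⟨n * ⟨x, comm_mem_centralizer hP ha hx⟩ * n⁻¹ * (⟨y, comm_mem_centralizer hP ha hy⟩ : (centralizer ({a} : Set X)))⁻¹,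
          ⟨?_, ?_⟩, rfl⟩
        · exact Subgroup.mul_mem _ ((Subgroup.mem_normalizer_iff.1 hnN x).1 hx : (n : X) * x * (n : X)⁻¹ ∈ (P : Subgroup X))
            (Subgroup.inv_mem _ hy)
        · show π _ ∈ U'
          rw [map_mul, map_mul, map_mul, map_inv, map_inv]
          exact hbad
  -- the cores form a functor
  set θ : X → Subgroup X := fun a => Cfsg.centralizerPPrimeCore 2 a with hθ
  set W := ⨆ a : {a : X // a ∈ (P : Subgroup X) ∧ a ≠ 1}, θ a
  have hW := Cfsg.Agent.S0217.result (p := 2) (P : Subgroup X) (fun a ha b hb => comm_of_elementary hP ha hb)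
    (fun a ha => by rw [pow_two]; exact hP a ha) (by simpa using h8) θ
    (fun a _ _ => Cfsg.Lib.Components.centralizerPPrimeCore_le_centralizer a)
    (fun a _ _ => not_two_dvd_centralizerCore a)
    (fun a ha _ b hb x hx => (Subgroup.mem_normalizer_iff.1
      (Cfsg.Lib.Components.centralizer_le_normalizer_centralizerPPrimeCore a (comm_mem_centralizer hP ha hb)) x).1 hx)
    (fun a _ _ => (Cfsg.Agent.S0205.result (Nat.odd_iff.2 (by
      have := not_two_dvd_centralizerCore a; omega)) : Group.IsSolvable (Cfsg.centralizerPPrimeCore 2 a)))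
    (fun a ha _ b hb hb1 => balance P hP ha hb (hcl b hb hb1))
  have hNW : normalizer ((P : Subgroup X) : Set X) ≤ normalizer (W : Set X) := by
    intro n hn
    have hle : ∀ m ∈ normalizer ((P : Subgroup X) : Set X), W.map (MulAut.conj m).toMonoidHom ≤ W := by
      intro m hm
      rw [Subgroup.map_iSup]
      refine iSup_le fun a => ?_
      rw [hθ, Cfsg.Lib.Components.centralizerPPrimeCore_map_equiv]
      exact le_iSup (fun a : {a : X // a ∈ (P : Subgroup X) ∧ a ≠ 1} => θ a)
        ⟨_, (Subgroup.mem_normalizer_iff.1 hm _).1 a.2.1, fun h => a.2.2 (conj_eq_one_iff.1 h)⟩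
    refine Subgroup.mem_normalizer_iff.2 fun x => ⟨fun hx => hle n hn ⟨x, hx, rfl⟩, fun hx => ?_⟩
    have h := hle n⁻¹ (inv_mem hn) ⟨_, hx, rfl⟩
    simpa [mul_assoc] using h
  have hWle : ∀ a ∈ (P : Subgroup X), a ≠ 1 → Cfsg.centralizerPPrimeCore 2 a ≤ W := fun a ha ha1 =>
    le_iSup (fun a : {a : X // a ∈ (P : Subgroup X) ∧ a ≠ 1} => θ a) ⟨a, ha, ha1⟩
  have h1 : normalizer (W : Set X) = ⊤ := eq_top_of_container P hP hno (by omega) hNW fun a ha ha1 =>
    centralizer_le_of_closed P hP ha (hcl a ha ha1) hNW ((hWle a ha ha1).trans le_normalizer)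
  haveI : W.Normal := normalizer_eq_top_iff.1 h1
  have hWO : W ≤ Cfsg.oddCore X := le_oddCore hW.1
  have hNQ : normalizer ((P : Subgroup X) : Set X) ≤
      normalizer (((P : Subgroup X) ⊔ Cfsg.oddCore X : Subgroup X) : Set X) := by
    intro n hn
    have hle : ∀ m ∈ normalizer ((P : Subgroup X) : Set X), ((P : Subgroup X) ⊔ Cfsg.oddCore X).map
        (MulAut.conj m).toMonoidHom ≤ (P : Subgroup X) ⊔ Cfsg.oddCore X := by
      intro m hm
      rw [Subgroup.map_sup]
      refine sup_le_sup ?_ ?_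
      · rintro _ ⟨x, hx, rfl⟩; exact (Subgroup.mem_normalizer_iff.1 hm x).1 hx
      · rintro _ ⟨x, hx, rfl⟩; exact Subgroup.Normal.conj_mem inferInstance x hx m
    refine Subgroup.mem_normalizer_iff.2 fun x => ⟨fun hx => hle n hn ⟨x, hx, rfl⟩, fun hx => ?_⟩
    have h := hle n⁻¹ (inv_mem hn) ⟨_, hx, rfl⟩
    simpa [mul_assoc] using h
  exact normalizer_eq_top_iff.1 (eq_top_of_container P hP hno (by omega) hNQ fun a ha ha1 =>
    centralizer_le_of_closed P hP ha (hcl a ha ha1) hNQ
      (((hWle a ha ha1).trans hWO).trans ((le_sup_right).trans le_normalizer)))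

end Cfsg.Lib.Deficit
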