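import Cfsg.Agent.Blocks.ConstantDeficit.Setup
import Cfsg.Agent.Blocks.ConstantDeficit.Closed
import Cfsg.Agent.Chars.Construct
import Mathlib.GroupTheory.Transfer

/-!
# Regular elements and class functions over a central subgroup of order two
-/

set_option autoImplicit false
set_option linter.unusedSectionVars false
set_option linter.style.haveILetI false

namespace Cfsg.Lib.Deficit

open Cfsg Cfsg.Lib.Chars Cfsg.Lib.Blocks
open scoped ComplexConjugate

universe u

variable {H : Type u} [Group H] [Fintype H] {z : H}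

theorem inner_characters_nat {φ ψ : H → ℂ} (hφ : IsCharacter H φ) (hψ : IsCharacter H ψ) :
    ∃ m : ℕ, classInner φ ψ = m := by
  obtain ⟨m, hm⟩ := IsCharacter.exists_decomp hψ
  choose k hk using fun θ : IrrCharacter H => IsCharacter.exists_mult hφ θ.2
  refine ⟨∑ θ, m θ * k θ, ?_⟩
  rw [hm, classInner_sum_right, Nat.cast_sum]
  exact Finset.sum_congr rfl fun θ _ => by rw [classInner_nsmul_right, hk θ]; simp

/-- A homomorphism separating a central involution from the elements of odd order. -/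
theorem exists_sign (P : Sylow 2 H) (hP : ∀ t ∈ (P : Subgroup H), t * t = 1) (hz : z ∈ Subgroup.center H)
    (hzP : z ∈ (P : Subgroup H)) (hz1 : z ≠ 1) :
    ∃ τ : H →* ℂˣ, (τ z : ℂ) = -1 ∧ ∀ y, ¬ 2 ∣ orderOf y → τ y = 1 := by
  classical
  haveI : Fact (Nat.Prime 2) := ⟨Nat.prime_two⟩
  set P' := (P : Subgroup H)
  letI : CommGroup P' := { P'.toGroup with mul_comm := fun a c => Subtype.ext (comm_of_elementary hP a.2 c.2) }
  have hz1' : (⟨z, hzP⟩ : P') ≠ 1 := fun h => hz1 (congrArg Subtype.val h)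
  obtain ⟨φ, hφ⟩ := CommGroup.exists_apply_ne_one_of_hasEnoughRootsOfUnity P' ℂ hz1'
  have hφz : (φ ⟨z, hzP⟩ : ℂ) = -1 := by
    have h : (φ ⟨z, hzP⟩ : ℂ) * (φ ⟨z, hzP⟩ : ℂ) = 1 := by
      rw [← Units.val_mul, ← map_mul, show (⟨z, hzP⟩ : P') * ⟨z, hzP⟩ = 1 from Subtype.ext (hP z hzP), map_one,
        Units.val_one]
    exact (mul_self_eq_one_iff.1 h).resolve_left fun h1 => hφ (Units.ext h1)
  refine ⟨(MonoidHom.transfer φ) ^ P'.index, ?_, fun y hy => ?_⟩
  · have hodd : Odd P'.index := Nat.odd_iff.2 (by have := P.not_dvd_index; simp only [P'] at *; omega)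
    have hT := MonoidHom.transfer_eq_pow φ z fun k g _ => by
      rw [mul_assoc, ← Subgroup.mem_center_iff.1 (pow_mem hz k) g, inv_mul_cancel_left]
    rw [MonoidHom.pow_apply, hT, Units.val_pow_eq_pow_val,
      show (⟨z ^ P'.index, MonoidHom.transfer_eq_pow_aux z fun k g _ => by
        rw [mul_assoc, ← Subgroup.mem_center_iff.1 (pow_mem hz k) g, inv_mul_cancel_left]⟩ : P') = ⟨z, hzP⟩ ^ P'.index
        from rfl, map_pow, Units.val_pow_eq_pow_val, hφz, hodd.neg_one_pow, hodd.neg_one_pow]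
  · rw [MonoidHom.pow_apply, ← map_pow, orderOf_dvd_iff_pow_eq_one.1 ?_, map_one]
    have h1 : orderOf y ∣ Nat.card P' * P'.index := P'.card_mul_index ▸ orderOf_dvd_natCard y
    obtain ⟨k, hk⟩ := IsPGroup.iff_card.1 P.2
    refine Nat.Coprime.dvd_of_dvd_mul_left ?_ h1
    rw [show Nat.card P' = 2 ^ k from hk]
    exact ((Nat.prime_two.coprime_iff_not_dvd.2 hy).pow_left k).symm

section

variable {X : Subgroup H} [X.Normal] (hz : z ∈ Subgroup.center H) (hz2 : orderOf z = 2)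
  (hX : ∀ a, a ∈ X ↔ a = 1 ∨ a = z)

include hz hz2 hX

theorem regular_inj {y w : H} (hy : ¬ 2 ∣ orderOf y) (hw : ¬ 2 ∣ orderOf w) (h : (y : H ⧸ X) = (w : H ⧸ X)) :
    y = w := by
  rcases (hX _).1 (QuotientGroup.eq.1 h) with h' | h'
  · exact inv_mul_eq_one.1 h'
  · exfalso
    have hw' : w = z * y := by rw [← inv_mul_eq_iff_eq_mul.1 h' |>.symm, Subgroup.mem_center_iff.1 hz]
    have hp : IsPPart 2 w z := hw' ▸ isPPart_mul (show Commute z y from (Subgroup.mem_center_iff.1 hz y).symm)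
      ⟨1, by rw [pow_one, hz2]⟩ hy
    have := IsPPart.eq Nat.prime_two hp ((isPPart_one_iff Nat.prime_two).2 hw)
    rw [this, orderOf_one] at hz2
    exact absurd hz2 (by norm_num)

theorem not_dvd_orderOf_mk {y : H} (hy : ¬ 2 ∣ orderOf y) : ¬ 2 ∣ orderOf (y : H ⧸ X) :=
  fun h => hy (h.trans (orderOf_map_dvd (QuotientGroup.mk' X) y))

theorem exists_regular_lift {q : H ⧸ X} (hq : ¬ 2 ∣ orderOf q) :
    ∃ y : H, ¬ 2 ∣ orderOf y ∧ (y : H ⧸ X) = q := by
  obtain ⟨x, rfl⟩ := QuotientGroup.mk_surjective q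
  set m := orderOf (x : H ⧸ X)
  have h2 : (x ^ m) ^ 2 = 1 := by
    have hmem : x ^ m ∈ X := (QuotientGroup.eq_one_iff _).1 (by rw [QuotientGroup.mk_pow, pow_orderOf_eq_one])
    rcases (hX _).1 hmem with h | h <;> rw [h]
    · exact one_pow 2
    · rw [← hz2, pow_orderOf_eq_one]
  obtain ⟨j, hj⟩ : ∃ j, m + 1 = 2 * j := ⟨(m + 1) / 2, by omega⟩
  refine ⟨x ^ (m + 1), fun h => hq (h.trans ?_), by rw [QuotientGroup.mk_pow, pow_succ, pow_orderOf_eq_one, one_mul]⟩
  refine orderOf_dvd_of_pow_eq_one ?_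
  rw [← pow_mul, hj, show 2 * j * m = m * 2 * j by ring, pow_mul, pow_mul, h2, one_pow]

/-- Summing over regular elements may be done in the quotient. -/
theorem sum_regular_quotient [Fintype (H ⧸ X)] (f : H ⧸ X → ℂ) :
    ∑ y ∈ Finset.univ.filter (fun y : H => ¬ 2 ∣ orderOf y), f (y : H ⧸ X) =
      ∑ q ∈ Finset.univ.filter (fun q : H ⧸ X => ¬ 2 ∣ orderOf q), f q := by
  refine Finset.sum_bij (fun y _ => (y : H ⧸ X)) (fun y hy => ?_) (fun y hy w hw h => ?_) (fun q hq => ?_)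
    (fun _ _ => rfl)
  · simp only [Finset.mem_filter, Finset.mem_univ, true_and] at hy ⊢
    exact not_dvd_orderOf_mk hz hz2 hX hy
  · simp only [Finset.mem_filter, Finset.mem_univ, true_and] at hy hw
    exact regular_inj hz hz2 hX hy hw h
  · simp only [Finset.mem_filter, Finset.mem_univ, true_and] at hq
    obtain ⟨y, hy, h⟩ := exists_regular_lift hz hz2 hX hq
    exact ⟨y, by simpa using hy, h⟩

theorem card_eq_two_mul [Fintype (H ⧸ X)] : (Nat.card H : ℂ) = 2 * (Nat.card (H ⧸ X) : ℂ) := by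
  have h1 := Subgroup.card_eq_card_quotient_mul_card_subgroup X
  have hXc : Nat.card X = 2 := by
    have hX' : X = Subgroup.zpowers z := by
      refine le_antisymm (fun a ha => ?_) (Subgroup.zpowers_le.2 ((hX z).2 (Or.inr rfl)))
      rcases (hX a).1 ha with rfl | rfl
      · exact one_mem _
      · exact Subgroup.mem_zpowers _
    rw [hX', Nat.card_zpowers, hz2]
  rw [h1, hXc]; push_cast; ring

/-- The integral pairing against a class function vanishing on singular elements of the quotient. -/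
theorem pairing_eq [Fintype (H ⧸ X)] {φ : H ⧸ X → ℂ} (hφ : ∀ q, 2 ∣ orderOf q → φ q = 0) {τ : H →* ℂˣ}
    (hτz : (τ z : ℂ) = -1) (hτ : ∀ y, ¬ 2 ∣ orderOf y → τ y = 1) (χ : H → ℂ) :
    (2 / (Nat.card H : ℂ)) * ∑ y ∈ Finset.univ.filter (fun y : H => ¬ 2 ∣ orderOf y), χ (z * y) * conj (φ (y : H ⧸ X)) =
      classInner χ (fun c : H => φ (c : H ⧸ X)) - classInner χ (fun c : H => φ (c : H ⧸ X) * (τ c : ℂ)) := by
  classical
  rw [classInner_def, classInner_def, ← mul_sub, ← Finset.sum_sub_distrib]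
  rw [div_eq_mul_inv, mul_comm (2 : ℂ), mul_assoc]
  congr 1
  rw [Finset.mul_sum]
  have hval : ∀ y : H, ¬ 2 ∣ orderOf y → 2 * (χ (z * y) * conj (φ (y : H ⧸ X))) =
      χ (z * y) * conj (φ ((z * y : H) : H ⧸ X)) - χ (z * y) * conj (φ ((z * y : H) : H ⧸ X) * (τ (z * y) : ℂ)) := by
    intro y hy
    have h1 : ((z * y : H) : H ⧸ X) = (y : H ⧸ X) := by
      rw [QuotientGroup.mk_mul, (QuotientGroup.eq_one_iff z).2 ((hX z).2 (Or.inr rfl)), one_mul]
    rw [h1, map_mul τ, hτ y hy, mul_one, hτz, map_mul, map_neg, map_one]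
    ring
  rw [Finset.sum_congr rfl fun y hy => hval y (Finset.mem_filter.1 hy).2]
  symm
  have hzero : ∀ c : H, (¬ ∃ y, ¬ 2 ∣ orderOf y ∧ z * y = c) →
      χ c * conj (φ (c : H ⧸ X)) - χ c * conj (φ (c : H ⧸ X) * (τ c : ℂ)) = 0 := by
    intro c hc
    by_cases hreg : 2 ∣ orderOf (c : H ⧸ X)
    · rw [hφ _ hreg]; simp
    · obtain ⟨y, hy, he⟩ := exists_regular_lift hz hz2 hX hreg
      rcases (hX _).1 (QuotientGroup.eq.1 he) with h' | h'
      · rw [← inv_mul_eq_one.1 h', hτ y hy]; simp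
      · refine absurd ⟨y, hy, ?_⟩ hc
        rw [inv_mul_eq_iff_eq_mul.1 h', Subgroup.mem_center_iff.1 hz]
  rw [← Finset.sum_filter_add_sum_filter_not Finset.univ (fun c : H => ∃ y, ¬ 2 ∣ orderOf y ∧ z * y = c),
    Finset.sum_eq_zero (s := Finset.filter _ _) fun c hc => hzero c (Finset.mem_filter.1 hc).2, add_zero]
  refine (Finset.sum_bij (fun y _ => z * y) (fun y hy => ?_) (fun y _ w _ h => mul_left_cancel h)
    (fun c hc => ?_) fun _ _ => rfl).symm
  · simp only [Finset.mem_filter, Finset.mem_univ, true_and] at hy ⊢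
    exact ⟨y, hy, rfl⟩
  · simp only [Finset.mem_filter, Finset.mem_univ, true_and] at hc
    obtain ⟨y, hy, rfl⟩ := hc
    exact ⟨y, by simpa using hy, rfl⟩

end

end Cfsg.Lib.Deficit
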