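import Cfsg.Agent.Components.Cores
import Cfsg.Agent.Components.Balance
import Cfsg.Agent.CoThreeRecog.TwoClass
import Mathlib.GroupTheory.Transfer
import Mathlib.GroupTheory.SchurZassenhaus

/-!
# Abelian Sylow 2-subgroups covered by the core
-/

set_option autoImplicit false
set_option linter.style.haveILetI false
set_option linter.unusedSectionVars false

namespace Cfsg.Lib.Deficit

open Subgroup

universe u

variable {X : Type u} [Group X] [Finite X]

/-- The Sylow 2-subgroup and the core generate a normal subgroup. -/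
def Closed (P : Sylow 2 X) : Prop := ((P : Subgroup X) ⊔ Cfsg.oddCore X).Normal

theorem not_two_dvd_oddCore (X : Type u) [Group X] [Finite X] : ¬ 2 ∣ Nat.card (Cfsg.oddCore X) :=
  Nat.prime_two.coprime_iff_not_dvd.1 (Nat.coprime_comm.1 (Cfsg.Lib.Components.coprime_card_pPrimeCore 2))

theorem le_oddCore {N : Subgroup X} [N.Normal] (h : ¬ 2 ∣ Nat.card N) : N ≤ Cfsg.oddCore X :=
  Cfsg.Lib.Components.le_pPrimeCore (Nat.coprime_comm.1 (Nat.prime_two.coprime_iff_not_dvd.2 h))

theorem not_two_dvd_orderOf_of_mem {N : Subgroup X} (h : ¬ 2 ∣ Nat.card N) {x : X} (hx : x ∈ N) :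
    ¬ 2 ∣ orderOf x := fun hd => h (hd.trans (Subgroup.orderOf_dvd_natCard N hx))

/-- An element of odd order which is trivial in a 2-group. -/
theorem eq_one_of_odd_two {Q : Type*} [Group Q] {q : Q} {S : Subgroup Q} (hS : IsPGroup 2 S) (hq : q ∈ S)
    {m : ℕ} (hm : ¬ 2 ∣ m) (hd : orderOf q ∣ m) : q = 1 := by
  obtain ⟨k, hk⟩ := hS ⟨q, hq⟩
  have h1 : orderOf q ∣ 2 ^ k := orderOf_dvd_of_pow_eq_one (congrArg Subtype.val hk)
  exact orderOf_eq_one_iff.1 (Nat.eq_one_of_dvd_coprimes
    (Nat.Coprime.pow_left k (Nat.prime_two.coprime_iff_not_dvd.2 hm)) h1 hd)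

/-- Elements of odd order in the product of a 2-subgroup with the core lie in the core. -/
theorem mem_core_of_mem_sup {P : Subgroup X} (hP : IsPGroup 2 P) {x : X}
    (hx : x ∈ P ⊔ Cfsg.oddCore X) (ho : ¬ 2 ∣ orderOf x) : x ∈ Cfsg.oddCore X := by
  set π := QuotientGroup.mk' (Cfsg.oddCore X)
  have hm : π x ∈ P.map π := by
    have h := Subgroup.mem_map_of_mem π hx
    rwa [Subgroup.map_sup, (Subgroup.map_eq_bot_iff _).2 (QuotientGroup.ker_mk' _).ge, sup_bot_eq] at h
  exact (QuotientGroup.eq_one_iff x).1 (eq_one_of_odd_two (hP.map π) hm ho (orderOf_map_dvd π x))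

/-- Burnside's complement, as the set of elements of odd order. -/
theorem exists_complement (P : Sylow 2 X)
    (hNC : normalizer ((P : Subgroup X) : Set X) ≤ centralizer ((P : Subgroup X) : Set X)) :
    ∃ K : Subgroup X, K.Normal ∧ ¬ 2 ∣ Nat.card K ∧ K ⊔ P = ⊤ ∧ ∀ x, ¬ 2 ∣ orderOf x → x ∈ K := by
  haveI : Fact (Nat.Prime 2) := ⟨Nat.prime_two⟩
  refine ⟨_, inferInstance, MonoidHom.not_dvd_card_ker_transferSylow P hNC,
    (MonoidHom.ker_transferSylow_isComplement' P hNC).sup_eq_top, fun x hx => ?_⟩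
  refine MonoidHom.mem_ker.2 (orderOf_eq_one_iff.1 ?_)
  set y := MonoidHom.transferSylow P hNC x
  obtain ⟨k, hk⟩ := P.2 y
  exact Nat.eq_one_of_dvd_coprimes (Nat.Coprime.pow_left k (Nat.prime_two.coprime_iff_not_dvd.2 hx))
    (orderOf_dvd_of_pow_eq_one hk) (orderOf_map_dvd (MonoidHom.transferSylow P hNC) x)

theorem closed_of_central (P : Sylow 2 X)
    (hNC : normalizer ((P : Subgroup X) : Set X) ≤ centralizer ((P : Subgroup X) : Set X)) : Closed P := by
  obtain ⟨K, hKn, hKc, hKP, -⟩ := exists_complement P hNC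
  haveI := hKn
  have h : (P : Subgroup X) ⊔ Cfsg.oddCore X = ⊤ :=
    eq_top_iff.2 (hKP ▸ sup_le ((le_oddCore hKc).trans le_sup_right) le_sup_left)
  rw [Closed, h]
  infer_instance

/-- An element of odd order centralising the Sylow 2-subgroup modulo the core lies in the core, when
the Sylow 2-subgroup is abelian and covered by the core. -/
theorem mem_core_of_centralizes (P : Sylow 2 X) [IsMulCommutative (P : Subgroup X)] (hcl : Closed P) {z : X}
    (hz : ¬ 2 ∣ orderOf z) (hc : ∀ p ∈ (P : Subgroup X), z * p * z⁻¹ * p⁻¹ ∈ Cfsg.oddCore X) :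
    z ∈ Cfsg.oddCore X := by
  haveI : Fact (Nat.Prime 2) := ⟨Nat.prime_two⟩
  haveI : ((P : Subgroup X) ⊔ Cfsg.oddCore X).Normal := hcl
  set π := QuotientGroup.mk' (Cfsg.oddCore X) with hπ
  have hmap : ((P : Subgroup X) ⊔ Cfsg.oddCore X).map π = (P : Subgroup X).map π := by
    rw [Subgroup.map_sup, (Subgroup.map_eq_bot_iff _).2 (QuotientGroup.ker_mk' _).ge, sup_bot_eq]
  haveI : ((P : Subgroup X).map π).Normal :=
    hmap ▸ Subgroup.Normal.map (inferInstance) π (QuotientGroup.mk'_surjective _)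
  set S := (centralizer (((P : Subgroup X).map π : Subgroup _) : Set (X ⧸ Cfsg.oddCore X))).comap π with hS
  haveI : S.Normal := by rw [hS]; infer_instance
  have hSmem : ∀ x, x ∈ S ↔ ∀ p ∈ (P : Subgroup X), x * p * x⁻¹ * p⁻¹ ∈ Cfsg.oddCore X := by
    intro x
    rw [hS, Subgroup.mem_comap, Subgroup.mem_centralizer_iff]
    constructor
    · intro h p hp
      rw [← QuotientGroup.eq_one_iff]
      have := h (π p) (Subgroup.mem_map_of_mem π hp)
      show π (x * p * x⁻¹ * p⁻¹) = 1
      rw [map_mul, map_mul, map_mul, map_inv, map_inv, ← this, mul_inv_cancel_right, mul_inv_cancel]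
    · rintro h _ ⟨p, hp, rfl⟩
      have h1 : π (x * p * x⁻¹ * p⁻¹) = 1 := (QuotientGroup.eq_one_iff _).2 (h p hp)
      rw [map_mul, map_mul, map_mul, map_inv, map_inv, mul_inv_eq_one, mul_inv_eq_iff_eq_mul] at h1
      exact h1.symm
  have hPS : (P : Subgroup X) ≤ S := fun x hx => (hSmem x).2 fun p hp => by
    rw [show x * p * x⁻¹ * p⁻¹ = 1 by
      have := congrArg Subtype.val (mul_comm' (⟨x, hx⟩ : (P : Subgroup X)) ⟨p, hp⟩)
      simp only [Subgroup.coe_mul] at this
      rw [this, mul_inv_cancel_right, mul_inv_cancel]]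
    exact one_mem _
  have hzS : z ∈ S := (hSmem z).2 hc
  obtain ⟨K, hKn, hKc, -, hKodd⟩ := exists_complement (P.subtype hPS) (fun n hn => by
    rw [Subgroup.mem_centralizer_iff]
    intro p hp
    have h1 : (n : X) * p * (n : X)⁻¹ * (p : X)⁻¹ ∈ Cfsg.oddCore X := (hSmem n).1 n.2 p hp
    have hp' : p ∈ ((P.subtype hPS : Sylow 2 S) : Subgroup S) := hp
    have h2 : n * p * n⁻¹ ∈ ((P.subtype hPS : Sylow 2 S) : Subgroup S) :=
      (Subgroup.mem_normalizer_iff.1 hn p).1 hp'
    have h3 : (n : X) * p * (n : X)⁻¹ * (p : X)⁻¹ = 1 := by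
      refine eq_one_of_odd_two P.2 (mul_mem ?_ (inv_mem hp)) (not_two_dvd_orderOf_of_mem (not_two_dvd_oddCore X) h1)
        dvd_rfl
      exact h2
    refine Subtype.ext ?_
    rw [mul_inv_eq_one, mul_inv_eq_iff_eq_mul] at h3
    exact h3.symm)
  haveI := hKn
  haveI : (K.map S.subtype).Normal := by
    refine ⟨?_⟩
    rintro _ ⟨k, hk, rfl⟩ g
    refine ⟨⟨g * (k : X) * g⁻¹, (inferInstance : S.Normal).conj_mem _ k.2 g⟩, hKodd _ ?_, rfl⟩
    rw [Subgroup.orderOf_mk, show g * (k : X) * g⁻¹ = (MulAut.conj g).toMonoidHom (k : X) from rfl,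
      orderOf_injective _ (MulAut.conj g).injective, Subgroup.orderOf_coe]
    exact not_two_dvd_orderOf_of_mem hKc hk
  refine le_oddCore (N := K.map S.subtype) ?_ ⟨⟨z, hzS⟩, hKodd _ (by rwa [Subgroup.orderOf_mk]), rfl⟩
  rwa [Nat.card_congr (Subgroup.equivMapOfInjective K _ S.subtype_injective).symm.toEquiv]

/-- Being covered by the core passes back through a central extension by an element of order two. -/
theorem closed_of_quotient {z : X} (hz : z ∈ center X) (hz2 : orderOf z = 2) [(zpowers z).Normal]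
    [Fact (Nat.Prime 2)] (P : Sylow 2 X) (hzP : z ∈ (P : Subgroup X))
    (h : Closed (P.mapSurjective (QuotientGroup.mk'_surjective (zpowers z)))) : Closed P := by
  set π := QuotientGroup.mk' (zpowers z) with hπ
  set O' := (Cfsg.oddCore (X ⧸ zpowers z)).comap π with hO'
  have hZO : zpowers z ≤ O' := by
    rw [hO']
    exact (QuotientGroup.ker_mk' (zpowers z)).ge.trans (Subgroup.comap_mono bot_le)
  set Z := (zpowers z).subgroupOf O' with hZ
  have hZc : Nat.card Z = 2 := by
    rw [Nat.card_congr (Subgroup.subgroupOfEquivOfLe hZO).toEquiv, Nat.card_zpowers, hz2]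
  have hidx : Z.index = Nat.card (Cfsg.oddCore (X ⧸ zpowers z)) := by
    change (zpowers z).relIndex O' = _
    conv_lhs => rw [← QuotientGroup.ker_mk' (zpowers z), ← π.comap_bot, hO', Subgroup.relIndex_comap,
      Subgroup.map_comap_eq_self_of_surjective (QuotientGroup.mk'_surjective _), Subgroup.relIndex_bot_left]
  haveI : Z.Normal := by rw [hZ]; infer_instance
  obtain ⟨K, hK⟩ := Subgroup.exists_right_complement'_of_coprime (N := Z) (by
    rw [hZc, hidx]; exact Nat.prime_two.coprime_iff_not_dvd.2 (not_two_dvd_oddCore _))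
  have hKidx : K.index = 2 := by rw [hK.index_eq_card, hZc]
  have hKc : Nat.card K = Nat.card (Cfsg.oddCore (X ⧸ zpowers z)) := by
    rw [← hidx, hK.symm.index_eq_card]
  haveI := Subgroup.normal_of_index_eq_two hKidx
  have hKodd : ∀ x : O', ¬ 2 ∣ orderOf x → x ∈ K := by
    intro x hx
    obtain ⟨k, hk⟩ : ∃ k, orderOf x = 2 * k + 1 := ⟨orderOf x / 2, by omega⟩
    have h2 := Subgroup.mul_self_mem_of_index_two hKidx x
    have : x = ((x * x) ^ (k + 1)) := by
      rw [← pow_two, ← pow_mul, show 2 * (k + 1) = orderOf x + 1 by omega, pow_succ, pow_orderOf_eq_one, one_mul]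
    rw [this]
    exact pow_mem h2 _
  haveI : (K.map O'.subtype).Normal := by
    refine ⟨?_⟩
    rintro _ ⟨k, hk, rfl⟩ g
    haveI : O'.Normal := by rw [hO']; infer_instance
    refine ⟨⟨g * (k : X) * g⁻¹, (inferInstance : O'.Normal).conj_mem _ k.2 g⟩, hKodd _ ?_, rfl⟩
    rw [Subgroup.orderOf_mk, show g * (k : X) * g⁻¹ = (MulAut.conj g).toMonoidHom (k : X) from rfl,
      orderOf_injective _ (MulAut.conj g).injective, Subgroup.orderOf_coe]
    exact not_two_dvd_orderOf_of_mem (hKc ▸ not_two_dvd_oddCore _) hk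
  have hKO : K.map O'.subtype ≤ Cfsg.oddCore X := le_oddCore (by
    rw [Nat.card_congr (Subgroup.equivMapOfInjective K _ O'.subtype_injective).symm.toEquiv, hKc]
    exact not_two_dvd_oddCore _)
  have hZP : zpowers z ≤ (P : Subgroup X) := (zpowers_le).2 hzP
  have key : ((P : Subgroup X).map π ⊔ Cfsg.oddCore (X ⧸ zpowers z)).comap π = (P : Subgroup X) ⊔ Cfsg.oddCore X := by
    refine le_antisymm ?_ ?_
    · intro x hx
      rw [Subgroup.mem_comap, Subgroup.mem_sup_of_normal_right] at hx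
      obtain ⟨_, ⟨p, hp, rfl⟩, o, ho, he⟩ := hx
      obtain ⟨o, rfl⟩ := QuotientGroup.mk'_surjective (zpowers z) o
      have hoO : o ∈ O' := ho
      obtain ⟨c, hc, k, hk, hck⟩ := Subgroup.mem_sup_of_normal_left.1
        (hK.sup_eq_top.ge (Subgroup.mem_top (⟨o, hoO⟩ : O')))
      have ho' : o = (c : X) * (k : X) := (congrArg Subtype.val hck).symm
      have h1 : (p * o)⁻¹ * x ∈ zpowers z := by
        rw [← QuotientGroup.ker_mk' (zpowers z), MonoidHom.mem_ker, map_mul, map_inv, map_mul, he, inv_mul_cancel]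
      have hk' : (k : X) ∈ Cfsg.oddCore X := hKO ⟨k, hk, rfl⟩
      have e : x = p * o * ((p * o)⁻¹ * x) := by group
      rw [e, ho']
      refine mul_mem (mul_mem (Subgroup.mem_sup_left hp) (mul_mem (Subgroup.mem_sup_left (hZP ?_))
        (Subgroup.mem_sup_right hk'))) (Subgroup.mem_sup_left (hZP ?_))
      · exact hc
      · rw [← ho']; exact h1
    · rw [← Subgroup.map_le_iff_le_comap, Subgroup.map_sup]
      refine sup_le_sup_left ?_ _
      haveI : ((Cfsg.oddCore X).map π).Normal :=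
        Subgroup.Normal.map inferInstance π (QuotientGroup.mk'_surjective _)
      refine le_oddCore fun hd => not_two_dvd_oddCore X (hd.trans ?_)
      exact Subgroup.card_map_dvd _ _
  haveI : ((P : Subgroup X).map π ⊔ Cfsg.oddCore (X ⧸ zpowers z)).Normal := h
  rw [Closed, ← key]
  infer_instance

end Cfsg.Lib.Deficit
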