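import Cfsg.Agent.Blocks.ConstantDeficit.EightCase
import Cfsg.Agent.S1324
import Cfsg.Agent.S0942

/-!
# The centralizers of involutions have trivial cores
-/

set_option autoImplicit false
set_option linter.unusedSectionVars false
set_option linter.style.haveILetI false

namespace Cfsg.Lib.Deficit

open Cfsg Cfsg.Lib.Chars Cfsg.Lib.Blocks

universe u

variable {G : Type u} [Group G] [Fintype G] {M : Ideal AlgInt} {u s : G} {P : Sylow 2 G}

namespace Base

theorem core_balance (b : Base M u s P) {a c : G} (ha : a ∈ (P : Subgroup G)) (hc : c ∈ (P : Subgroup G))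
    (hc1 : c ≠ 1) :
    Cfsg.centralizerPPrimeCore 2 a ⊓ Subgroup.centralizer {c} ≤ Cfsg.centralizerPPrimeCore 2 c :=
  balance P (fun _ h => b.sq_eq_one h) ha hc (b.closed_centralizer hc hc1)

/-- An element of a core fixed by a large subgroup of the Sylow 2-subgroup is trivial, if inverted or fixed
by the rest. -/
theorem eq_one_of_fixed (b : Base M u s P) {t : G} (ht : t ∈ (P : Subgroup G)) {E : Subgroup G}
    (hE : E ≤ (P : Subgroup G)) (hE1 : E ≠ ⊥) {z : G} (hz : z ∈ Cfsg.centralizerPPrimeCore 2 t)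
    (hzE : z ∈ Subgroup.centralizer (E : Set G))
    (hcase : E = (P : Subgroup G) ∨
      (Nat.card (P : Subgroup G) = 2 * Nat.card E ∧ ∃ e ∈ (P : Subgroup G), e * z * e⁻¹ = z⁻¹)) : z = 1 := by
  classical
  haveI : Fact (Nat.Prime 2) := ⟨Nat.prime_two⟩
  obtain ⟨χ, hχ, hne, hχs⟩ := b.exists_minus_one
  set H := Subgroup.centralizer (E : Set G) with hH
  letI : Fintype H := Fintype.ofFinite H
  have hPH : (P : Subgroup G) ≤ H := fun p hp => Subgroup.mem_centralizer_iff.2 fun e he => b.comm (hE he) hp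
  set E' := E.subgroupOf H with hE'
  haveI : E'.Normal := ⟨fun e he g => by
    have h : g * e * g⁻¹ = e := Subtype.ext (by
      rw [Subgroup.coe_mul, Subgroup.coe_mul, ← Subgroup.mem_centralizer_iff.1 g.2 (e : G) he, Subgroup.coe_inv,
        mul_inv_cancel_right])
    rwa [h]⟩
  letI : Fintype E' := Fintype.ofFinite E'
  have hEc : Nat.card E' = Nat.card E := Nat.card_congr (Subgroup.subgroupOfEquivOfLe (hE.trans hPH)).toEquiv
  have hE0 : (Nat.card E' : ℂ) ≠ 0 := Nat.cast_ne_zero.2 Nat.card_pos.ne'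
  set φ := avgPart E' (1 : E' →* ℂˣ) (fun h : H => (χ : G → ℂ) h) with hφ
  have hφc : IsCharacter H φ := isCharacter_avgPart E' 1 (fun g e => rfl)
    (IsCharacter.restrict (isCharacter_of_irr χ.2) H)
  have hval : ∀ g : H, (g : G) = 1 ∨ (g : G) = z →
      φ g * (Nat.card E' : ℂ) = (χ : G → ℂ) g - ((Nat.card E' : ℂ) - 1) := by
    intro g hg
    rw [hφ, avgPart_eq, mul_comm, ← mul_assoc, mul_inv_cancel₀ hE0, one_mul,
      ← Finset.add_sum_erase Finset.univ _ (Finset.mem_univ (1 : E'))]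
    rw [Finset.sum_congr rfl fun e he => show ((1 : E' →* ℂˣ) e : ℂ) * (χ : G → ℂ) (((e : H) * g : H) : G) = -1 by
      have he1 : ((e : H) : G) ≠ 1 := fun h => Finset.ne_of_mem_erase he (Subtype.ext (Subtype.ext h))
      have heE : ((e : H) : G) ∈ E := e.2
      have heP : ((e : H) : G) ∈ (P : Subgroup G) := hE heE
      rw [MonoidHom.one_apply, Units.val_one, one_mul, Subgroup.coe_mul]
      rcases hg with hg | hg <;> rw [hg]
      · rw [mul_one, b.value χ heP he1, hχs]
      · rw [Cfsg.Agent.S0942.result 2 M b.hM _ (b.exists_pow heP) z (b.core_balance ht heP he1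
          ⟨hz, Subgroup.mem_centralizer_singleton_iff.2 (Subgroup.mem_centralizer_iff.1 hzE _ heE).symm⟩) χ hχ,
          b.value χ heP he1, hχs]]
    simp only [MonoidHom.one_apply, Units.val_one, one_mul, Subgroup.coe_one, Finset.sum_const,
      Finset.card_erase_of_mem (Finset.mem_univ _), Finset.card_univ, ← Nat.card_eq_fintype_card,
      Nat.cast_sub (Nat.card_pos : 0 < Nat.card E'), nsmul_eq_mul, Nat.cast_one]
    ring
  obtain ⟨d, hd, -, hdeg⟩ := b.s_ge hχ hne
  have hd1 : d = -1 := by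
    rw [hχs] at hd
    exact_mod_cast hd.symm
  have hχ1 : (χ : G → ℂ) 1 = (Nat.card (P : Subgroup G) : ℂ) - 1 := by
    rw [irr_apply_one_eq_deg]
    have : (deg (χ : G → ℂ) : ℤ) = (Nat.card (P : Subgroup G) : ℤ) - 1 := by rw [hdeg, hd1]; ring
    exact_mod_cast this
  set z' : H := ⟨z, hzE⟩
  have h1 := hval 1 (Or.inl rfl)
  rw [Subgroup.coe_one, hχ1] at h1
  have key : φ z' = φ 1 := by
    rcases hcase with hEP | ⟨hcard, e, he, hinv⟩
    · have h0 : φ 1 = 0 := by
        rw [hEc, hEP] at h1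
        rw [hEc, hEP] at hE0
        exact (mul_eq_zero.1 (h1.trans (by ring))).resolve_right hE0
      have := IsCharacter.norm_le hφc z'
      rw [h0, Complex.zero_re, norm_le_zero_iff] at this
      rw [this, h0]
    · have h0 : φ 1 = 1 := by
        rw [hcard, hEc] at h1
        rw [hEc] at hE0
        refine mul_right_cancel₀ hE0 (h1.trans ?_)
        push_cast
        ring
      rw [h0]
      refine deg_one_eq_one_of_inverted hφc h0 (b := ⟨e, hPH he⟩) ?_ (Subtype.ext hinv)
      rw [Nat.odd_iff, Subgroup.orderOf_mk]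
      have := not_two_dvd_orderOf_of_mem (not_two_dvd_centralizerCore t) hz
      omega
  have h2 := hval z' (Or.inr rfl)
  rw [key, h1, sub_left_inj, ← hχ1] at h2
  exact b.faithful hχ hne h2.symm

theorem centralizerCore_eq_bot (b : Base M u s P) {t : G} (ht : t ∈ (P : Subgroup G)) :
    Cfsg.centralizerPPrimeCore 2 t = ⊥ := by
  classical
  haveI : Fact (Nat.Prime 2) := ⟨Nat.prime_two⟩
  set R := Cfsg.centralizerPPrimeCore 2 t
  have hPR : (P : Subgroup G) ≤ Subgroup.normalizer (R : Set G) :=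
    (comm_mem_centralizer (fun _ h => b.sq_eq_one h) ht).trans
      (Cfsg.Lib.Components.centralizer_le_normalizer_centralizerPPrimeCore t)
  have hA : Cfsg.IsElementaryAbelian 2 (P : Subgroup G) :=
    ⟨b.isMulCommutative, fun a ha => by rw [pow_two]; exact b.sq_eq_one ha⟩
  rw [eq_bot_iff]
  refine (Cfsg.Agent.S1324.result 2 (P : Subgroup G) R hA (le_of_eq_of_le (by norm_num) b.four)
    (not_two_dvd_centralizerCore t) hPR).le.trans (iSup_le ?_)
  rintro ⟨E, hEP, hidx⟩ z ⟨hz, hzE⟩
  have hmul : Nat.card E * E.relIndex (P : Subgroup G) = Nat.card (P : Subgroup G) := by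
    rw [← Subgroup.relIndex_bot_left, ← Subgroup.relIndex_bot_left (H := (P : Subgroup G)),
      Subgroup.relIndex_mul_relIndex ⊥ E _ bot_le hEP]
  have h4 := b.four
  have hE1 : E ≠ ⊥ := by
    intro h
    have h1 : Nat.card E = 1 := by rw [h, Subgroup.card_bot]
    rw [h1, one_mul] at hmul
    omega
  rw [Subgroup.mem_bot]
  rcases (show E.relIndex (P : Subgroup G) = 1 ∨ E.relIndex (P : Subgroup G) = 2 by
    have : E.relIndex (P : Subgroup G) ≠ 0 := fun h => by rw [h, mul_zero] at hmul; omega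
    omega) with h | h
  · exact b.eq_one_of_fixed ht hEP hE1 hz hzE (Or.inl (le_antisymm hEP (Subgroup.relIndex_eq_one.1 h)))
  have hcomm : ∀ e ∈ (P : Subgroup G), e * z * e⁻¹ = z := by
    intro e he
    set w := z⁻¹ * (e * z * e⁻¹)
    have hei : e⁻¹ = e := inv_eq_of_mul_eq_one_right (b.sq_eq_one he)
    have hw : w ∈ R := mul_mem (inv_mem hz) ((Subgroup.mem_normalizer_iff.1 (hPR he) z).1 hz)
    have hwE : w ∈ Subgroup.centralizer (E : Set G) := by
      have he' : e ∈ Subgroup.centralizer (E : Set G) := Subgroup.mem_centralizer_iff.2 fun x hx => b.comm (hEP hx) he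
      exact mul_mem (inv_mem hzE) (mul_mem (mul_mem he' hzE) (inv_mem he'))
    have hw1 : w = 1 := by
      refine b.eq_one_of_fixed ht hEP hE1 hw hwE (Or.inr ⟨by rw [← hmul, h]; ring, e, he, ?_⟩)
      show e * (z⁻¹ * (e * z * e⁻¹)) * e⁻¹ = (z⁻¹ * (e * z * e⁻¹))⁻¹
      simp only [mul_inv_rev, inv_inv, hei, mul_assoc]
      rw [b.sq_eq_one he, mul_one]
    exact (inv_mul_eq_one.1 hw1).symm
  exact b.eq_one_of_fixed ht le_rfl (fun hb => by rw [hb, Subgroup.card_bot] at h4; omega) hz
    (Subgroup.mem_centralizer_iff.2 fun e he => mul_inv_eq_iff_eq_mul.1 (hcomm e he)) (Or.inl rfl)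

/-- The Sylow 2-subgroup is normal in the centralizer of each of its involutions. -/
theorem conj_mem_of_commute (b : Base M u s P) {t g p : G} (ht : t ∈ (P : Subgroup G)) (ht1 : t ≠ 1)
    (hg : g * t = t * g) (hp : p ∈ (P : Subgroup G)) : g * p * g⁻¹ ∈ (P : Subgroup G) := by
  have hcl := b.closed_centralizer ht ht1
  have hO : Cfsg.oddCore (Subgroup.centralizer ({t} : Set G)) = ⊥ := by
    have h := b.centralizerCore_eq_bot ht
    rw [Cfsg.centralizerPPrimeCore, Subgroup.map_eq_bot_iff, Subgroup.ker_subtype, le_bot_iff] at h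
    exact h
  rw [Closed, hO, sup_bot_eq] at hcl
  exact hcl.conj_mem ⟨p, comm_mem_centralizer (fun _ h => b.sq_eq_one h) ht hp⟩ hp
    ⟨g, Subgroup.mem_centralizer_singleton_iff.2 hg⟩

theorem centralizer_le_normalizer (b : Base M u s P) {t : G} (ht : t ∈ (P : Subgroup G)) (ht1 : t ≠ 1) :
    Subgroup.centralizer ({t} : Set G) ≤ Subgroup.normalizer ((P : Subgroup G) : Set G) := by
  intro g hg
  rw [Subgroup.mem_centralizer_singleton_iff] at hg
  refine Subgroup.mem_normalizer_iff.2 fun p => ⟨fun hp => b.conj_mem_of_commute ht ht1 hg hp, fun hp => ?_⟩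
  have hg' : g⁻¹ * t = t * g⁻¹ := ((Commute.symm hg).inv_right).symm.eq
  have := b.conj_mem_of_commute ht ht1 hg' hp
  rwa [inv_inv, show g⁻¹ * (g * p * g⁻¹) * g = p by group] at this

theorem centralizer_le (b : Base M u s P) :
    Subgroup.centralizer ((P : Subgroup G) : Set G) ≤ (P : Subgroup G) := by
  classical
  haveI : Fact (Nat.Prime 2) := ⟨Nat.prime_two⟩
  intro x hx
  have hxs : x * s = s * x := (Subgroup.mem_centralizer_iff.1 hx s b.mem).symm
  obtain ⟨a, y, hay, hcy, ⟨k, hk⟩, hy⟩ : ∃ a y : G, a * y = x ∧ Commute a y ∧ (∃ k, orderOf a = 2 ^ k) ∧ ¬ 2 ∣ orderOf y := by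
    obtain ⟨a, ha⟩ := exists_isPPart' (p := 2) Nat.prime_two x
    obtain ⟨y, h⟩ := ha
    exact ⟨a, y, h⟩
  have hxC : x ∈ Subgroup.centralizer ({s} : Set G) := Subgroup.mem_centralizer_singleton_iff.2 hxs
  have hPC := comm_mem_centralizer (P := P) (fun _ h => b.sq_eq_one h) b.mem
  have hO : Cfsg.oddCore (Subgroup.centralizer ({s} : Set G)) = ⊥ := by
    have h := b.centralizerCore_eq_bot b.mem
    rw [Cfsg.centralizerPPrimeCore, Subgroup.map_eq_bot_iff, Subgroup.ker_subtype, le_bot_iff] at h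
    exact h
  -- the odd part is trivial
  obtain ⟨j, hj⟩ : ∃ j : ℕ, y = x ^ j := by
    have hcop : (orderOf a).Coprime (orderOf y) := by
      rw [hk]; exact (Nat.prime_two.coprime_iff_not_dvd.2 hy).pow_left k
    obtain ⟨m, hm0, hm1⟩ := Nat.chineseRemainder hcop 0 1
    refine ⟨m, ?_⟩
    rw [← hay, hcy.mul_pow, orderOf_dvd_iff_pow_eq_one.1 (Nat.modEq_zero_iff_dvd.1 hm0),
      pow_eq_pow_iff_modEq.2 hm1, one_mul, pow_one]
  have hyC : y ∈ Subgroup.centralizer ((P : Subgroup G) : Set G) := hj ▸ pow_mem hx j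
  have hy1 : y = 1 := by
    have hys : y ∈ Subgroup.centralizer ({s} : Set G) := hj ▸ pow_mem hxC j
    haveI : IsMulCommutative ((P.subtype hPC : Sylow 2 (Subgroup.centralizer ({s} : Set G))) :
        Subgroup (Subgroup.centralizer ({s} : Set G))) :=
      ⟨⟨fun x y => Subtype.ext (Subtype.ext (b.comm x.2 y.2))⟩⟩
    have h := mem_core_of_centralizes (P.subtype hPC) (b.closed_centralizer b.mem b.s_ne_one) (z := ⟨y, hys⟩)
      (by rwa [Subgroup.orderOf_mk]) (fun p hp => by
        rw [show (⟨y, hys⟩ : Subgroup.centralizer ({s} : Set G)) * p * ⟨y, hys⟩⁻¹ * p⁻¹ = 1 from Subtype.ext (by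
          show y * (p : G) * y⁻¹ * (p : G)⁻¹ = 1
          rw [← Subgroup.mem_centralizer_iff.1 hyC (p : G) hp, mul_inv_cancel_right, mul_inv_cancel])]
        exact one_mem _)
    rw [hO, Subgroup.mem_bot] at h
    exact congrArg Subtype.val h
  rw [hy1, mul_one] at hay
  subst hay
  have hle : Subgroup.zpowers a ≤ Subgroup.normalizer ((P : Subgroup G) : Set G) :=
    Subgroup.zpowers_le.2 (b.centralizer_le_normalizer b.mem b.s_ne_one hxC)
  have hsup : IsPGroup 2 ((Subgroup.zpowers a ⊔ (P : Subgroup G) : Subgroup G)) :=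
    (IsPGroup.of_card (n := k) (by rw [Nat.card_zpowers, hk]) : IsPGroup 2 (Subgroup.zpowers a)).to_sup_of_normal_right' P.2 hle
  exact (P.is_maximal' hsup le_sup_right).le (Subgroup.mem_sup_left (Subgroup.mem_zpowers a))

end Base

end Cfsg.Lib.Deficit
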