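import Cfsg.Agent.Blocks.ConstantDeficit.Setup
import Cfsg.Agent.Chars.Construct
import Cfsg.Agent.S0205

/-!
# Principal characters trivial on all 2-elements give linear ones
-/

set_option autoImplicit false
set_option linter.unusedSectionVars false
set_option linter.style.haveILetI false

namespace Cfsg.Lib.Deficit

open Cfsg Cfsg.Lib.Chars Cfsg.Lib.Blocks
open scoped ComplexConjugate

universe u

variable {G : Type u} [Group G] [Fintype G] {M : Ideal AlgInt}

/-- An element whose class has odd length is conjugate into the centralizer of a Sylow 2-subgroup. -/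
theorem exists_conj_mem_centralizer (P : Sylow 2 G) {x : G}
    (hx : ¬ 2 ∣ (Subgroup.centralizer ({x} : Set G)).index) :
    ∃ g : G, g * x * g⁻¹ ∈ Subgroup.centralizer ((P : Subgroup G) : Set G) := by
  haveI : Fact (Nat.Prime 2) := ⟨Nat.prime_two⟩
  set C := Subgroup.centralizer ({x} : Set G)
  obtain ⟨q, hq⟩ := P.2.nonempty_fixed_point_of_prime_not_dvd_card (G ⧸ C) hx
  obtain ⟨g, rfl⟩ := QuotientGroup.mk_surjective q
  refine ⟨g, Subgroup.mem_centralizer_iff.2 fun h hh => ?_⟩
  have e : ((h * g : G) : G ⧸ C) = (g : G ⧸ C) := hq ⟨h, hh⟩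
  have e2 := QuotientGroup.eq.1 e.symm
  rw [Subgroup.mem_centralizer_singleton_iff] at e2
  calc h * (g * x * g⁻¹) = g * ((g⁻¹ * (h * g)) * x) * g⁻¹ := by group
    _ = g * (x * (g⁻¹ * (h * g))) * g⁻¹ := by rw [e2]
    _ = g * x * g⁻¹ * h := by group

/-- A non-principal character of the principal block that is trivial on the 2-elements gives a linear
one. -/
theorem exists_linear_kernel (hM : IsPModular 2 M) (P : Sylow 2 G) {χ : IrrCharacter G}
    (hχ : χ ∈ principalBlock M G) (hne : χ ≠ principal G)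
    (hker : ∀ t ∈ (P : Subgroup G), (χ : G → ℂ) t = (χ : G → ℂ) 1) :
    ∃ μ : G →* ℂˣ, μ ≠ 1 ∧ (∀ t : G, (∃ k : ℕ, orderOf t = 2 ^ k) → μ t = 1) ∧
      (⟨fun g => (μ g : ℂ), isIrrCharacter_linear μ⟩ : IrrCharacter G) ∈ principalBlock M G := by
  classical
  haveI : Fact (Nat.Prime 2) := ⟨Nat.prime_two⟩
  set K := kerSubgroup (χ : G → ℂ) (isCharacter_of_irr χ.2) with hKdef
  haveI hKn : K.Normal := kerSubgroup_normal _
  have hPK : (P : Subgroup G) ≤ K := fun t ht => (mem_kerSubgroup _ _).2 (hker t ht)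
  have hNK : Subgroup.normalizer ((P : Subgroup G) : Set G) ⊔ K = ⊤ := Sylow.normalizer_sup_eq_top' P hPK
  set C := Subgroup.centralizer ((P : Subgroup G) : Set G) with hC
  set L := K ⊔ C with hL
  haveI hLn : L.Normal := by
    have h1 : ∀ g ∈ Subgroup.normalizer ((P : Subgroup G) : Set G), ∀ x ∈ L, g * x * g⁻¹ ∈ L := by
      intro g hg x hx
      have h : L ≤ L.comap (MulAut.conj g).toMonoidHom := sup_le
        (fun x hx => Subgroup.mem_sup_left (hKn.conj_mem x hx g))
        (fun x hx => Subgroup.mem_sup_right (Subgroup.mem_centralizer_iff.2 fun h hh => by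
          have h2 := Subgroup.mem_centralizer_iff.1 hx _ ((Subgroup.mem_normalizer_iff''.1 hg h).1 hh)
          show h * (g * x * g⁻¹) = g * x * g⁻¹ * h
          calc h * (g * x * g⁻¹) = g * (g⁻¹ * h * g * x) * g⁻¹ := by group
            _ = g * (x * (g⁻¹ * h * g)) * g⁻¹ := by rw [h2]
            _ = g * x * g⁻¹ * h := by group))
      exact h hx
    refine ⟨fun x hx g => ?_⟩
    obtain ⟨n, hn, k, hk, rfl⟩ := Subgroup.mem_sup_of_normal_right.1 (hNK.ge (Subgroup.mem_top g))
    have := h1 n hn (k * x * k⁻¹) (mul_mem (mul_mem (Subgroup.mem_sup_left hk) hx)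
      (inv_mem (Subgroup.mem_sup_left hk)))
    simpa [mul_assoc] using this
  have hPL : (P : Subgroup G) ≤ L := hPK.trans le_sup_left
  have hoddL : Odd L.index := by
    rw [Nat.odd_iff]
    have := P.not_dvd_index
    have hd := Subgroup.index_dvd_of_le hPL
    by_contra h
    exact this (((Nat.dvd_of_mod_eq_zero (by omega : L.index % 2 = 0))).trans hd)
  by_cases hLtop : L = ⊤
  · exfalso
    have hcong : ∀ g : G, Small M ((χ : G → ℂ) g - (χ : G → ℂ) 1) := by
      intro g
      obtain ⟨k, hk, c, hc, rfl⟩ := Subgroup.mem_sup_of_normal_left.1 (hLtop.ge (Subgroup.mem_top g))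
      rw [IsCharacter.ker_mul (isCharacter_of_irr χ.2) ((mem_kerSubgroup _ _).1 hk)]
      set T := Subgroup.centralizer ({c} : Set G)
      have hT : ¬ 2 ∣ T.index := fun h => P.not_dvd_index (h.trans (Subgroup.index_dvd_of_le fun s hs =>
        Subgroup.mem_centralizer_singleton_iff.2 (Subgroup.mem_centralizer_iff.1 hc s hs)))
      have h := (sameBlock_iff_res hM (principal G) χ).1 hχ c
      have h1 : (χ : G → ℂ) 1 ≠ 0 := IsIrrCharacter.apply_one_ne_zero χ.2
      have hp := centralChar_mem_place hM χ c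
      have hp1 := centralChar_mem_place hM (principal G) c
      have hsm : Small M (centralChar (χ : G → ℂ) c - centralChar ((principal G : IrrCharacter G) : G → ℂ) c) := by
        rw [← res_eq_zero_iff (sub_mem hp hp1), res_sub hp hp1, h, sub_self]
      have e : (χ : G → ℂ) c - (χ : G → ℂ) 1 = ((χ : G → ℂ) 1 * (T.index : ℂ)⁻¹) *
          (centralChar (χ : G → ℂ) c - centralChar ((principal G : IrrCharacter G) : G → ℂ) c) := by
        simp only [centralChar, principal, mul_one, div_one]
        have : (T.index : ℂ) ≠ 0 := Nat.cast_ne_zero.2 Subgroup.index_ne_zero_of_finite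
        field_simp
        ring
      rw [e]
      exact hsm.mem_mul (mul_mem (isIntegral_mem_place hM (IsCharacter.isIntegral (isCharacter_of_irr χ.2) 1))
        (isUnitAt_natCast hM hT).inv.mem_place)
    have hKodd : ¬ 2 ∣ K.index := fun h => P.not_dvd_index (h.trans (Subgroup.index_dvd_of_le hPK))
    have hfib : ∀ F : G → ℂ, (∀ k ∈ K, ∀ x, F (x * k) = F x) →
        ∑ g, F g = (Nat.card K : ℂ) * ∑ q : G ⧸ K, F q.out := fun F hF => by
      rw [← Equiv.sum_comp (Subgroup.groupEquivQuotientProdSubgroup (s := K)).symm, Fintype.sum_prod_type,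
        Finset.mul_sum]
      refine Finset.sum_congr rfl fun q _ => ?_
      rw [Nat.card_eq_fintype_card, ← nsmul_eq_mul, ← Finset.card_univ, ← Finset.sum_const]
      refine Finset.sum_congr rfl fun k _ => ?_
      obtain ⟨k', hk', e⟩ : ∃ k' ∈ K,
          ((Subgroup.groupEquivQuotientProdSubgroup (s := K)).symm (q, k)) = q.out * k' := by
        refine ⟨q.out⁻¹ * (Subgroup.groupEquivQuotientProdSubgroup (s := K)).symm (q, k), ?_, by group⟩
        refine QuotientGroup.eq.1 ?_
        rw [QuotientGroup.out_eq']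
        have h := congrArg Prod.fst ((Subgroup.groupEquivQuotientProdSubgroup (s := K)).apply_symm_apply (q, k))
        exact h.symm
      rw [e, hF k' hk']
    have hright : ∀ k ∈ K, ∀ x, (χ : G → ℂ) (x * k) = (χ : G → ℂ) x := fun k hk x => by
      rw [classFunction_mul_comm (isClassFunction_irr χ), IsCharacter.ker_mul (isCharacter_of_irr χ.2)
        ((mem_kerSubgroup _ _).1 hk)]
    have hK0 : (Nat.card K : ℂ) ≠ 0 := Nat.cast_ne_zero.2 Nat.card_pos.ne'
    have hG0 : (Nat.card G : ℂ) ≠ 0 := Nat.cast_ne_zero.2 Nat.card_pos.ne'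
    have hGK : (Nat.card G : ℂ) = (Nat.card K : ℂ) * (K.index : ℂ) := by
      rw [← Nat.cast_mul, K.card_mul_index]
    have hz : ∑ q : G ⧸ K, (χ : G → ℂ) q.out = 0 := by
      have h := classInner_irr_ne hne
      rw [classInner_def, mul_eq_zero, or_iff_right (inv_ne_zero hG0)] at h
      simp only [principal, map_one, mul_one] at h
      rw [hfib _ hright] at h
      exact (mul_eq_zero.1 h).resolve_left hK0
    have hone : ∑ q : G ⧸ K, (χ : G → ℂ) q.out * conj ((χ : G → ℂ) q.out) = K.index := by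
      have h := classInner_irr_self χ
      rw [classInner_def, inv_mul_eq_iff_eq_mul₀ hG0, mul_one,
        hfib (fun g => (χ : G → ℂ) g * conj ((χ : G → ℂ) g)) (fun k hk x => by simp only [hright k hk x]), hGK] at h
      exact mul_left_cancel₀ hK0 h
    have hd : (χ : G → ℂ) 1 = (deg (χ : G → ℂ) : ℂ) := irr_apply_one_eq_deg χ
    have hQ : Fintype.card (G ⧸ K) = K.index := by rw [← Nat.card_eq_fintype_card]; rfl
    have h2 : Small M ((K.index * deg (χ : G → ℂ) : ℕ) : ℂ) := by
      have h := small_sum Finset.univ _ fun (q : G ⧸ K) _ => hcong q.out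
      rw [Finset.sum_sub_distrib, hz, zero_sub, Finset.sum_const, Finset.card_univ, hQ, nsmul_eq_mul, hd] at h
      simpa [Nat.cast_mul] using h.neg
    have hdeg : 2 ∣ deg (χ : G → ℂ) :=
      (Nat.prime_two.dvd_mul.1 ((small_natCast_iff hM _).1 h2)).resolve_left hKodd
    have h3 : Small M ((K.index : ℕ) : ℂ) := by
      have h := small_sum Finset.univ _ fun (q : G ⧸ K) _ =>
        ((hcong q.out).add (hd ▸ small_natCast hM hdeg : Small M ((χ : G → ℂ) 1))).mul_mem
          (isIntegral_mem_place hM (IsCharacter.isIntegral (IsCharacter.conjugate (isCharacter_of_irr χ.2)) q.out))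
      simp only [sub_add_cancel] at h
      rwa [hone] at h
    exact hKodd ((small_natCast_iff hM _).1 h3)
  -- a linear character of the quotient
  haveI : Group.IsSolvable (G ⧸ L) := Cfsg.Agent.S0205.result hoddL
  haveI : Nontrivial (G ⧸ L) := QuotientGroup.nontrivial_iff.2 hLtop
  obtain ⟨a, ha⟩ : ∃ a : Abelianization (G ⧸ L), a ≠ 1 := by
    by_contra! h
    have hlt := Group.IsSolvable.commutator_lt_top_of_nontrivial (G ⧸ L)
    refine hlt.ne (eq_top_iff.2 fun x _ => ?_)
    exact (QuotientGroup.eq_one_iff x).1 (h (Abelianization.of x))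
  obtain ⟨φ, hφ⟩ := CommGroup.exists_apply_ne_one_of_hasEnoughRootsOfUnity (Abelianization (G ⧸ L)) ℂ ha
  set μ : G →* ℂˣ := φ.comp (Abelianization.of.comp (QuotientGroup.mk' L)) with hμ
  have hμL : ∀ x ∈ L, μ x = 1 := fun x hx => by
    rw [hμ, MonoidHom.comp_apply, MonoidHom.comp_apply, QuotientGroup.mk'_apply,
      (QuotientGroup.eq_one_iff x).2 hx, map_one, map_one]
  refine ⟨μ, fun h => hφ ?_, fun t ht => ?_, ?_⟩
  · obtain ⟨x, rfl⟩ := QuotientGroup.mk_surjective a
    obtain ⟨g, rfl⟩ := QuotientGroup.mk_surjective x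
    exact DFunLike.congr_fun h g
  · obtain ⟨k, hk⟩ := ht
    obtain ⟨Q, hQ⟩ := (IsPGroup.of_card (n := k) (by rw [Nat.card_zpowers, hk]) :
      IsPGroup 2 (Subgroup.zpowers t)).exists_le_sylow
    obtain ⟨g, hg⟩ := MulAction.exists_smul_eq G Q P
    have hm : g * t * g⁻¹ ∈ (P : Subgroup G) := by
      rw [← hg, Sylow.coe_subgroup_smul]
      exact Subgroup.smul_mem_pointwise_smul t (MulAut.conj g) _ (hQ (Subgroup.mem_zpowers t))
    apply hμL
    simpa [mul_assoc] using hLn.conj_mem _ (hPL hm) g⁻¹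
  · refine (sameBlock_iff_res hM (principal G) _).2 fun x => ?_
    by_cases hx : 2 ∣ (Subgroup.centralizer ({x} : Set G)).index
    · have key : ∀ ψ : IrrCharacter G, (ψ : G → ℂ) 1 = 1 → res M (centralChar (ψ : G → ℂ) x) = 0 := fun ψ hψ => by
        rw [res_eq_zero_iff (centralChar_mem_place hM ψ x), centralChar, hψ, div_one]
        exact (small_natCast hM hx).mul_mem (isIntegral_mem_place hM (IsCharacter.isIntegral (isCharacter_of_irr ψ.2) x))
      rw [key _ rfl, key _ (by simp)]
    · obtain ⟨g, hg⟩ := exists_conj_mem_centralizer P hx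
      have h1 : μ x = 1 := by
        apply hμL
        simpa [mul_assoc] using hLn.conj_mem _ (Subgroup.mem_sup_right hg : g * x * g⁻¹ ∈ L) g⁻¹
      congr 1
      simp [centralChar, principal, h1]

end Cfsg.Lib.Deficit
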