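import Cfsg.Agent.Blocks.ConstantDeficit.Closed
import Cfsg.Agent.Blocks.ConstantDeficit.Linear
import Cfsg.Agent.S0948
import Cfsg.Agent.S0942

/-!
# A four group as Sylow 2-subgroup: centralizers of involutions, and linear characters of the principal block
-/

set_option autoImplicit false
set_option linter.unusedSectionVars false
set_option linter.style.haveILetI false

namespace Cfsg.Lib.Deficit

open Cfsg Cfsg.Lib.Chars Cfsg.Lib.Blocks

universe u

variable {X : Type u} [Group X] [Fintype X] {M : Ideal AlgInt} {P : Sylow 2 X}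

/-- In a four group a normalizing element fixing an involution centralises. -/
theorem four_fix_centralizes (hP : ∀ t ∈ (P : Subgroup X), t * t = 1) (h4 : Nat.card (P : Subgroup X) = 4)
    {n a : X} (hn : n ∈ Subgroup.normalizer ((P : Subgroup X) : Set X)) (ha : a ∈ (P : Subgroup X)) (ha1 : a ≠ 1)
    (hfix : n * a * n⁻¹ = a) : n ∈ Subgroup.centralizer ((P : Subgroup X) : Set X) := by
  classical
  haveI := isMulCommutative_of_elementary hP
  have hmem : ∀ x ∈ (P : Subgroup X), n * x * n⁻¹ ∈ (P : Subgroup X) := fun x hx =>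
    (Subgroup.mem_normalizer_iff.1 hn x).1 hx
  -- the square fixes everything
  have hsq : ∀ x ∈ (P : Subgroup X), n * n * x * (n * n)⁻¹ = x := by
    intro x hx
    set y := n * x * n⁻¹ with hy
    have e : n * n * x * (n * n)⁻¹ = n * y * n⁻¹ := by rw [hy]; group
    rw [e]
    by_cases hx1 : x = 1
    · simp [hy, hx1]
    by_cases hxa : x = a
    · rw [hy, hxa, hfix, hfix]
    have hy1 : y ≠ 1 := fun h => hx1 (conj_eq_one_iff.1 h)
    have hya : y ≠ a := fun h => hxa (mul_left_cancel (mul_right_cancel (h.trans hfix.symm)))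
    have hax : a * x ≠ 1 := fun h => hxa (mul_left_cancel (h.trans (hP a ha).symm))
    haveI := Fintype.ofFinite (P : Subgroup X)
    let T : Finset (P : Subgroup X) := {1, ⟨a, ha⟩, ⟨x, hx⟩, ⟨a, ha⟩ * ⟨x, hx⟩}
    have hT : T.card = 4 := by
      simp only [T]
      rw [Finset.card_insert_of_notMem, Finset.card_insert_of_notMem, Finset.card_pair]
      · exact fun h => ha1 (right_eq_mul.1 (congrArg Subtype.val h))
      · simp only [Finset.mem_insert, Finset.mem_singleton, not_or]
        exact ⟨fun h => hxa (congrArg Subtype.val h).symm, fun h => hx1 (left_eq_mul.1 (congrArg Subtype.val h))⟩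
      · simp only [Finset.mem_insert, Finset.mem_singleton, not_or]
        exact ⟨fun h => ha1 (congrArg Subtype.val h).symm, fun h => hx1 (congrArg Subtype.val h).symm,
          fun h => hax (congrArg Subtype.val h).symm⟩
    have huniv : T = Finset.univ := Finset.eq_univ_of_card T (by rw [hT, ← Nat.card_eq_fintype_card, h4])
    have hmy : (⟨y, hmem x hx⟩ : (P : Subgroup X)) ∈ T := huniv ▸ Finset.mem_univ _
    simp only [T, Finset.mem_insert, Finset.mem_singleton] at hmy
    rcases hmy with h | h | h | h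
    · exact absurd (congrArg Subtype.val h) hy1
    · exact absurd (congrArg Subtype.val h) hya
    · have h' : y = x := congrArg Subtype.val h
      rw [h', ← hy, h']
    · have h' : y = a * x := congrArg Subtype.val h
      rw [h', show n * (a * x) * n⁻¹ = (n * a * n⁻¹) * y by rw [hy]; group, hfix, h', ← mul_assoc, hP a ha, one_mul]
  obtain ⟨m, hm, hmC⟩ := exists_odd_pow_centralizes P
  obtain ⟨j, rfl⟩ : ∃ j, m = 2 * j + 1 := ⟨m / 2, by omega⟩
  have h2 : (n * n) ∈ Subgroup.centralizer ((P : Subgroup X) : Set X) :=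
    Subgroup.mem_centralizer_iff.2 fun x hx => by
      nth_rw 1 [← hsq x hx]
      group
  have h3 := mul_mem (inv_mem (pow_mem h2 j)) (hmC n hn)
  rwa [show ((n * n) ^ j)⁻¹ * n ^ (2 * j + 1) = n by rw [← pow_two, ← pow_mul, pow_succ, inv_mul_cancel_left]] at h3

/-- On the centralizer of an involution the odd elements act trivially in the principal block. -/
theorem four_section_value (hM : IsPModular 2 M) (hP : ∀ t ∈ (P : Subgroup X), t * t = 1)
    (h4 : Nat.card (P : Subgroup X) = 4) {t v : X} (ht : t ∈ (P : Subgroup X)) (ht1 : t ≠ 1) (hc : Commute t v)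
    (hv : ¬ 2 ∣ orderOf v) {χ : IrrCharacter X} (hχ : χ ∈ principalBlock M X) :
    (χ : X → ℂ) (t * v) = (χ : X → ℂ) t := by
  haveI : Fact (Nat.Prime 2) := ⟨Nat.prime_two⟩
  refine Cfsg.Agent.S0942.result 2 M hM t ⟨1, by rw [pow_one]; exact orderOf_eq_prime (by rw [pow_two]; exact hP t ht) ht1⟩
    v ?_ χ hχ
  have hPC : (P : Subgroup X) ≤ Subgroup.centralizer ({t} : Set X) := comm_mem_centralizer hP ht
  obtain ⟨K, hKn, hKc, -, hKodd⟩ := exists_complement (P.subtype hPC) (fun n hn => by
    have hnN : (n : X) ∈ Subgroup.normalizer ((P : Subgroup X) : Set X) := by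
      rw [Subgroup.mem_normalizer_iff]
      intro z
      constructor
      · intro hz; exact (Subgroup.mem_normalizer_iff.1 hn ⟨z, hPC hz⟩).1 hz
      · intro hz
        have h1 := (Subgroup.mem_normalizer_iff''.1 hn ⟨_, hPC hz⟩).1 hz
        have h2 : (n : X)⁻¹ * ((n : X) * z * (n : X)⁻¹) * n ∈ (P : Subgroup X) := h1
        rwa [show (n : X)⁻¹ * ((n : X) * z * (n : X)⁻¹) * n = z by group] at h2
    have h := four_fix_centralizes hP h4 hnN ht ht1 (by
      rw [Subgroup.mem_centralizer_singleton_iff.1 n.2, mul_inv_cancel_right])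
    exact Subgroup.mem_centralizer_iff.2 fun p hp => Subtype.ext (Subgroup.mem_centralizer_iff.1 h _ hp))
  haveI := hKn
  exact mem_centralizerCore.2 ⟨Subgroup.mem_centralizer_singleton_iff.2 hc.eq.symm,
    le_oddCore hKc (hKodd _ (by rwa [Subgroup.orderOf_mk]))⟩

/-- A root of unity of odd order congruent to one is one. -/
theorem eq_one_of_small (hM : IsPModular 2 M) {w : ℂ} {m : ℕ} (hm : ¬ 2 ∣ m) (hw : w ^ m = 1)
    (h : Small M (w - 1)) : w = 1 := by
  by_contra hne
  have hwp : w ∈ place M := isIntegral_mem_place hM (isIntegral_of_pow_eq_one (m := m) (by omega) hw)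
  have hpow : ∀ i, Small M (w ^ i - 1) := by
    intro i
    induction i with
    | zero => simpa using (Cfsg.Lib.Blocks.small_zero : Small M (0 : ℂ))
    | succ i hi =>
      rw [show w ^ (i + 1) - 1 = (w ^ i - 1) * w + (w - 1) by ring]
      exact (hi.mul_mem hwp).add h
  have hs := small_sum (Finset.range m) _ fun i _ => hpow i
  rw [Finset.sum_sub_distrib, geom_sum_eq hne, hw, sub_self, zero_div, zero_sub, Finset.sum_const, Finset.card_range,
    nsmul_eq_mul, mul_one] at hs
  exact hm ((small_natCast_iff hM m).1 (by simpa using hs.neg))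

/-- A linear character of the principal block trivial on the Sylow four group forces the cover. -/
theorem four_linear_closed (hM : IsPModular 2 M) (hP : ∀ t ∈ (P : Subgroup X), t * t = 1)
    (h4 : Nat.card (P : Subgroup X) = 4) (μ : X →* ℂˣ) (hμ1 : μ ≠ 1)
    (hμP : ∀ t ∈ (P : Subgroup X), μ t = 1)
    (hB : (⟨fun g => (μ g : ℂ), isIrrCharacter_linear μ⟩ : IrrCharacter X) ∈ principalBlock M X) : Closed P := by
  classical
  haveI : Fact (Nat.Prime 2) := ⟨Nat.prime_two⟩
  haveI := isMulCommutative_of_elementary hP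
  -- trivial on the centralizer
  have hμC : ∀ x ∈ Subgroup.centralizer ((P : Subgroup X) : Set X), μ x = 1 := by
    intro x hx
    set T := Subgroup.centralizer ({x} : Set X)
    have hT : ¬ 2 ∣ T.index := fun h => P.not_dvd_index (h.trans (Subgroup.index_dvd_of_le fun p hp =>
      Subgroup.mem_centralizer_singleton_iff.2 (Subgroup.mem_centralizer_iff.1 hx p hp)))
    have h := (sameBlock_iff_res hM (principal X) _).1 hB x
    have hp := centralChar_mem_place hM (⟨fun g => (μ g : ℂ), isIrrCharacter_linear μ⟩ : IrrCharacter X) x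
    have hp1 := centralChar_mem_place hM (principal X) x
    have hsm : Small M (centralChar (fun g => (μ g : ℂ)) x - centralChar ((principal X : IrrCharacter X) : X → ℂ) x) := by
      rw [← res_eq_zero_iff (sub_mem hp hp1), res_sub hp hp1, h, sub_self]
    have hs : Small M ((μ x : ℂ) - 1) := by
      have e : (μ x : ℂ) - 1 = (T.index : ℂ)⁻¹ *
          (centralChar (fun g => (μ g : ℂ)) x - centralChar ((principal X : IrrCharacter X) : X → ℂ) x) := by
        simp only [centralChar, principal, map_one, Units.val_one, mul_one, div_one]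
        have : (T.index : ℂ) ≠ 0 := Nat.cast_ne_zero.2 Subgroup.index_ne_zero_of_finite
        field_simp
        ring
      rw [e]
      exact hsm.mem_mul (isUnitAt_natCast hM hT).inv.mem_place
    -- the order of the value is odd
    obtain ⟨a, ha⟩ := exists_isPPart' (p := 2) Nat.prime_two x
    obtain ⟨y, hay, hcy, ⟨k, hk⟩, hy⟩ := ha
    obtain ⟨Q, hQ⟩ := (IsPGroup.of_card (n := k) (by rw [Nat.card_zpowers, hk]) :
      IsPGroup 2 (Subgroup.zpowers a)).exists_le_sylow
    obtain ⟨g, hg⟩ := MulAction.exists_smul_eq X Q P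
    have hm : g * a * g⁻¹ ∈ (P : Subgroup X) := by
      rw [← hg, Sylow.coe_subgroup_smul]
      exact Subgroup.smul_mem_pointwise_smul a (MulAut.conj g) _ (hQ (Subgroup.mem_zpowers a))
    have hμa : μ a = 1 := by
      have := hμP _ hm
      rwa [map_mul, map_mul, map_inv, mul_comm (μ g), mul_inv_cancel_right] at this
    have hμx : μ x = μ y := by rw [← hay, map_mul, hμa, one_mul]
    rw [hμx] at hs ⊢
    refine Units.ext (eq_one_of_small hM hy ?_ hs)
    rw [← Units.val_pow_eq_pow_val, ← map_pow, pow_orderOf_eq_one, map_one, Units.val_one]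
  set K := μ.ker
  have hPK : (P : Subgroup X) ≤ K := fun t ht => MonoidHom.mem_ker.2 (hμP t ht)
  -- the normalizer in the kernel centralises
  have hNK : ∀ n ∈ Subgroup.normalizer ((P : Subgroup X) : Set X), n ∈ K →
      n ∈ Subgroup.centralizer ((P : Subgroup X) : Set X) := by
    intro n hn hnK
    by_contra hnC
    refine hμ1 (MonoidHom.ext fun x => ?_)
    have hmem : ∀ {m y : X}, m ∈ Subgroup.normalizer ((P : Subgroup X) : Set X) → y ∈ (P : Subgroup X) →
        m * y * m⁻¹ ∈ (P : Subgroup X) := fun hm hy => (Subgroup.mem_normalizer_iff.1 hm _).1 hy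
    obtain ⟨a, ha, ha1⟩ : ∃ a ∈ (P : Subgroup X), a ≠ 1 := by
      by_contra! h
      have : Nat.card (P : Subgroup X) = 1 := by
        rw [(Subgroup.eq_bot_iff_forall _).2 h, Subgroup.card_bot]
      omega
    have hne : ∀ y ∈ (P : Subgroup X), y ≠ 1 → n * y * n⁻¹ ≠ y := fun y hy hy1 h =>
      hnC (four_fix_centralizes hP h4 hn hy hy1 h)
    set a1 := n * a * n⁻¹ with ha1def
    set a2 := n * a1 * n⁻¹ with ha2def
    have h11 : a1 ≠ 1 := fun h => ha1 (conj_eq_one_iff.1 h)
    have h21 : a2 ≠ 1 := fun h => h11 (conj_eq_one_iff.1 h)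
    have h10 : a1 ≠ a := hne a ha ha1
    have h12 : a2 ≠ a1 := hne a1 (hmem hn ha) h11
    have h20 : a2 ≠ a := by
      intro h
      obtain ⟨m, hm, hmC⟩ := exists_odd_pow_centralizes P
      obtain ⟨j, rfl⟩ : ∃ j, m = 2 * j + 1 := ⟨m / 2, by omega⟩
      have h2 : (n * n) * a * (n * n)⁻¹ = a := by
        calc (n * n) * a * (n * n)⁻¹ = a2 := by rw [ha2def, ha1def]; group
          _ = a := h
      have h3 := four_fix_centralizes hP h4 (mul_mem hn hn) ha ha1 h2
      have h4' := mul_mem (inv_mem (pow_mem h3 j)) (hmC n hn)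
      rw [show ((n * n) ^ j)⁻¹ * n ^ (2 * j + 1) = n by rw [← pow_two, ← pow_mul, pow_succ, inv_mul_cancel_left]] at h4'
      exact hnC h4'
    haveI := Fintype.ofFinite (P : Subgroup X)
    let T : Finset (P : Subgroup X) :=
      {1, ⟨a, ha⟩, ⟨a1, hmem hn ha⟩, ⟨a2, hmem hn (hmem hn ha)⟩}
    have hT : T.card = 4 := by
      simp only [T]
      rw [Finset.card_insert_of_notMem, Finset.card_insert_of_notMem, Finset.card_pair]
      · exact fun h => h12 (congrArg Subtype.val h).symm
      · simp only [Finset.mem_insert, Finset.mem_singleton, not_or]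
        exact ⟨fun h => h10 (congrArg Subtype.val h).symm, fun h => h20 (congrArg Subtype.val h).symm⟩
      · simp only [Finset.mem_insert, Finset.mem_singleton, not_or]
        exact ⟨fun h => ha1 (congrArg Subtype.val h).symm, fun h => h11 (congrArg Subtype.val h).symm,
          fun h => h21 (congrArg Subtype.val h).symm⟩
    have huniv : T = Finset.univ := Finset.eq_univ_of_card T (by rw [hT, ← Nat.card_eq_fintype_card, h4])
    have hNμ : ∀ m ∈ Subgroup.normalizer ((P : Subgroup X) : Set X), μ m = 1 := by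
      intro m hm
      have hx : (⟨m * a * m⁻¹, hmem hm ha⟩ : (P : Subgroup X)) ∈ T := huniv ▸ Finset.mem_univ _
      obtain ⟨i, hi⟩ : ∃ i : ℕ, m * a * m⁻¹ = n ^ i * a * (n ^ i)⁻¹ := by
        simp only [T, Finset.mem_insert, Finset.mem_singleton] at hx
        rcases hx with h | h | h | h
        · exact absurd (conj_eq_one_iff.1 (congrArg Subtype.val h)) ha1
        · exact ⟨0, by simpa using congrArg Subtype.val h⟩
        · exact ⟨1, by simpa [ha1def] using congrArg Subtype.val h⟩
        · exact ⟨2, (congrArg Subtype.val h).trans (by simp only [ha2def, ha1def]; rw [pow_two]; group)⟩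
      have hfix : ((n ^ i)⁻¹ * m) * a * ((n ^ i)⁻¹ * m)⁻¹ = a := by
        calc ((n ^ i)⁻¹ * m) * a * ((n ^ i)⁻¹ * m)⁻¹ = (n ^ i)⁻¹ * (m * a * m⁻¹) * n ^ i := by group
          _ = a := by rw [hi]; group
      have h := hμC _ (four_fix_centralizes hP h4 (mul_mem (inv_mem (pow_mem hn i)) hm) ha ha1 hfix)
      rwa [map_mul, map_inv, map_pow, MonoidHom.mem_ker.1 hnK, one_pow, inv_one, one_mul] at h
    obtain ⟨m, hm, k, hk, rfl⟩ := Subgroup.mem_sup_of_normal_right.1
      ((Sylow.normalizer_sup_eq_top' P hPK).ge (Subgroup.mem_top x))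
    rw [MonoidHom.one_apply, map_mul, hNμ m hm, MonoidHom.mem_ker.1 hk, one_mul]
  -- the complement of the kernel
  obtain ⟨L, hLn, hLc, hLP, hLodd⟩ := exists_complement (P.subtype hPK) (fun n hn => by
    have hnN : (n : X) ∈ Subgroup.normalizer ((P : Subgroup X) : Set X) := by
      rw [Subgroup.mem_normalizer_iff]
      intro z
      constructor
      · intro hz; exact (Subgroup.mem_normalizer_iff.1 hn ⟨z, hPK hz⟩).1 hz
      · intro hz
        have h1 := (Subgroup.mem_normalizer_iff''.1 hn ⟨_, hPK hz⟩).1 hz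
        have h2 : (n : X)⁻¹ * ((n : X) * z * (n : X)⁻¹) * n ∈ (P : Subgroup X) := h1
        rwa [show (n : X)⁻¹ * ((n : X) * z * (n : X)⁻¹) * n = z by group] at h2
    exact Subgroup.mem_centralizer_iff.2 fun p hp =>
      Subtype.ext (Subgroup.mem_centralizer_iff.1 (hNK _ hnN n.2) _ hp))
  haveI := hLn
  haveI : (L.map K.subtype).Normal := by
    refine ⟨?_⟩
    rintro _ ⟨k, hk, rfl⟩ g
    refine ⟨⟨g * (k : X) * g⁻¹, (inferInstance : K.Normal).conj_mem _ k.2 g⟩, hLodd _ ?_, rfl⟩
    rw [Subgroup.orderOf_mk, show g * (k : X) * g⁻¹ = (MulAut.conj g).toMonoidHom (k : X) from rfl,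
      orderOf_injective _ (MulAut.conj g).injective, Subgroup.orderOf_coe]
    exact not_two_dvd_orderOf_of_mem hLc hk
  have hLO : L.map K.subtype ≤ Cfsg.oddCore X := le_oddCore (by
    rwa [Nat.card_congr (Subgroup.equivMapOfInjective L _ K.subtype_injective).symm.toEquiv])
  have hK : K ≤ (P : Subgroup X) ⊔ Cfsg.oddCore X := by
    have h : (L ⊔ (P.subtype hPK : Sylow 2 K)).map K.subtype ≤ (P : Subgroup X) ⊔ Cfsg.oddCore X := by
      rw [Subgroup.map_sup]
      refine sup_le (hLO.trans le_sup_right) (le_trans ?_ le_sup_left)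
      rintro _ ⟨p, hp, rfl⟩
      exact hp
    rwa [hLP, ← MonoidHom.range_eq_map, Subgroup.range_subtype] at h
  have heq : (P : Subgroup X) ⊔ Cfsg.oddCore X = K ⊔ Cfsg.oddCore X :=
    le_antisymm (sup_le_sup_right hPK _) (sup_le hK le_sup_right)
  rw [Closed, heq]
  infer_instance

end Cfsg.Lib.Deficit
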