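import Cfsg.Agent.Blocks.ConstantDeficit.Semilinear
import Cfsg.Agent.Blocks.ConstantDeficit.FourGroup
import Cfsg.Agent.Blocks.ConstantDeficit.CentralLift
import Cfsg.Agent.Blocks.Columns
import Cfsg.Agent.Blocks.CentralTwo
import Cfsg.Agent.Blocks.PrincipalType

/-!
# A Sylow 2-subgroup of order eight
-/

set_option autoImplicit false
set_option linter.unusedSectionVars false
set_option linter.style.haveILetI false
set_option maxHeartbeats 1000000

namespace Cfsg.Lib.Deficit

open Cfsg Cfsg.Lib.Chars Cfsg.Lib.Blocks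
open scoped ComplexConjugate

universe u

variable {G : Type u} [Group G] [Fintype G] {M : Ideal AlgInt}

/-- The kernel of the principal block on a section of an involution. -/
theorem colKer_principal_section (hM : IsPModular 2 M) {t : G} (ht2 : orderOf t = 2) {H : Subgroup G} [Fintype H]
    (hH : H = Subgroup.centralizer ({t} : Set G)) {X : Subgroup H} [X.Normal] [Fintype (H ⧸ X)] {z : H}
    (hzt : (z : G) = t) (hX : ∀ a, a ∈ X ↔ a = 1 ∨ a = z) {y w : H} (hy : ¬ 2 ∣ orderOf y) (hw : ¬ 2 ∣ orderOf w) :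
    colKer (principalBlock M G) (t * (y : G)) (t * (w : G)) =
      2 * colKer (principalBlock M (H ⧸ X)) (y : H ⧸ X) (w : H ⧸ X) := by
  classical
  have hHz : H = Subgroup.centralizer (Subgroup.zpowers t : Set G) := by rw [hH, centralizer_zpowers]
  have hzc : z ∈ Subgroup.center H := Subgroup.mem_center_iff.2 fun c => Subtype.ext (by
    rw [Subgroup.coe_mul, Subgroup.coe_mul, hzt]
    exact Subgroup.mem_centralizer_singleton_iff.1 (show (c : G) ∈ Subgroup.centralizer ({t} : Set G) from hH ▸ c.2))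
  have hz2 : z * z = 1 := Subtype.ext (by
    rw [Subgroup.coe_mul, hzt, Subgroup.coe_one, ← pow_two, ← ht2, pow_orderOf_eq_one])
  have hz1 : z ≠ 1 := fun h => by
    rw [h, Subgroup.coe_one] at hzt
    rw [← hzt, orderOf_one] at ht2
    exact absurd ht2 (by norm_num)
  rw [colKer_section hM ⟨1, by rw [pow_one, ht2]⟩ hHz
      (B := principalBlock M G) (isPBlock_blockOf (principal G)) hy hw,
    filter_induced_principal hM ⟨1, by rw [pow_one, ht2]⟩ hHz, Finset.sum_singleton,
    colKer_central_two hzc hz2 hX hM hy hw hz1]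

/-- Pairwise differences of four integers, not all equal. -/
theorem three_le_pairs {x y z : ℤ} (h : x ≠ 0 ∨ y ≠ 0 ∨ z ≠ 0) :
    3 ≤ x * x + y * y + z * z + (x - y) * (x - y) + (x - z) * (x - z) + (y - z) * (y - z) := by
  have key : ∀ a : ℤ, a ≠ 0 → 1 ≤ a * a := fun a ha => by
    have := mul_self_pos.2 ha
    omega
  rcases eq_or_ne x 0 with rfl | hx <;> rcases eq_or_ne y 0 with rfl | hy <;> rcases eq_or_ne z 0 with rfl | hz
  · simp at h
  · have := key z hz; nlinarith
  · have := key y hy; nlinarith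
  · have := key y hy; have := key z hz; nlinarith [mul_self_nonneg (y - z)]
  · have := key x hx; nlinarith
  · have := key x hx; have := key z hz; nlinarith [mul_self_nonneg (x - z)]
  · have := key x hx; have := key y hy; nlinarith [mul_self_nonneg (x - y)]
  · have := key x hx; have := key y hy; have := key z hz
    nlinarith [mul_self_nonneg (x - y), mul_self_nonneg (x - z), mul_self_nonneg (y - z)]

namespace Base

variable {u s : G} {P : Sylow 2 G}

/-- In order eight the centralizer of an involution is covered by its core. -/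
theorem closed_eight (b : Base M u s P) {t : G} (ht : t ∈ (P : Subgroup G)) (ht1 : t ≠ 1)
    (h8 : Nat.card (P : Subgroup G) = 8)
    (htr : ∀ x ∈ (P : Subgroup G), x ≠ 1 → x ≠ t → ∀ y ∈ (P : Subgroup G), y ≠ 1 → y ≠ t →
      ∃ n ∈ Subgroup.normalizer ((P : Subgroup G) : Set G), n * t * n⁻¹ = t ∧
        (n * x * n⁻¹ = y ∨ n * x * n⁻¹ = t * y)) :
    Closed (P.subtype (comm_mem_centralizer (fun _ h => b.sq_eq_one h) ht)) := by
  classical
  haveI : Fact (Nat.Prime 2) := ⟨Nat.prime_two⟩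
  have hP : ∀ x ∈ (P : Subgroup G), x * x = 1 := fun _ h => b.sq_eq_one h
  have ht2 : orderOf t = 2 := b.orderOf_eq_two ht ht1
  set Pc := P.subtype (comm_mem_centralizer hP ht) with hPc
  letI : Fintype (Subgroup.centralizer ({t} : Set G)) := Fintype.ofFinite _
  set z : Subgroup.centralizer ({t} : Set G) := ⟨t, Subgroup.mem_centralizer_singleton_iff.2 rfl⟩ with hzdef
  have hz : z ∈ Subgroup.center _ := Subgroup.mem_center_iff.2 fun x =>
    Subtype.ext (Subgroup.mem_centralizer_singleton_iff.1 x.2)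
  have hz2 : orderOf z = 2 := by rw [hzdef, Subgroup.orderOf_mk, ht2]
  haveI : (Subgroup.zpowers z).Normal := ⟨fun x hx g => by
    rw [Subgroup.mem_center_iff.1 ((Subgroup.zpowers_le).2 hz hx) g, mul_inv_cancel_right]; exact hx⟩
  letI : Fintype (Subgroup.centralizer ({t} : Set G) ⧸ Subgroup.zpowers z) := Fintype.ofFinite _
  have hzP : z ∈ (Pc : Subgroup (Subgroup.centralizer ({t} : Set G))) := ht
  have hX : ∀ a, a ∈ Subgroup.zpowers z ↔ a = 1 ∨ a = z := fun a => by
    constructor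
    · intro ha
      obtain ⟨k, rfl⟩ := Subgroup.mem_zpowers_iff.1 ha
      rw [← zpow_mod_orderOf, hz2]
      rcases Int.emod_two_eq_zero_or_one k with h | h <;> simp [h]
    · rintro (rfl | rfl)
      · exact one_mem _
      · exact Subgroup.mem_zpowers _
  refine closed_of_quotient hz hz2 Pc hzP ?_
  by_contra hnc
  set π := QuotientGroup.mk' (Subgroup.zpowers z) with hπ
  set Pb := Pc.mapSurjective (QuotientGroup.mk'_surjective (Subgroup.zpowers z)) with hPb
  have hPbe : ∀ q : Subgroup.centralizer ({t} : Set G) ⧸ Subgroup.zpowers z, q ∈ (Pb : Subgroup (Subgroup.centralizer ({t} : Set G) ⧸ Subgroup.zpowers z)) → q * q = 1 := by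
    rintro _ ⟨x, hx, rfl⟩
    rw [← map_mul, show x * x = 1 from Subtype.ext (hP _ hx), map_one]
  have hPb4 : Nat.card (Pb : Subgroup (Subgroup.centralizer ({t} : Set G) ⧸ Subgroup.zpowers z)) = 4 := by
    have hZP : Subgroup.zpowers z ≤ (Pc : Subgroup (Subgroup.centralizer ({t} : Set G))) := Subgroup.zpowers_le.2 hzP
    have h1 := Subgroup.card_eq_card_quotient_mul_card_subgroup
      ((Subgroup.zpowers z).subgroupOf (Pc : Subgroup (Subgroup.centralizer ({t} : Set G))))
    have hPcc : Nat.card (Pc : Subgroup (Subgroup.centralizer ({t} : Set G))) = 8 :=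
      (Nat.card_congr (Subgroup.subgroupOfEquivOfLe (comm_mem_centralizer hP ht)).toEquiv).trans h8
    rw [Nat.card_congr (Subgroup.subgroupOfEquivOfLe hZP).toEquiv, Nat.card_zpowers, hz2, hPcc] at h1
    change Nat.card ((Pc : Subgroup (Subgroup.centralizer ({t} : Set G))).map π) = 4
    have h2 : Nat.card ((Pc : Subgroup (Subgroup.centralizer ({t} : Set G))).map π) =
        Nat.card ((Pc : Subgroup (Subgroup.centralizer ({t} : Set G))) ⧸ (Subgroup.zpowers z).subgroupOf (Pc : Subgroup (Subgroup.centralizer ({t} : Set G)))) := by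
      refine (Nat.card_congr (Equiv.trans ?_
        (QuotientGroup.quotientKerEquivRange (π.comp (Pc : Subgroup (Subgroup.centralizer ({t} : Set G))).subtype)).toEquiv |>.trans
        (MulEquiv.subgroupCongr (by rw [MonoidHom.range_comp, Subgroup.range_subtype])).toEquiv)).symm
      exact (QuotientGroup.quotientMulEquivOfEq (by
        rw [← MonoidHom.comap_ker, hπ, QuotientGroup.ker_mk']; rfl)).toEquiv
    omega
  haveI : IsKleinFour (Pb : Subgroup (Subgroup.centralizer ({t} : Set G) ⧸ Subgroup.zpowers z)) := by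
    refine ⟨hPb4, ?_⟩
    haveI : Nontrivial (Pb : Subgroup (Subgroup.centralizer ({t} : Set G) ⧸ Subgroup.zpowers z)) := Finite.one_lt_card_iff_nontrivial.1 (by omega)
    refine (Nat.prime_two.eq_one_or_self_of_dvd _ (Monoid.exponent_dvd_of_forall_pow_eq_one fun x =>
      Subtype.ext (by rw [SubgroupClass.coe_pow, pow_two]; exact hPbe _ x.2))).resolve_left fun h => ?_
    exact not_subsingleton _ (Monoid.exp_eq_one_iff.1 h)
  have hinv : ∀ a : Subgroup.centralizer ({t} : Set G) ⧸ Subgroup.zpowers z, (∃ k, orderOf a = 2 ^ k) →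
      ∃ g, g * a * g⁻¹ ∈ (Pb : Subgroup (Subgroup.centralizer ({t} : Set G) ⧸ Subgroup.zpowers z)) := by
    rintro a ⟨k, hk⟩
    obtain ⟨Q, hQ⟩ := (IsPGroup.of_card (n := k) (by rw [Nat.card_zpowers, hk]) :
      IsPGroup 2 (Subgroup.zpowers a)).exists_le_sylow
    obtain ⟨g, hg⟩ := MulAction.exists_smul_eq (Subgroup.centralizer ({t} : Set G) ⧸ Subgroup.zpowers z) Q Pb
    refine ⟨g, ?_⟩
    rw [← hg, Sylow.coe_subgroup_smul]
    exact Subgroup.smul_mem_pointwise_smul a (MulAut.conj g) _ (hQ (Subgroup.mem_zpowers a))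
  have hord : ∀ q : Subgroup.centralizer ({t} : Set G) ⧸ Subgroup.zpowers z, q ∈ (Pb : Subgroup (Subgroup.centralizer ({t} : Set G) ⧸ Subgroup.zpowers z)) → q ≠ 1 → orderOf q = 2 := fun q hq hq1 =>
    orderOf_eq_prime (by rw [pow_two]; exact hPbe q hq) hq1
  have hone : ∀ a c : Subgroup.centralizer ({t} : Set G) ⧸ Subgroup.zpowers z,
      orderOf a = 2 → orderOf c = 2 → IsConj a c := by
    intro a c ha hc
    obtain ⟨g, hg⟩ := hinv a ⟨1, by simpa using ha⟩
    obtain ⟨g', hg'⟩ := hinv c ⟨1, by simpa using hc⟩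
    refine (isConj_iff.2 ⟨g, rfl⟩ : IsConj a _).trans (IsConj.trans ?_ (isConj_iff.2 ⟨g', rfl⟩ : IsConj c _).symm)
    obtain ⟨x, hx, hxe⟩ := hg
    obtain ⟨y, hy, hye⟩ := hg'
    rw [← hxe, ← hye]
    have hne : ∀ {v : Subgroup.centralizer ({t} : Set G)} {w : Subgroup.centralizer ({t} : Set G) ⧸ Subgroup.zpowers z}
        {h : Subgroup.centralizer ({t} : Set G) ⧸ Subgroup.zpowers z}, orderOf w = 2 → π v = h * w * h⁻¹ →
        (v : G) ≠ 1 ∧ (v : G) ≠ t := by
      intro v w h hw hv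
      have h1 : π v ≠ 1 := by
        rw [hv]; intro h0
        rw [conj_eq_one_iff.1 h0, orderOf_one] at hw
        exact absurd hw (by norm_num)
      exact ⟨fun e => h1 (by rw [show v = 1 from Subtype.ext e, map_one]),
        fun e => h1 ((QuotientGroup.eq_one_iff v).2 ((hX v).2 (Or.inr (Subtype.ext e))))⟩
    obtain ⟨hx1, hxt⟩ := hne ha hxe
    obtain ⟨hy1, hyt⟩ := hne hc hye
    obtain ⟨n, hn, hnt, hcase⟩ := htr x hx hx1 hxt y hy hy1 hyt
    refine isConj_iff.2 ⟨π ⟨n, Subgroup.mem_centralizer_singleton_iff.2 (mul_inv_eq_iff_eq_mul.1 hnt)⟩, ?_⟩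
    rw [← map_inv, ← map_mul, ← map_mul]
    refine QuotientGroup.eq.2 ((hX _).2 ?_)
    rcases hcase with h | h
    · exact Or.inl (Subtype.ext (by show (n * x * n⁻¹)⁻¹ * y = 1; rw [h, inv_mul_cancel]))
    · refine Or.inr (Subtype.ext ?_)
      show (n * x * n⁻¹)⁻¹ * y = t
      rw [h, mul_inv_rev, mul_assoc, inv_eq_of_mul_eq_one_right (hP t ht)]
      rw [← b.comm (a := (y : G)) (c := t) hy ht, ← mul_assoc, inv_mul_cancel, one_mul]
  obtain ⟨ζ₂, ζ₃, ζ₄, ε, hε, hne2, hne3, h23, h24, h34, hB, hval, hd2, hd3, hd4, -⟩ :=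
    Cfsg.Agent.S0948.result M b.hM Pb inferInstance hone
  obtain ⟨q₀, hq₀, hq₀1⟩ : ∃ q : Subgroup.centralizer ({t} : Set G) ⧸ Subgroup.zpowers z,
      q ∈ (Pb : Subgroup (Subgroup.centralizer ({t} : Set G) ⧸ Subgroup.zpowers z)) ∧ q ≠ 1 := by
    by_contra! h
    rw [(Subgroup.eq_bot_iff_forall _).2 h, Subgroup.card_bot] at hPb4
    omega
  -- no linear characters besides the principal one
  have hlin : ∀ ζ : IrrCharacter (Subgroup.centralizer ({t} : Set G) ⧸ Subgroup.zpowers z),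
      ζ ∈ principalBlock M _ → (ζ : (Subgroup.centralizer ({t} : Set G) ⧸ Subgroup.zpowers z) → ℂ) ≠ (fun _ => 1) → (∀ q, orderOf q = 2 → (ζ : (Subgroup.centralizer ({t} : Set G) ⧸ Subgroup.zpowers z) → ℂ) q = 1) →
      deg (ζ : (Subgroup.centralizer ({t} : Set G) ⧸ Subgroup.zpowers z) → ℂ) ≠ 1 := by
    intro ζ hζB hζne hζv hdeg
    obtain ⟨μ, hμ⟩ := exists_hom_of_deg_one (isCharacter_of_irr ζ.2) (by rw [irr_apply_one_eq_deg, hdeg, Nat.cast_one])
    refine hnc (four_linear_closed b.hM hPbe hPb4 μ (fun h => hζne ?_) (fun q hq => ?_) ?_)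
    · funext g
      have := congrFun hμ g
      rw [h] at this
      simpa using this
    · rcases eq_or_ne q 1 with rfl | hq1
      · exact map_one μ
      · have h := hζv q (hord q hq hq1)
        have h' := congrFun hμ q
        rw [h] at h'
        exact Units.ext (by simpa using h'.symm)
    · convert hζB using 1
      exact Subtype.ext hμ.symm
  have hdeg1 : ∀ ζ : IrrCharacter (Subgroup.centralizer ({t} : Set G) ⧸ Subgroup.zpowers z),
      charDegree (ζ : (Subgroup.centralizer ({t} : Set G) ⧸ Subgroup.zpowers z) → ℂ) = deg (ζ : (Subgroup.centralizer ({t} : Set G) ⧸ Subgroup.zpowers z) → ℂ) := fun _ => rfl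
  rw [hdeg1] at hd2 hd3 hd4
  have hm2 : ζ₂ ∈ principalBlock M _ := by rw [hB]; exact Or.inr (Or.inl rfl)
  have hm3 : ζ₃ ∈ principalBlock M _ := by rw [hB]; exact Or.inr (Or.inr (Or.inl rfl))
  have hD2 : 5 ≤ deg (ζ₂ : (Subgroup.centralizer ({t} : Set G) ⧸ Subgroup.zpowers z) → ℂ) := by
    have h0 := deg_irr_pos ζ₂
    have h1 := hlin ζ₂ hm2 hne2 fun q hq => (hval q hq).1
    omega
  have hD3 : 3 ≤ deg (ζ₃ : (Subgroup.centralizer ({t} : Set G) ⧸ Subgroup.zpowers z) → ℂ) := by
    have h0 := deg_irr_pos ζ₃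
    rcases hε with rfl | rfl
    · have h1 := hlin ζ₃ hm3 hne3 fun q hq => by rw [(hval q hq).2.1, Int.cast_one]
      omega
    · omega
  have hD4 : 3 ≤ deg (ζ₄ : (Subgroup.centralizer ({t} : Set G) ⧸ Subgroup.zpowers z) → ℂ) := by
    have h0 := deg_irr_pos ζ₄
    omega
  -- the four characters with their signs
  set θ : Fin 4 → IrrCharacter (Subgroup.centralizer ({t} : Set G) ⧸ Subgroup.zpowers z) :=
    ![principal _, ζ₂, ζ₃, ζ₄] with hθ
  set sg : Fin 4 → ℤ := ![1, 1, ε, -1] with hsg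
  have hne4 : ζ₄ ≠ principal _ := fun h => by
    have h1 := (hval q₀ (hord q₀ hq₀ hq₀1)).2.2
    rw [h] at h1
    norm_num [principal] at h1
  have hθinj : Function.Injective θ := by
    have e2 : ζ₂ ≠ principal _ := fun h => hne2 (congrArg Subtype.val h)
    have e3 : ζ₃ ≠ principal _ := fun h => hne3 (congrArg Subtype.val h)
    intro i j h
    fin_cases i <;> fin_cases j <;>
      simp [hθ, e2, e3, hne4, Ne.symm e2, Ne.symm e3, Ne.symm hne4, h23, h24, h34, h23.symm, h24.symm,
        h34.symm] at h ⊢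
  have hθB : pbFin M (Subgroup.centralizer ({t} : Set G) ⧸ Subgroup.zpowers z) = Finset.univ.image θ := by
    ext χ
    rw [mem_pbFin, hB, Finset.mem_image]
    simp only [Set.mem_ofPred_eq, Finset.mem_univ, true_and, Fin.exists_fin_succ, Fin.exists_fin_zero, hθ]
    constructor
    · rintro (h | rfl | rfl | rfl)
      · exact Or.inl (Subtype.ext h.symm)
      · exact Or.inr (Or.inl rfl)
      · exact Or.inr (Or.inr (Or.inl rfl))
      · exact Or.inr (Or.inr (Or.inr (Or.inl rfl)))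
    · rintro (h | h | h | h | h)
      · exact Or.inl (by rw [← h]; rfl)
      · exact Or.inr (Or.inl h.symm)
      · exact Or.inr (Or.inr (Or.inl h.symm))
      · exact Or.inr (Or.inr (Or.inr h.symm))
      · exact h.elim
  have hsum : ∀ f : IrrCharacter (Subgroup.centralizer ({t} : Set G) ⧸ Subgroup.zpowers z) → ℂ,
      ∑ χ ∈ pbFin M (Subgroup.centralizer ({t} : Set G) ⧸ Subgroup.zpowers z), f χ = ∑ i, f (θ i) := fun f => by
    rw [hθB, Finset.sum_image fun i _ j _ h => hθinj h]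
  have hsg2 : ∀ i, (sg i : ℂ) * (sg i : ℂ) = 1 := by
    intro i
    rcases hε with rfl | rfl <;> fin_cases i <;> simp [hsg]
  have hsgc : ∀ i, conj (sg i : ℂ) = (sg i : ℂ) := fun i => map_intCast _ _
  have hθval : ∀ i q, orderOf q = 2 → ((θ i) : (Subgroup.centralizer ({t} : Set G) ⧸ Subgroup.zpowers z) → ℂ) q = (sg i : ℂ) := by
    intro i q hq
    obtain ⟨h2, h3, h4⟩ := hval q hq
    fin_cases i <;> simp [hθ, hsg, principal, h2, h3, h4]
  have hθsing : ∀ i q, 2 ∣ orderOf q → ((θ i) : (Subgroup.centralizer ({t} : Set G) ⧸ Subgroup.zpowers z) → ℂ) q = (sg i : ℂ) := by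
    intro i q hq
    obtain ⟨a, ha⟩ := exists_isPPart' (p := 2) Nat.prime_two q
    obtain ⟨v, hav, hcv, hk, hv⟩ := ha
    have ha1 : a ≠ 1 := fun h => hv (by rw [← one_mul v, ← h, hav]; exact hq)
    obtain ⟨g, hg⟩ := hinv a hk
    have hg1 : g * a * g⁻¹ ≠ 1 := fun h => ha1 (conj_eq_one_iff.1 h)
    have hθB' : θ i ∈ principalBlock M _ := mem_pbFin.1 (hθB ▸ Finset.mem_image_of_mem θ (Finset.mem_univ i))
    rw [← isClassFunction_irr (θ i) q g, show g * q * g⁻¹ = (g * a * g⁻¹) * (g * v * g⁻¹) by rw [← hav]; group,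
      four_section_value b.hM hPbe hPb4 hg hg1 ((Commute.conj_iff g).2 hcv) ?_ hθB', hθval i _ (hord _ hg hg1)]
    rwa [show g * v * g⁻¹ = (MulAut.conj g).toMonoidHom v from rfl, orderOf_injective _ (MulAut.conj g).injective]
  -- the relations
  set R := Finset.univ.filter (fun y : Subgroup.centralizer ({t} : Set G) => ¬ 2 ∣ orderOf y) with hR
  set c₀ : ℂ := 2 / (Nat.card (Subgroup.centralizer ({t} : Set G)) : ℂ) with hc₀
  have hcard := card_eq_two_mul hz hz2 hX
  have hQ0 : (Nat.card (Subgroup.centralizer ({t} : Set G) ⧸ Subgroup.zpowers z) : ℂ) ≠ 0 :=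
    Nat.cast_ne_zero.2 Nat.card_pos.ne'
  have hc₀Q : c₀ * (Nat.card (Subgroup.centralizer ({t} : Set G) ⧸ Subgroup.zpowers z) : ℂ) = 1 := by
    rw [hc₀, hcard]; field_simp
  have hc₀c : conj c₀ = c₀ := by rw [hc₀, map_div₀, map_natCast, Complex.conj_ofNat]
  set φ : Fin 4 → Fin 4 → (Subgroup.centralizer ({t} : Set G) ⧸ Subgroup.zpowers z) → ℂ := fun i j q =>
    (sg i : ℂ) * (θ i : (Subgroup.centralizer ({t} : Set G) ⧸ Subgroup.zpowers z) → ℂ) q - (sg j : ℂ) * (θ j : (Subgroup.centralizer ({t} : Set G) ⧸ Subgroup.zpowers z) → ℂ) q with hφ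
  have hφ0 : ∀ i j q, 2 ∣ orderOf q → φ i j q = 0 := fun i j q hq => by
    simp only [hφ, hθsing i q hq, hθsing j q hq, hsg2, sub_self]
  have horth : ∀ i k, ∑ q : (Subgroup.centralizer ({t} : Set G) ⧸ Subgroup.zpowers z), (θ k : (Subgroup.centralizer ({t} : Set G) ⧸ Subgroup.zpowers z) → ℂ) q * conj ((θ i : (Subgroup.centralizer ({t} : Set G) ⧸ Subgroup.zpowers z) → ℂ) q) =
      if k = i then (Nat.card (Subgroup.centralizer ({t} : Set G) ⧸ Subgroup.zpowers z) : ℂ) else 0 := by
    intro i k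
    have h : classInner (θ k : (Subgroup.centralizer ({t} : Set G) ⧸ Subgroup.zpowers z) → ℂ) (θ i : (Subgroup.centralizer ({t} : Set G) ⧸ Subgroup.zpowers z) → ℂ) = if k = i then 1 else 0 := by
      split_ifs with h
      · rw [h, classInner_irr_self]
      · exact classInner_irr_ne fun e => h (hθinj e)
    rw [classInner_def, inv_mul_eq_iff_eq_mul₀ hQ0, mul_ite, mul_one, mul_zero] at h
    exact h
  -- regular sums
  have hreg : ∀ i j k, c₀ * ∑ y ∈ R, (θ k : (Subgroup.centralizer ({t} : Set G) ⧸ Subgroup.zpowers z) → ℂ) (y : (Subgroup.centralizer ({t} : Set G) ⧸ Subgroup.zpowers z)) * conj (φ i j (y : (Subgroup.centralizer ({t} : Set G) ⧸ Subgroup.zpowers z))) =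
      (if k = i then (sg i : ℂ) else 0) - (if k = j then (sg j : ℂ) else 0) := by
    intro i j k
    rw [hR, sum_regular_quotient hz hz2 hX (fun q => (θ k : (Subgroup.centralizer ({t} : Set G) ⧸ Subgroup.zpowers z) → ℂ) q * conj (φ i j q)), Finset.sum_filter,
      Finset.sum_congr rfl fun q _ => show (if ¬ 2 ∣ orderOf q then (θ k : (Subgroup.centralizer ({t} : Set G) ⧸ Subgroup.zpowers z) → ℂ) q * conj (φ i j q) else 0) =
        (sg i : ℂ) * ((θ k : (Subgroup.centralizer ({t} : Set G) ⧸ Subgroup.zpowers z) → ℂ) q * conj ((θ i : (Subgroup.centralizer ({t} : Set G) ⧸ Subgroup.zpowers z) → ℂ) q)) -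
          (sg j : ℂ) * ((θ k : (Subgroup.centralizer ({t} : Set G) ⧸ Subgroup.zpowers z) → ℂ) q * conj ((θ j : (Subgroup.centralizer ({t} : Set G) ⧸ Subgroup.zpowers z) → ℂ) q)) by
        have e : (θ k : (Subgroup.centralizer ({t} : Set G) ⧸ Subgroup.zpowers z) → ℂ) q * conj (φ i j q) = (sg i : ℂ) * ((θ k : (Subgroup.centralizer ({t} : Set G) ⧸ Subgroup.zpowers z) → ℂ) q * conj ((θ i : (Subgroup.centralizer ({t} : Set G) ⧸ Subgroup.zpowers z) → ℂ) q)) -
            (sg j : ℂ) * ((θ k : (Subgroup.centralizer ({t} : Set G) ⧸ Subgroup.zpowers z) → ℂ) q * conj ((θ j : (Subgroup.centralizer ({t} : Set G) ⧸ Subgroup.zpowers z) → ℂ) q)) := by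
          simp only [hφ, map_sub, map_mul, hsgc]; ring
        split_ifs with h
        · rw [← e, hφ0 i j q h]; simp
        · exact e,
      Finset.sum_sub_distrib, ← Finset.mul_sum, ← Finset.mul_sum, horth, horth, mul_sub, mul_ite, mul_ite,
      mul_zero, mul_zero, mul_ite, mul_ite, mul_zero]
    congr 1
    · split_ifs
      · linear_combination ((sg i : ℤ) : ℂ) * hc₀Q
      · simp
    · split_ifs
      · linear_combination ((sg j : ℤ) : ℂ) * hc₀Q
      · simp
  -- the Gram identity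
  have hgram : ∀ f : Subgroup.centralizer ({t} : Set G) → ℂ,
      ∑ χ ∈ pbFin M G, (∑ y ∈ R, f y * (χ : G → ℂ) (t * (y : G))) * conj (∑ y ∈ R, f y * (χ : G → ℂ) (t * (y : G))) =
        2 * ∑ k, (∑ y ∈ R, f y * (θ k : (Subgroup.centralizer ({t} : Set G) ⧸ Subgroup.zpowers z) → ℂ) (y : (Subgroup.centralizer ({t} : Set G) ⧸ Subgroup.zpowers z))) * conj (∑ y ∈ R, f y * (θ k : (Subgroup.centralizer ({t} : Set G) ⧸ Subgroup.zpowers z) → ℂ) (y : (Subgroup.centralizer ({t} : Set G) ⧸ Subgroup.zpowers z))) := by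
    intro f
    simp only [map_sum, map_mul, Finset.sum_mul, Finset.mul_sum]
    rw [Finset.sum_comm]
    conv_rhs => rw [Finset.sum_comm]
    refine Finset.sum_congr rfl fun w hw => ?_
    rw [Finset.sum_comm]
    conv_rhs => rw [Finset.sum_comm]
    refine Finset.sum_congr rfl fun y hy => ?_
    have h := colKer_principal_section b.hM ht2 rfl (X := Subgroup.zpowers z) (z := z) rfl hX
      (Finset.mem_filter.1 hy).2 (Finset.mem_filter.1 hw).2
    rw [colKer_principal, colKer_principal, hsum] at h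
    calc _ = f y * conj (f w) * ∑ χ ∈ pbFin M G, (χ : G → ℂ) (t * (y : G)) * conj ((χ : G → ℂ) (t * (w : G))) := by
          rw [Finset.mul_sum]; exact Finset.sum_congr rfl fun χ _ => by ring
      _ = _ := by
          rw [h, Finset.mul_sum, Finset.mul_sum]; exact Finset.sum_congr rfl fun k _ => by ring
  set A : Fin 4 → IrrCharacter G → ℂ := fun i χ =>
    ∑ y ∈ R, (c₀ * (sg i : ℂ) * conj ((θ i : (Subgroup.centralizer ({t} : Set G) ⧸ Subgroup.zpowers z) → ℂ) (y : (Subgroup.centralizer ({t} : Set G) ⧸ Subgroup.zpowers z)))) * (χ : G → ℂ) (t * (y : G)) with hA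
  have hAsub : ∀ i j χ, A i χ - A j χ = ∑ y ∈ R, (c₀ * conj (φ i j (y : (Subgroup.centralizer ({t} : Set G) ⧸ Subgroup.zpowers z)))) * (χ : G → ℂ) (t * (y : G)) := by
    intro i j χ
    rw [hA, ← Finset.sum_sub_distrib]
    exact Finset.sum_congr rfl fun y _ => by simp only [hφ, map_sub, map_mul, hsgc]; ring
  obtain ⟨τ, hτz, hτ⟩ := exists_sign Pc (fun x hx => Subtype.ext (hP _ hx)) hz hzP
    (fun h => ht1 (congrArg Subtype.val h))
  have hint : ∀ i j χ, ∃ m : ℤ, A i χ - A j χ = (m : ℂ) := by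
    intro i j χ
    have hchar : ∀ k, IsCharacter _ (fun c : Subgroup.centralizer ({t} : Set G) => (θ k : (Subgroup.centralizer ({t} : Set G) ⧸ Subgroup.zpowers z) → ℂ) (c : (Subgroup.centralizer ({t} : Set G) ⧸ Subgroup.zpowers z))) ∧
        IsCharacter _ (fun c : Subgroup.centralizer ({t} : Set G) => (θ k : (Subgroup.centralizer ({t} : Set G) ⧸ Subgroup.zpowers z) → ℂ) (c : (Subgroup.centralizer ({t} : Set G) ⧸ Subgroup.zpowers z)) * (τ c : ℂ)) := fun k =>
      ⟨IsCharacter.comp_hom (isCharacter_of_irr (θ k).2) π,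
        IsCharacter.mul (IsCharacter.comp_hom (isCharacter_of_irr (θ k).2) π) (isCharacter_linear τ)⟩
    have hres := IsCharacter.restrict (isCharacter_of_irr χ.2) (Subgroup.centralizer ({t} : Set G))
    obtain ⟨a, ha⟩ := inner_characters_nat hres (hchar i).1
    obtain ⟨c, hc⟩ := inner_characters_nat hres (hchar j).1
    obtain ⟨a', ha'⟩ := inner_characters_nat hres (hchar i).2
    obtain ⟨c', hc'⟩ := inner_characters_nat hres (hchar j).2
    refine ⟨sg i * (a : ℤ) - sg j * (c : ℤ) - (sg i * (a' : ℤ) - sg j * (c' : ℤ)), ?_⟩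
    have h := pairing_eq hz hz2 hX (hφ0 i j) hτz hτ (fun c : Subgroup.centralizer ({t} : Set G) => (χ : G → ℂ) (c : G))
    have e1 : (fun c : Subgroup.centralizer ({t} : Set G) => φ i j (c : (Subgroup.centralizer ({t} : Set G) ⧸ Subgroup.zpowers z))) =
        (fun c : Subgroup.centralizer ({t} : Set G) => (sg i : ℂ) * (θ i : (Subgroup.centralizer ({t} : Set G) ⧸ Subgroup.zpowers z) → ℂ) (c : (Subgroup.centralizer ({t} : Set G) ⧸ Subgroup.zpowers z))) -
          (fun c : Subgroup.centralizer ({t} : Set G) => (sg j : ℂ) * (θ j : (Subgroup.centralizer ({t} : Set G) ⧸ Subgroup.zpowers z) → ℂ) (c : (Subgroup.centralizer ({t} : Set G) ⧸ Subgroup.zpowers z))) := rfl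
    have e2 : (fun c : Subgroup.centralizer ({t} : Set G) => φ i j (c : (Subgroup.centralizer ({t} : Set G) ⧸ Subgroup.zpowers z)) * (τ c : ℂ)) =
        (sg i : ℂ) • (fun c : Subgroup.centralizer ({t} : Set G) => (θ i : (Subgroup.centralizer ({t} : Set G) ⧸ Subgroup.zpowers z) → ℂ) (c : (Subgroup.centralizer ({t} : Set G) ⧸ Subgroup.zpowers z)) * (τ c : ℂ)) -
          (sg j : ℂ) • (fun c : Subgroup.centralizer ({t} : Set G) => (θ j : (Subgroup.centralizer ({t} : Set G) ⧸ Subgroup.zpowers z) → ℂ) (c : (Subgroup.centralizer ({t} : Set G) ⧸ Subgroup.zpowers z)) * (τ c : ℂ)) := by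
      funext c; simp [hφ]; ring
    rw [e2, e1, classInner_sub_right, classInner_sub_right,
      show (fun c : Subgroup.centralizer ({t} : Set G) => (sg i : ℂ) * (θ i : (Subgroup.centralizer ({t} : Set G) ⧸ Subgroup.zpowers z) → ℂ) (c : (Subgroup.centralizer ({t} : Set G) ⧸ Subgroup.zpowers z))) =
        (sg i : ℂ) • (fun c : Subgroup.centralizer ({t} : Set G) => (θ i : (Subgroup.centralizer ({t} : Set G) ⧸ Subgroup.zpowers z) → ℂ) (c : (Subgroup.centralizer ({t} : Set G) ⧸ Subgroup.zpowers z))) from rfl,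
      show (fun c : Subgroup.centralizer ({t} : Set G) => (sg j : ℂ) * (θ j : (Subgroup.centralizer ({t} : Set G) ⧸ Subgroup.zpowers z) → ℂ) (c : (Subgroup.centralizer ({t} : Set G) ⧸ Subgroup.zpowers z))) =
        (sg j : ℂ) • (fun c : Subgroup.centralizer ({t} : Set G) => (θ j : (Subgroup.centralizer ({t} : Set G) ⧸ Subgroup.zpowers z) → ℂ) (c : (Subgroup.centralizer ({t} : Set G) ⧸ Subgroup.zpowers z))) from rfl,
      classInner_smul_right, classInner_smul_right, classInner_smul_right, classInner_smul_right,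
      ha, hc, ha', hc', hsgc, hsgc] at h
    rw [hAsub, Finset.sum_congr rfl fun (y : Subgroup.centralizer ({t} : Set G)) _ => show (c₀ * conj (φ i j (y : (Subgroup.centralizer ({t} : Set G) ⧸ Subgroup.zpowers z)))) * (χ : G → ℂ) (t * (y : G)) =
      c₀ * ((χ : G → ℂ) ((z * y : Subgroup.centralizer ({t} : Set G)) : G) * conj (φ i j (y : (Subgroup.centralizer ({t} : Set G) ⧸ Subgroup.zpowers z)))) by
        rw [Subgroup.coe_mul]; ring, ← Finset.mul_sum]
    refine h.trans ?_
    push_cast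
    ring
  choose a ha using hint
  have hfour : ∀ i j, i ≠ j → ∑ χ ∈ pbFin M G, ((a i j χ : ℂ) * (a i j χ : ℂ)) = 4 := by
    intro i j hij
    rw [Finset.sum_congr rfl fun χ _ => show (a i j χ : ℂ) * (a i j χ : ℂ) =
      (∑ y ∈ R, (c₀ * conj (φ i j (y : (Subgroup.centralizer ({t} : Set G) ⧸ Subgroup.zpowers z)))) * (χ : G → ℂ) (t * (y : G))) *
        conj (∑ y ∈ R, (c₀ * conj (φ i j (y : (Subgroup.centralizer ({t} : Set G) ⧸ Subgroup.zpowers z)))) * (χ : G → ℂ) (t * (y : G))) by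
        rw [← hAsub, ha, map_intCast], hgram]
    have e : ∀ k, ∑ y ∈ R, (c₀ * conj (φ i j (y : (Subgroup.centralizer ({t} : Set G) ⧸ Subgroup.zpowers z)))) * (θ k : (Subgroup.centralizer ({t} : Set G) ⧸ Subgroup.zpowers z) → ℂ) (y : (Subgroup.centralizer ({t} : Set G) ⧸ Subgroup.zpowers z)) =
        (if k = i then (sg i : ℂ) else 0) - (if k = j then (sg j : ℂ) else 0) := fun k => by
      rw [← hreg, Finset.mul_sum]
      exact Finset.sum_congr rfl fun y _ => by ring
    have e' : ∀ k, ((if k = i then (sg i : ℂ) else 0) - (if k = j then (sg j : ℂ) else 0)) *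
        conj ((if k = i then (sg i : ℂ) else 0) - (if k = j then (sg j : ℂ) else 0)) =
        (if k = i then 1 else 0) + (if k = j then 1 else 0) := by
      intro k
      by_cases hki : k = i
      · subst hki
        simp [if_neg hij, hsgc, hsg2]
      · by_cases hkj : k = j
        · subst hkj
          simp [hki, hsgc, hsg2]
        · simp [hki, hkj]
    simp only [e, e', Finset.sum_add_distrib, Finset.sum_ite_eq', Finset.mem_univ, if_true]
    norm_num
  -- the value at the involution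
  have hval0 : ∀ χ ∈ pbFin M G, (χ : G → ℂ) t = ∑ i, (deg (θ i : (Subgroup.centralizer ({t} : Set G) ⧸ Subgroup.zpowers z) → ℂ) : ℂ) * (sg i : ℂ) * A i χ := by
    set f : Subgroup.centralizer ({t} : Set G) → ℂ := fun y =>
      (if y = 1 then 1 else 0) - c₀ * ∑ i, (deg (θ i : (Subgroup.centralizer ({t} : Set G) ⧸ Subgroup.zpowers z) → ℂ) : ℂ) * conj ((θ i : (Subgroup.centralizer ({t} : Set G) ⧸ Subgroup.zpowers z) → ℂ) (y : (Subgroup.centralizer ({t} : Set G) ⧸ Subgroup.zpowers z))) with hf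
    have h1R : (1 : Subgroup.centralizer ({t} : Set G)) ∈ R := by simp [hR]
    have hzero : ∀ k, ∑ y ∈ R, f y * (θ k : (Subgroup.centralizer ({t} : Set G) ⧸ Subgroup.zpowers z) → ℂ) (y : (Subgroup.centralizer ({t} : Set G) ⧸ Subgroup.zpowers z)) = 0 := by
      intro k
      simp only [hf, sub_mul, Finset.sum_sub_distrib, ite_mul, one_mul, zero_mul, Finset.sum_ite_eq', if_pos h1R]
      rw [QuotientGroup.mk_one, irr_apply_one_eq_deg, sub_eq_zero]
      simp only [mul_assoc, ← Finset.mul_sum]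
      rw [hR, sum_regular_quotient hz hz2 hX
        (fun q => (∑ i, (deg (θ i : (Subgroup.centralizer ({t} : Set G) ⧸ Subgroup.zpowers z) → ℂ) : ℂ) * conj ((θ i : (Subgroup.centralizer ({t} : Set G) ⧸ Subgroup.zpowers z) → ℂ) q)) * (θ k : (Subgroup.centralizer ({t} : Set G) ⧸ Subgroup.zpowers z) → ℂ) q), Finset.sum_filter,
        Finset.sum_congr rfl fun q _ => show (if ¬ 2 ∣ orderOf q then
          (∑ i, (deg (θ i : (Subgroup.centralizer ({t} : Set G) ⧸ Subgroup.zpowers z) → ℂ) : ℂ) * conj ((θ i : (Subgroup.centralizer ({t} : Set G) ⧸ Subgroup.zpowers z) → ℂ) q)) * (θ k : (Subgroup.centralizer ({t} : Set G) ⧸ Subgroup.zpowers z) → ℂ) q else 0) =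
          ∑ i, (deg (θ i : (Subgroup.centralizer ({t} : Set G) ⧸ Subgroup.zpowers z) → ℂ) : ℂ) * ((θ k : (Subgroup.centralizer ({t} : Set G) ⧸ Subgroup.zpowers z) → ℂ) q * conj ((θ i : (Subgroup.centralizer ({t} : Set G) ⧸ Subgroup.zpowers z) → ℂ) q)) by
          have e : (∑ i, (deg (θ i : (Subgroup.centralizer ({t} : Set G) ⧸ Subgroup.zpowers z) → ℂ) : ℂ) * conj ((θ i : (Subgroup.centralizer ({t} : Set G) ⧸ Subgroup.zpowers z) → ℂ) q)) * (θ k : (Subgroup.centralizer ({t} : Set G) ⧸ Subgroup.zpowers z) → ℂ) q =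
              ∑ i, (deg (θ i : (Subgroup.centralizer ({t} : Set G) ⧸ Subgroup.zpowers z) → ℂ) : ℂ) * ((θ k : (Subgroup.centralizer ({t} : Set G) ⧸ Subgroup.zpowers z) → ℂ) q * conj ((θ i : (Subgroup.centralizer ({t} : Set G) ⧸ Subgroup.zpowers z) → ℂ) q)) := by
            rw [Finset.sum_mul]; exact Finset.sum_congr rfl fun i _ => by ring
          split_ifs with h
          · have h0 := colKer_regular_singular b.hM (g := (1 : (Subgroup.centralizer ({t} : Set G) ⧸ Subgroup.zpowers z))) (by simp) h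
            rw [colKer_principal, hsum] at h0
            simp only [irr_apply_one_eq_deg] at h0
            rw [← e, h0, zero_mul]
          · exact e, Finset.sum_comm]
      simp only [← Finset.mul_sum, horth, mul_ite, mul_zero, Finset.sum_ite_eq, Finset.mem_univ, if_true]
      linear_combination -(deg (θ k : (Subgroup.centralizer ({t} : Set G) ⧸ Subgroup.zpowers z) → ℂ) : ℂ) * hc₀Q
    have h := hgram f
    simp only [hzero, zero_mul, Finset.sum_const_zero, mul_zero] at h
    intro χ hχ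
    simp only [Complex.mul_conj, ← Complex.ofReal_sum, Complex.ofReal_eq_zero] at h
    have h2 := Complex.normSq_eq_zero.1
      ((Finset.sum_eq_zero_iff_of_nonneg fun χ _ => Complex.normSq_nonneg _).1 h χ hχ)
    simp only [hf, sub_mul, Finset.sum_sub_distrib, ite_mul, one_mul, zero_mul, Finset.sum_ite_eq', if_pos h1R,
      Subgroup.coe_one, mul_one, sub_eq_zero] at h2
    rw [h2, hA]
    simp only [Finset.mul_sum, Finset.sum_mul]
    rw [Finset.sum_comm]
    refine Finset.sum_congr rfl fun i _ => Finset.sum_congr rfl fun y _ => ?_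
    linear_combination (-c₀ * (deg (θ i : (Subgroup.centralizer ({t} : Set G) ⧸ Subgroup.zpowers z) → ℂ) : ℂ) * conj ((θ i : (Subgroup.centralizer ({t} : Set G) ⧸ Subgroup.zpowers z) → ℂ) (y : (Subgroup.centralizer ({t} : Set G) ⧸ Subgroup.zpowers z))) * (χ : G → ℂ) (t * (y : G))) * hsg2 i
  have hrel : ∑ i, (deg (θ i : (Subgroup.centralizer ({t} : Set G) ⧸ Subgroup.zpowers z) → ℂ) : ℂ) * (sg i : ℂ) = 0 := by
    have h := colKer_regular_singular b.hM (g := (1 : (Subgroup.centralizer ({t} : Set G) ⧸ Subgroup.zpowers z))) (by simp) (dvd_of_eq (hord q₀ hq₀ hq₀1).symm)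
    rw [colKer_principal, hsum] at h
    simp only [irr_apply_one_eq_deg, hθval _ _ (hord q₀ hq₀ hq₀1), hsgc] at h
    exact h
  -- the weights
  set W : IrrCharacter G → ℤ := fun χ => a 1 0 χ * a 1 0 χ + a 2 0 χ * a 2 0 χ + a 3 0 χ * a 3 0 χ +
    a 1 2 χ * a 1 2 χ + a 1 3 χ * a 1 3 χ + a 2 3 χ * a 2 3 χ with hW
  have hWnn : ∀ χ, 0 ≤ W χ := fun χ => by
    simp only [hW]
    nlinarith [mul_self_nonneg (a 1 0 χ), mul_self_nonneg (a 2 0 χ), mul_self_nonneg (a 3 0 χ),
      mul_self_nonneg (a 1 2 χ), mul_self_nonneg (a 1 3 χ), mul_self_nonneg (a 2 3 χ)]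
  have hWsum : ∑ χ ∈ pbFin M G, (W χ : ℂ) = 24 := by
    simp only [hW, Int.cast_add, Int.cast_mul, Finset.sum_add_distrib]
    rw [hfour 1 0 (by decide), hfour 2 0 (by decide), hfour 3 0 (by decide), hfour 1 2 (by decide),
      hfour 1 3 (by decide), hfour 2 3 (by decide)]
    norm_num
  have hW1 : 3 ≤ W (principal G) := by
    have h1 : A 1 (principal G) - A 0 (principal G) = -1 := by
      rw [hAsub]
      have h := hreg 1 0 0
      rw [Finset.mul_sum] at h
      simp only [hθ, hsg, Matrix.cons_val_zero, principal, one_mul, Fin.reduceEq, if_false, if_true,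
        Int.cast_one, zero_sub] at h
      simpa [principal, mul_one] using h
    have h2 : a 1 0 (principal G) = -1 := by
      rw [ha] at h1
      exact_mod_cast h1
    have h12 : ∀ i, a 1 i (principal G) = a 1 0 (principal G) - a i 0 (principal G) := fun i => by
      have : (a 1 i (principal G) : ℂ) = (a 1 0 (principal G) : ℂ) - (a i 0 (principal G) : ℂ) := by
        rw [← ha, ← ha, ← ha]; ring
      exact_mod_cast this
    have h23 : a 2 3 (principal G) = a 2 0 (principal G) - a 3 0 (principal G) := by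
      have : (a 2 3 (principal G) : ℂ) = (a 2 0 (principal G) : ℂ) - (a 3 0 (principal G) : ℂ) := by
        rw [← ha, ← ha, ← ha]; ring
      exact_mod_cast this
    simp only [hW, h12 2, h12 3, h23]
    exact three_le_pairs (Or.inl (by rw [h2]; norm_num))
  choose d hd hdge hddeg using fun χ : {χ : IrrCharacter G // χ ∈ pbNon M G} =>
    b.s_ge (mem_pbNon.1 χ.2).1 (mem_pbNon.1 χ.2).2
  have hdW : ∀ χ : {χ : IrrCharacter G // χ ∈ pbNon M G}, 0 ≤ 3 * d χ + W χ.1 := by
    intro χ
    rcases le_or_gt 0 (d χ) with h | h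
    · linarith [hWnn χ.1]
    have hd1 : d χ = -1 := by linarith [hdge χ]
    suffices 3 ≤ W χ.1 by linarith
    by_cases h0 : a 1 0 χ.1 = 0 ∧ a 2 0 χ.1 = 0 ∧ a 3 0 χ.1 = 0
    · exfalso
      have hAll : ∀ i, A i χ.1 = A 0 χ.1 := by
        intro i
        rw [← sub_eq_zero, ha]
        fin_cases i
        · have := ha 0 0 χ.1; rw [sub_self] at this; exact this.symm
        · simp [h0.1]
        · simp [h0.2.1]
        · simp [h0.2.2]
      have hv := hval0 χ.1 (mem_pbFin.2 (mem_pbNon.1 χ.2).1)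
      simp only [hAll, ← Finset.sum_mul, hrel, zero_mul] at hv
      rw [b.value χ.1 ht ht1, hd χ, hd1] at hv
      norm_num at hv
    · have h12 : ∀ i, a 1 i χ.1 = a 1 0 χ.1 - a i 0 χ.1 := fun i => by
        have : (a 1 i χ.1 : ℂ) = (a 1 0 χ.1 : ℂ) - (a i 0 χ.1 : ℂ) := by rw [← ha, ← ha, ← ha]; ring
        exact_mod_cast this
      have h23 : a 2 3 χ.1 = a 2 0 χ.1 - a 3 0 χ.1 := by
        have : (a 2 3 χ.1 : ℂ) = (a 2 0 χ.1 : ℂ) - (a 3 0 χ.1 : ℂ) := by rw [← ha, ← ha, ← ha]; ring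
        exact_mod_cast this
      simp only [hW, h12 2, h12 3, h23]
      refine three_le_pairs ?_
      tauto
  -- the kernel at the involution
  have hN : colKer (principalBlock M G) t t = 2 * ∑ i, (deg (θ i : (Subgroup.centralizer ({t} : Set G) ⧸ Subgroup.zpowers z) → ℂ) : ℂ) * (deg (θ i : (Subgroup.centralizer ({t} : Set G) ⧸ Subgroup.zpowers z) → ℂ) : ℂ) := by
    have h := colKer_principal_section b.hM ht2 rfl (X := Subgroup.zpowers z) (z := z) rfl hX
      (y := 1) (w := 1) (by simp) (by simp)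
    simp only [QuotientGroup.mk_one, Subgroup.coe_one, mul_one] at h
    rw [h, colKer_principal, hsum]
    simp only [irr_apply_one_eq_deg, Complex.conj_natCast]
  have hNd : colKer (principalBlock M G) t t = -8 * ∑ χ : {χ : IrrCharacter G // χ ∈ pbNon M G}, (d χ : ℂ) := by
    have h0 : colKer (principalBlock M G) 1 t = 0 := colKer_regular_singular b.hM (by simp) (dvd_of_eq ht2.symm)
    rw [colKer_principal, pbFin_sum b.hM, ← Finset.sum_coe_sort (pbNon M G)] at h0 ⊢
    have e : ∀ χ : {χ : IrrCharacter G // χ ∈ pbNon M G},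
        (χ.1 : G → ℂ) t = (d χ : ℂ) ∧ (χ.1 : G → ℂ) 1 = 8 + (d χ : ℂ) := fun χ => by
      refine ⟨by rw [b.value χ.1 ht ht1, hd χ], ?_⟩
      have := hddeg χ
      rw [h8] at this
      rw [irr_apply_one_eq_deg]
      exact_mod_cast this
    simp only [principal, map_one, mul_one, fun χ => (e χ).1, fun χ => (e χ).2, map_intCast, add_mul,
      Finset.sum_add_distrib, ← Finset.mul_sum] at h0 ⊢
    linear_combination h0
  have hfinal : (∑ χ : {χ : IrrCharacter G // χ ∈ pbNon M G}, W χ.1) + W (principal G) = 24 := by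
    have h := hWsum
    rw [pbFin_sum b.hM, ← Finset.sum_coe_sort (pbNon M G), add_comm] at h
    exact_mod_cast h
  have hge : (0 : ℤ) ≤ ∑ χ : {χ : IrrCharacter G // χ ∈ pbNon M G}, (3 * d χ + W χ.1) :=
    Finset.sum_nonneg fun χ _ => hdW χ
  rw [Finset.sum_add_distrib, ← Finset.mul_sum] at hge
  have hNZ : 2 * ∑ i, (deg (θ i : (Subgroup.centralizer ({t} : Set G) ⧸ Subgroup.zpowers z) → ℂ) : ℤ) * (deg (θ i : (Subgroup.centralizer ({t} : Set G) ⧸ Subgroup.zpowers z) → ℂ) : ℤ) =
      -8 * ∑ χ : {χ : IrrCharacter G // χ ∈ pbNon M G}, d χ := by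
    have := hN.symm.trans hNd
    exact_mod_cast this
  simp only [Fin.sum_univ_four, hθ, Matrix.cons_val_zero, Matrix.cons_val_one, Matrix.cons_val] at hNZ
  rw [show deg ((principal (Subgroup.centralizer ({t} : Set G) ⧸ Subgroup.zpowers z) : IrrCharacter (Subgroup.centralizer ({t} : Set G) ⧸ Subgroup.zpowers z)) : (Subgroup.centralizer ({t} : Set G) ⧸ Subgroup.zpowers z) → ℂ) = 1 by simp [deg, principal]] at hNZ
  push_cast at hNZ
  have q2 : (25 : ℤ) ≤ (deg (ζ₂ : (Subgroup.centralizer ({t} : Set G) ⧸ Subgroup.zpowers z) → ℂ) : ℤ) * (deg (ζ₂ : (Subgroup.centralizer ({t} : Set G) ⧸ Subgroup.zpowers z) → ℂ) : ℤ) := by exact_mod_cast Nat.mul_le_mul hD2 hD2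
  have q3 : (9 : ℤ) ≤ (deg (ζ₃ : (Subgroup.centralizer ({t} : Set G) ⧸ Subgroup.zpowers z) → ℂ) : ℤ) * (deg (ζ₃ : (Subgroup.centralizer ({t} : Set G) ⧸ Subgroup.zpowers z) → ℂ) : ℤ) := by exact_mod_cast Nat.mul_le_mul hD3 hD3
  have q4 : (9 : ℤ) ≤ (deg (ζ₄ : (Subgroup.centralizer ({t} : Set G) ⧸ Subgroup.zpowers z) → ℂ) : ℤ) * (deg (ζ₄ : (Subgroup.centralizer ({t} : Set G) ⧸ Subgroup.zpowers z) → ℂ) : ℤ) := by exact_mod_cast Nat.mul_le_mul hD4 hD4
  linarith

/-- The centralizer of every involution is covered by its core. -/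
theorem closed_centralizer (b : Base M u s P) {t : G} (ht : t ∈ (P : Subgroup G)) (ht1 : t ≠ 1) :
    Closed (P.subtype (comm_mem_centralizer (fun _ h => b.sq_eq_one h) ht)) := by
  rcases b.noTransitive_or_eight ht ht1 with h | ⟨h8, htr⟩
  · exact closed_of_noTransitive _ _ rfl (fun x hx => Subtype.ext (b.sq_eq_one hx)) h
  · exact b.closed_eight ht ht1 h8 htr

end Base

end Cfsg.Lib.Deficit
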