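import Cfsg.Agent.Blocks.ConstantDeficit.Alpha
import Cfsg.Agent.Blocks.ConstantDeficit.SLEven
import Cfsg.Agent.Blocks.PrincipalColumn
import Cfsg.Agent.Blocks.Quotient
import Cfsg.Agent.Components.PComponents
import Cfsg.Agent.S2202

/-!
# A constant difference between degree and value in the principal 2-block
-/

set_option autoImplicit false
set_option linter.unusedSectionVars false
set_option linter.style.haveILetI false

namespace Cfsg.Lib.Deficit

open Cfsg Cfsg.Lib.Chars Cfsg.Lib.Blocks
open scoped ComplexConjugate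

universe u

variable {G : Type u} [Group G] [Fintype G] {M : Ideal AlgInt}

/-- The forward direction for a trivial core. -/
theorem forward_core (hM : IsPModular 2 M) (hO : Cfsg.oddCore G = ⊥) {u : G} {k : ℂ} (hk : IsDeficit M u k)
    (hu : u ≠ 1) :
    Nat.card G = 2 ∨ ∃ (F : Type) (_ : Field F) (_ : Fintype F) (n : ℕ), 2 ≤ n ∧ Fintype.card F = 2 ^ n ∧
      Nonempty (G ≃* Matrix.SpecialLinearGroup (Fin 2) F) ∧ u ^ 2 = 1 := by
  classical
  haveI : Fact (Nat.Prime 2) := ⟨Nat.prime_two⟩
  have hk0 : k ≠ 0 := fun h => hu (by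
    have h1 := mem_oddCore_of_deficit_zero hM hk h
    rwa [hO, Subgroup.mem_bot] at h1)
  have hG : 2 ∣ Nat.card G := by
    by_contra h
    refine hu ?_
    have h1 : (⊤ : Subgroup G) ≤ Cfsg.oddCore G := le_oddCore (by rwa [Subgroup.card_top])
    have h2 := h1 (Subgroup.mem_top u)
    rwa [hO, Subgroup.mem_bot] at h2
  -- the parts of `u` and a Sylow 2-subgroup
  obtain ⟨s, hs⟩ := exists_isPPart' (p := 2) Nat.prime_two u
  have hs' := hs
  obtain ⟨y, hsy, hcy, ⟨j, hj⟩, hy⟩ := hs'
  obtain ⟨P, hP⟩ := (IsPGroup.of_card (n := j) (by rw [Nat.card_zpowers, hj]) :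
    IsPGroup 2 (Subgroup.zpowers s)).exists_le_sylow
  have hmem : s ∈ (P : Subgroup G) := hP (Subgroup.mem_zpowers s)
  obtain ⟨a, ha⟩ := IsPGroup.iff_card.1 P.2
  have hfac : (Nat.card G).factorization 2 = a := by
    refine Nat.pow_right_injective (le_refl 2) ?_
    exact P.card_eq_multiplicity.symm.trans ha
  by_cases hsmall : Nat.card (P : Subgroup G) < 4
  · -- a normal complement
    left
    have hP2 : ∀ t ∈ (P : Subgroup G), t * t = 1 := by
      intro t ht
      have hd : orderOf t ∣ 2 := by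
        refine (Subgroup.orderOf_dvd_natCard _ ht).trans ?_
        rcases a with _ | _ | a
        · rw [ha]; norm_num
        · rw [ha]; norm_num
        · exfalso
          rw [ha] at hsmall
          have : 2 ^ 2 ≤ 2 ^ (a + 1 + 1) := Nat.pow_le_pow_right (by norm_num) (by omega)
          omega
      rw [← pow_two]; exact orderOf_dvd_iff_pow_eq_one.1 hd
    obtain ⟨K, hKn, hKc, hKP, -⟩ := exists_complement P
      (normalizer_le_centralizer_of_four P hP2 (by omega) fun h => absurd h (by omega))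
    haveI := hKn
    have hK : K = ⊥ := le_bot_iff.1 (hO ▸ le_oddCore hKc)
    rw [hK, bot_sup_eq] at hKP
    have hc : Nat.card G = Nat.card (P : Subgroup G) := by rw [hKP, Subgroup.card_top]
    rw [hc, ha]
    rcases a with _ | _ | a
    · exfalso
      rw [hc, ha] at hG
      norm_num at hG
    · rfl
    · exfalso
      rw [ha] at hsmall
      have : 2 ^ 2 ≤ 2 ^ (a + 1 + 1) := Nat.pow_le_pow_right (by norm_num) (by omega)
      omega
  right
  have hkq : k = (Nat.card (P : Subgroup G) : ℂ) := by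
    rw [deficit_eq hM hG hk hk0, hfac, ha]
    push_cast
    rfl
  subst hkq
  have b : Base M u s P := ⟨hM, hO, by omega, hk, hs, hmem⟩
  have hy1 : y = 1 := by
    have h := b.centralizer_eq hmem b.s_ne_one (g := y) hcy.eq.symm
    exact eq_one_of_odd_two P.2 h hy dvd_rfl
  have hus : u = s := by rw [← hsy, hy1, mul_one]
  have hu2 : u ^ 2 = 1 := by rw [hus, pow_two]; exact b.sq_eq_one hmem
  have hcomm : ∀ t : G, orderOf t = 2 → IsMulCommutative ↥(Subgroup.centralizer ({t} : Set G)) := by
    intro t ht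
    obtain ⟨Q, hQ⟩ := (IsPGroup.of_card (n := 1) (by rw [Nat.card_zpowers, ht, pow_one]) :
      IsPGroup 2 (Subgroup.zpowers t)).exists_le_sylow
    obtain ⟨c, hc⟩ := MulAction.exists_smul_eq G Q P
    have hm : c * t * c⁻¹ ∈ (P : Subgroup G) := by
      rw [← hc, Sylow.coe_subgroup_smul]
      exact Subgroup.smul_mem_pointwise_smul t (MulAut.conj c) _ (hQ (Subgroup.mem_zpowers t))
    have hne : c * t * c⁻¹ ≠ 1 := fun h => by
      rw [conj_eq_one_iff.1 h, orderOf_one] at ht
      exact absurd ht (by norm_num)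
    have hin : ∀ g : Subgroup.centralizer ({t} : Set G), c * (g : G) * c⁻¹ ∈ (P : Subgroup G) := fun g =>
      b.centralizer_eq hm hne (by
        calc c * (g : G) * c⁻¹ * (c * t * c⁻¹) = c * ((g : G) * t) * c⁻¹ := by group
          _ = c * (t * (g : G)) * c⁻¹ := by rw [Subgroup.mem_centralizer_singleton_iff.1 g.2]
          _ = c * t * c⁻¹ * (c * (g : G) * c⁻¹) := by group)
    refine ⟨⟨fun g g' => Subtype.ext ?_⟩⟩
    have h := b.comm (hin g) (hin g')
    have h' : c * ((g : G) * g') * c⁻¹ = c * ((g' : G) * g) * c⁻¹ := by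
      calc c * ((g : G) * g') * c⁻¹ = (c * (g : G) * c⁻¹) * (c * g' * c⁻¹) := by group
        _ = (c * g' * c⁻¹) * (c * (g : G) * c⁻¹) := h
        _ = c * ((g' : G) * g) * c⁻¹ := by group
    exact mul_left_cancel (mul_right_cancel h')
  have h4 := b.four
  rcases Cfsg.Agent.S2202.result (even_iff_two_dvd.2 hG) hcomm with hcyc | hnorm | ⟨F, hF, hFf, A, hA, hAf, hchar, hAodd, ⟨e⟩⟩
  · exfalso
    haveI := hcyc P
    obtain ⟨g, hg⟩ := IsCyclic.exists_generator (α := (P : Subgroup G))
    have h1 : Nat.card (P : Subgroup G) = orderOf g := by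
      rw [← Nat.card_zpowers, show Subgroup.zpowers g = ⊤ from eq_top_iff.2 fun x _ => hg x, Subgroup.card_top]
    have h2 : orderOf g ∣ 2 := orderOf_dvd_of_pow_eq_one (by rw [pow_two]; exact Subtype.ext (b.sq_eq_one g.2))
    have := Nat.le_of_dvd two_pos h2
    omega
  · exfalso
    haveI := hnorm P
    have hself := b.centralizer_le
    have hall : ∀ ψ : IrrCharacter G, ψ ∈ principalBlock M G := fun ψ =>
      sameBlock_of_self_centralizing hM P.2 hself (principal G) ψ
    have hPtop : (P : Subgroup G) = ⊤ := by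
      by_contra hne
      haveI : Nontrivial (G ⧸ (P : Subgroup G)) := QuotientGroup.nontrivial_iff.2 hne
      have hodd : Odd (P : Subgroup G).index := Nat.odd_iff.2 (by have := P.not_dvd_index; omega)
      haveI : Group.IsSolvable (G ⧸ (P : Subgroup G)) := Cfsg.Agent.S0205.result hodd
      obtain ⟨q, hq⟩ : ∃ q : Abelianization (G ⧸ (P : Subgroup G)), q ≠ 1 := by
        by_contra! h
        refine (Group.IsSolvable.commutator_lt_top_of_nontrivial (G ⧸ (P : Subgroup G))).ne (eq_top_iff.2 fun x _ => ?_)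
        exact (QuotientGroup.eq_one_iff x).1 (h (Abelianization.of x))
      obtain ⟨φ, hφ⟩ := CommGroup.exists_apply_ne_one_of_hasEnoughRootsOfUnity (Abelianization (G ⧸ (P : Subgroup G))) ℂ hq
      set μ : G →* ℂˣ := φ.comp (Abelianization.of.comp (QuotientGroup.mk' (P : Subgroup G))) with hμ
      have hne' : (⟨fun g => (μ g : ℂ), isIrrCharacter_linear μ⟩ : IrrCharacter G) ≠ principal G := fun h => by
        refine hφ ?_
        obtain ⟨x, rfl⟩ := QuotientGroup.mk_surjective q
        obtain ⟨g, rfl⟩ := QuotientGroup.mk_surjective x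
        exact Units.ext (congrFun (congrArg Subtype.val h) g)
      have hμs : μ s = 1 := by
        rw [hμ, MonoidHom.comp_apply, MonoidHom.comp_apply, QuotientGroup.mk'_apply,
          (QuotientGroup.eq_one_iff s).2 hmem, map_one, map_one]
      have h := b.drop (hall _) hne'
      simp only [map_one, hμs, Units.val_one, sub_self] at h
      exact b.cast_ne_zero h.symm
    haveI : Nontrivial (P : Subgroup G) := Finite.one_lt_card_iff_nontrivial.1 (by omega)
    have hle : Nat.card (P : Subgroup G) ≤ 2 := by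
      have hsub : ((P : Subgroup G) : Set G) ⊆ {1, s} := fun t ht => by
        rcases eq_or_ne t 1 with h | h
        · exact Or.inl h
        · obtain ⟨c, hc⟩ := isConj_iff.1 (b.isConj ht h)
          right
          rw [Set.mem_singleton_iff, ← hc, b.comm (hPtop ▸ Subgroup.mem_top c) hmem, mul_inv_cancel_right]
      refine (le_of_eq (Nat.card_coe_set_eq _)).trans ((Set.ncard_le_ncard hsub (Set.toFinite _)).trans ?_)
      exact (Set.ncard_insert_le _ _).trans (by rw [Set.ncard_singleton])
    omega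
  · letI := hF; letI := hFf; letI := hA
    haveI := hAf; haveI := hchar
    obtain ⟨n, -, hn⟩ := FiniteField.card F 2
    -- the odd factor is trivial
    set N : Subgroup G := (MonoidHom.fst (Matrix.SpecialLinearGroup (Fin 2) F) A).ker.comap e.toMonoidHom with hN
    haveI : N.Normal := by rw [hN]; infer_instance
    have hNA : Nat.card N = Nat.card A := by
      refine Nat.card_congr
        { toFun := fun x => (e x).2
          invFun := fun a => ⟨e.symm (1, a), by
            show (e (e.symm (1, a))).1 = 1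
            rw [e.apply_symm_apply]⟩
          left_inv := fun x => Subtype.ext (by
            have hx : (e (x : G)).1 = 1 := x.2
            show e.symm (1, (e (x : G)).2) = (x : G)
            rw [← hx, Prod.mk.eta, e.symm_apply_apply])
          right_inv := fun a => by simp }
    have hN0 : N = ⊥ := le_bot_iff.1 (hO ▸ le_oddCore (N := N) (by
      rw [hNA]; exact fun h => Nat.not_even_iff_odd.2 hAodd (even_iff_two_dvd.2 h)))
    have hA1 : Nat.card A = 1 := by rw [← hNA, hN0, Subgroup.card_bot]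
    haveI : Subsingleton A := (Nat.card_eq_one_iff_unique.1 hA1).1
    let e' : G ≃* Matrix.SpecialLinearGroup (Fin 2) F :=
      e.trans { toFun := Prod.fst
                invFun := fun x => (x, 1)
                left_inv := fun x => Prod.ext rfl (Subsingleton.elim _ _)
                right_inv := fun x => rfl
                map_mul' := fun _ _ => rfl }
    refine ⟨F, hF, hFf, n, ?_, hn, ⟨e'⟩, hu2⟩
    by_contra hlt
    have hn1 : Fintype.card F = 2 := by
      have hlt' : ¬ (2 : ℕ) ≤ (n : ℕ) := hlt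
      have hpos : 0 < (n : ℕ) := n.pos
      rw [hn, show (n : ℕ) = 1 by omega, pow_one]
    have h6 : Nat.card G = 6 := by
      rw [Nat.card_congr e'.toEquiv, Cfsg.SLPair.card_sl, hn1]; norm_num
    have h46 : 4 ∣ 6 := by
      refine dvd_trans ?_ (h6 ▸ (P : Subgroup G).card_subgroup_dvd_card)
      rw [ha] at h4 ⊢
      refine (show 4 = 2 ^ 2 by norm_num) ▸ pow_dvd_pow 2 ?_
      by_contra h
      have : 2 ^ a ≤ 2 ^ 1 := Nat.pow_le_pow_right (by norm_num) (by omega)
      omega
    norm_num at h46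

/-- The converse for the group of order two. -/
theorem deficit_two (hG : Nat.card G = 2) {u : G} (hu : u ≠ 1) {φ : IrrCharacter G} (hne : φ ≠ principal G) :
    (φ : G → ℂ) 1 - (φ : G → ℂ) u = 2 := by
  classical
  have hd : deg (φ : G → ℂ) = 1 := by
    have h1 := deg_sq_le φ
    have h2 := deg_irr_pos φ
    rw [hG] at h1
    nlinarith
  obtain ⟨μ, hμ⟩ := exists_hom_of_deg_one (isCharacter_of_irr φ.2) (by rw [irr_apply_one_eq_deg, hd, Nat.cast_one])
  have hsq : (μ u : ℂ) * (μ u : ℂ) = 1 := by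
    rw [← Units.val_mul, ← map_mul, ← pow_two, orderOf_dvd_iff_pow_eq_one.1 (hG ▸ orderOf_dvd_natCard u), map_one,
      Units.val_one]
  rw [hμ]
  show (μ 1 : ℂ) - (μ u : ℂ) = 2
  rcases mul_self_eq_one_iff.1 hsq with h | h
  · exfalso
    refine hne (Subtype.ext ?_)
    rw [hμ]
    funext g
    rw [Nat.card_eq_two_iff' (1 : G)] at hG
    obtain ⟨w, -, hw⟩ := hG
    by_cases hg : g = 1
    · simp [hg, principal]
    · rw [hw g hg, ← hw u hu]; exact h
  · rw [map_one, Units.val_one, h]; norm_num

/-- The two directions. -/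
theorem deficit_iff (hM : IsPModular 2 M) (u : G) :
    (∃ k : ℂ, IsDeficit M u k) ↔
      (u ∈ Cfsg.oddCore G ∨ (Nat.card (G ⧸ Cfsg.oddCore G) = 2 ∧ u ∉ Cfsg.oddCore G) ∨
        (∃ (F : Type) (_ : Field F) (_ : Fintype F) (n : ℕ), 2 ≤ n ∧ Fintype.card F = 2 ^ n ∧
          Nonempty (G ⧸ Cfsg.oddCore G ≃* Matrix.ProjectiveSpecialLinearGroup (Fin 2) F) ∧ u ∉ Cfsg.oddCore G ∧
            u ^ 2 ∈ Cfsg.oddCore G)) := by
  classical
  letI := Fintype.ofFinite (G ⧸ Cfsg.oddCore G)
  have hcore : ¬ 2 ∣ Nat.card (Cfsg.oddCore G) := not_two_dvd_oddCore G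
  have himg := image_inflate_principal (G := G) hM (Cfsg.oddCore G) hcore
  have hprin : inflate (Cfsg.oddCore G) (principal (G ⧸ Cfsg.oddCore G)) = principal G := Subtype.ext rfl
  have hlift : ∀ k : ℂ, IsDeficit M (u : G ⧸ Cfsg.oddCore G) k → IsDeficit M u k := by
    intro k hk χ hχ hne
    rw [← himg] at hχ
    obtain ⟨φ, hφ, rfl⟩ := hχ
    exact hk φ hφ fun h => hne (by rw [h, hprin])
  constructor
  · rintro ⟨k, hk⟩
    by_cases hu : u ∈ Cfsg.oddCore G
    · exact Or.inl hu
    refine Or.inr ?_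
    have hkQ : IsDeficit M (u : G ⧸ Cfsg.oddCore G) k := by
      intro φ hφ hne
      refine hk (inflate (Cfsg.oddCore G) φ) (himg ▸ Set.mem_image_of_mem _ hφ) fun h => hne (Subtype.ext (funext fun x => ?_))
      obtain ⟨g, rfl⟩ := QuotientGroup.mk_surjective x
      exact congrFun (congrArg Subtype.val h) g
    rcases forward_core hM Cfsg.Lib.Components.pPrimeCore_quotient_eq_bot hkQ
      (fun h => hu ((QuotientGroup.eq_one_iff u).1 h)) with h | ⟨F, hF, hFf, n, hn, hcard, ⟨e⟩, hu2⟩
    · exact Or.inl ⟨h, hu⟩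
    · letI := hF; letI := hFf
      haveI : CharP F 2 := by
        haveI : Fact (Nat.Prime 2) := ⟨Nat.prime_two⟩
        exact charP_of_card_eq_prime_pow hcard
      obtain ⟨e₂⟩ := sl_psl_equiv F
      exact Or.inr ⟨F, hF, hFf, n, hn, hcard, ⟨e.trans e₂⟩, hu,
        (QuotientGroup.eq_one_iff _).1 (by rw [QuotientGroup.mk_pow]; exact hu2)⟩
  · rintro (hu | ⟨h2, hu⟩ | ⟨F, hF, hFf, n, hn, hcard, ⟨e⟩, hu, hu2⟩)
    · exact ⟨0, fun χ hχ _ => by rw [apply_eq_of_mem_normal_pPrime hM _ hcore hχ hu, sub_self]⟩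
    · exact ⟨2, hlift 2 fun φ _ hne => deficit_two h2 (fun h => hu ((QuotientGroup.eq_one_iff u).1 h)) hne⟩
    · letI := hF; letI := hFf
      haveI : CharP F 2 := by
        haveI : Fact (Nat.Prime 2) := ⟨Nat.prime_two⟩
        exact charP_of_card_eq_prime_pow hcard
      obtain ⟨e₂⟩ := sl_psl_equiv F
      let e' : G ⧸ Cfsg.oddCore G ≃* Matrix.SpecialLinearGroup (Fin 2) F := e.trans e₂.symm
      letI : Fintype (Matrix.SpecialLinearGroup (Fin 2) F) := Fintype.ofFinite _
      have h4 : 4 ≤ Fintype.card F := by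
        rw [hcard]
        exact (show 4 = 2 ^ 2 by norm_num) ▸ Nat.pow_le_pow_right (by norm_num) hn
      refine ⟨(Fintype.card F : ℂ), hlift _ fun φ _ hne => ?_⟩
      have hv : e' (u : G ⧸ Cfsg.oddCore G) ≠ 1 := fun h => hu ((QuotientGroup.eq_one_iff u).1
        (e'.map_eq_one_iff.1 h))
      have hv2 : e' (u : G ⧸ Cfsg.oddCore G) * e' (u : G ⧸ Cfsg.oddCore G) = 1 := by
        rw [← map_mul, ← QuotientGroup.mk_mul, ← pow_two, (QuotientGroup.eq_one_iff _).2 hu2, map_one]
      let ψ : IrrCharacter (Matrix.SpecialLinearGroup (Fin 2) F) :=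
        ⟨fun x => (φ : G ⧸ Cfsg.oddCore G → ℂ) (e'.symm x), IsIrrCharacter.comp_mulEquiv φ.2 e'.symm⟩
      have hψ : ψ ≠ principal _ := fun h => hne (Subtype.ext (funext fun x => by
        have := congrFun (congrArg Subtype.val h) (e' x)
        simpa [ψ, principal] using this))
      have h := sl_deficit h4 hv hv2 ψ hψ
      simpa [ψ] using h

end Cfsg.Lib.Deficit
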