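import Cfsg.Agent.Blocks.Columns
import Cfsg.Agent.Blocks.Third
import Cfsg.Agent.Blocks.Feit
import Cfsg.Agent.Blocks.RegularCongr
import Cfsg.Agent.Blocks.SubsectionColumns

/-!
# The parity of the sum of a character of the principal 2-block over a section
-/

set_option autoImplicit false
set_option linter.unusedSectionVars false

namespace Cfsg.Lib.Deficit

open Cfsg Cfsg.Lib.Chars Cfsg.Lib.Blocks
open scoped ComplexConjugate

universe u

variable {G : Type u} [Group G] [Fintype G] {M : Ideal AlgInt}

/-- The part of two in the order, over the order. -/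
noncomputable def twoRatio (H : Type u) [Group H] : ℂ :=
  (2 : ℂ) ^ (Nat.card H).factorization 2 / (Nat.card H : ℂ)

theorem regInt_principal_parity (hM : IsPModular 2 M) {θ : IrrCharacter G}
    (hθ : θ ∈ principalBlock M G) :
    (2 : ℤ) ∣ regInt 2 (principal G) θ - (deg (θ : G → ℂ) : ℤ) := by
  have h := regInt_height_zero hM (isPBlock_blockOf (M := M) (principal G)) (mem_blockOf_self hM (principal G))
    (blockHeight_one _) hθ
  obtain ⟨hne, hf⟩ := h
  have hd0 : deg (θ : G → ℂ) ≠ 0 := (deg_irr_pos θ).ne'
  have key : 2 ∣ (regInt 2 (principal G) θ).natAbs ↔ 2 ∣ deg (θ : G → ℂ) := by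
    rw [Nat.prime_two.dvd_iff_one_le_factorization (Int.natAbs_ne_zero.2 hne),
      Nat.prime_two.dvd_iff_one_le_factorization hd0, hf]
  have h2 : (regInt 2 (principal G) θ).natAbs % 2 = deg (θ : G → ℂ) % 2 := by
    rcases Nat.mod_two_eq_zero_or_one (deg (θ : G → ℂ)) with h' | h' <;>
      rcases Nat.mod_two_eq_zero_or_one (regInt 2 (principal G) θ).natAbs with h'' | h'' <;> omega
  omega

/-- The scaled sum over the regular elements is the regular inner product with the principal character. -/
theorem twoRatio_mul_sum (θ : IrrCharacter G) :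
    twoRatio G * ∑ z ∈ Finset.univ.filter (fun z : G => ¬ 2 ∣ orderOf z), (θ : G → ℂ) z =
      (regInt 2 (principal G) θ : ℂ) := by
  classical
  rw [regInt_symm Nat.prime_two, regInt_spec Nat.prime_two, classInner_def, twoRatio, div_eq_mul_inv,
    mul_assoc, Finset.sum_filter]
  push_cast
  refine congrArg _ (congrArg _ (Finset.sum_congr rfl fun z _ => ?_))
  rw [pRegularPart_apply, show ((principal G : IrrCharacter G) : G → ℂ) z = 1 from rfl, map_one, mul_one]
  split_ifs <;> rfl

variable {t : G} {H : Subgroup G} [Fintype H]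

/-- Over the section of a `2`-element a principal character has the parity of its degree. -/
theorem small_section_sum (hM : IsPModular 2 M) (ht : ∃ k : ℕ, orderOf t = 2 ^ k)
    (hH : H = Subgroup.centralizer (Subgroup.zpowers t : Set G)) {χ : IrrCharacter G}
    (hχ : χ ∈ principalBlock M G) :
    Small M (twoRatio H * ∑ z ∈ Finset.univ.filter (fun z : H => ¬ 2 ∣ orderOf z),
      (χ : G → ℂ) (t * (z : G)) - (χ : G → ℂ) 1) := by
  classical
  set f : H → ℂ := fun c => (χ : G → ℂ) (t * (c : G)) with hf
  set b := principalBlock M H with hb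
  have hB : IsPBlock M (principalBlock M G) := isPBlock_blockOf (principal G)
  have hpart : ∀ y : H, ¬ 2 ∣ orderOf y → blockPart b f y = f y := fun y hy => by
    conv_rhs => rw [hf]
    simp only
    rw [apply_mul_eq_sum_blockPart hM ht hH hB hχ hy, filter_induced_principal hM ht hH, Finset.sum_singleton]
  obtain ⟨k, hk⟩ := ht
  have htH : t ∈ H := by
    rw [hH, centralizer_zpowers, Subgroup.mem_centralizer_singleton_iff]
  set t' : H := ⟨t, htH⟩
  have htc : t' ∈ Subgroup.center H := Subgroup.mem_center_iff.2 fun c => Subtype.ext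
    (commute_of_mem_centralizer hH c.2).eq.symm
  -- the coefficients are algebraic integers
  have hc : ∀ θ : IrrCharacter H, classInner f (θ : H → ℂ) ∈ place M := by
    intro θ
    obtain ⟨m, hm⟩ := IsCharacter.exists_mult (IsCharacter.restrict (isCharacter_of_irr χ.2) H) θ.2
    set ε := (θ : H → ℂ) t'⁻¹ / (θ : H → ℂ) 1
    have hε : IsIntegral ℤ (conj ε) := by
      have h1 : ε ^ 2 ^ k = 1 := apply_central_root θ (inv_mem htc) (by
        rw [inv_pow, inv_eq_one]
        exact Subtype.ext (by simp only [SubmonoidClass.coe_pow, OneMemClass.coe_one, t']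
                              rw [← hk, pow_orderOf_eq_one]))
      refine IsIntegral.of_pow (pow_pos two_pos k) ?_
      rw [← map_pow, h1, map_one]
      exact isIntegral_one
    have e : classInner f (θ : H → ℂ) = conj ε * classInner (fun c : H => (χ : G → ℂ) c) (θ : H → ℂ) := by
      rw [classInner_def, classInner_def, mul_left_comm, Finset.mul_sum (a := conj ε)]
      congr 1
      refine Fintype.sum_equiv (Equiv.mulLeft t') _ _ fun c => ?_
      simp only [Equiv.coe_mulLeft, Subgroup.coe_mul]
      have h2 : (θ : H → ℂ) c = ε * (θ : H → ℂ) (t' * c) := by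
        rw [← apply_mul_central θ (inv_mem htc), inv_mul_cancel_left]
      rw [h2, map_mul, hf]
      ring
    rw [e, hm]
    exact mul_mem (isIntegral_mem_place hM hε) (natCast_mem_place m)
  -- the two values as combinations
  have hexp : ∀ y : H, ¬ 2 ∣ orderOf y →
      f y = ∑ θ ∈ Finset.univ.filter (· ∈ b), classInner f (θ : H → ℂ) * (θ : H → ℂ) y := fun y hy => by
    rw [← blockPart_eq_sum, hpart y hy]
  have hT : twoRatio H * ∑ z ∈ Finset.univ.filter (fun z : H => ¬ 2 ∣ orderOf z), (χ : G → ℂ) (t * (z : G)) =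
      ∑ θ ∈ Finset.univ.filter (· ∈ b), classInner f (θ : H → ℂ) * (regInt 2 (principal H) θ : ℂ) := by
    rw [Finset.sum_congr rfl fun (z : H) hz => (hexp z (Finset.mem_filter.1 hz).2 : (χ : G → ℂ) (t * (z : G)) = _),
      Finset.sum_comm, Finset.mul_sum]
    refine Finset.sum_congr rfl fun θ _ => ?_
    rw [← twoRatio_mul_sum, ← Finset.mul_sum]
    ring
  have h1 : f 1 = ∑ θ ∈ Finset.univ.filter (· ∈ b), classInner f (θ : H → ℂ) * (deg (θ : H → ℂ) : ℂ) := by
    rw [hexp 1 (by simp)]
    exact Finset.sum_congr rfl fun θ _ => by rw [irr_apply_one_eq_deg]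
  have hs : Small M (twoRatio H * ∑ z ∈ Finset.univ.filter (fun z : H => ¬ 2 ∣ orderOf z),
      (χ : G → ℂ) (t * (z : G)) - f 1) := by
    rw [hT, h1, ← Finset.sum_sub_distrib]
    refine small_sum _ _ fun θ hθ => ?_
    rw [← mul_sub]
    refine Small.mem_mul ?_ (hc θ)
    exact_mod_cast small_intCast hM (regInt_principal_parity hM (Finset.mem_filter.1 hθ).2)
  have ht1 : Small M ((χ : G → ℂ) t - (χ : G → ℂ) 1) := by
    have hpp : IsPPart 2 t t := by
      simpa using isPPart_mul (Commute.one_right t) ⟨k, hk⟩ (by simp : ¬ 2 ∣ orderOf (1 : G))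
    simpa using small_char_sub_regular hM (isCharacter_of_irr χ.2) hpp
  have := hs.add ht1
  simpa [hf] using this

end Cfsg.Lib.Deficit
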