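import Cfsg.Agent.Blocks.ConstantDeficit.Values
import Cfsg.Agent.Blocks.ConstantDeficit.Closed
import Cfsg.Agent.S3360
import Mathlib.FieldTheory.Fixed
import Mathlib.RingTheory.IntegralDomain
import Mathlib.Algebra.Ring.Action.Invariant

/-!
# The normalizer is semilinear on the Sylow 2-subgroup
-/

set_option autoImplicit false
set_option linter.unusedSectionVars false
set_option linter.style.haveILetI false

namespace Cfsg.Lib.Deficit

open Cfsg Cfsg.Lib.Chars Cfsg.Lib.Blocks

universe u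

variable {G : Type u} [Group G] [Fintype G] {M : Ideal AlgInt} {u s : G} {P : Sylow 2 G}

/-- A semilinear structure on the Sylow 2-subgroup with `t` as one. -/
def IsSemilinear (P : Sylow 2 G) (t : G) (F : Type) [Field F] [Fintype F] (e : G → F) : Prop :=
  e t = 1 ∧ (∀ x ∈ (P : Subgroup G), ∀ y ∈ (P : Subgroup G), e (x * y) = e x + e y) ∧
    (∀ x ∈ (P : Subgroup G), ∀ y ∈ (P : Subgroup G), e x = e y → x = y) ∧
    (∀ v : F, ∃ x ∈ (P : Subgroup G), e x = v) ∧
    ∀ n ∈ Subgroup.normalizer ((P : Subgroup G) : Set G), ∃ (a : F) (σ : F ≃+* F),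
      ∀ x ∈ (P : Subgroup G), e (n * x * n⁻¹) = a * σ (e x)

theorem IsSemilinear.card {t : G} {F : Type} [Field F] [Fintype F] {e : G → F} (h : IsSemilinear P t F e) :
    Fintype.card F = Nat.card (P : Subgroup G) := by
  rw [← Nat.card_eq_fintype_card]
  refine (Nat.card_congr (Equiv.ofBijective (fun x : (P : Subgroup G) => e x) ⟨fun x y he => ?_, fun v => ?_⟩)).symm
  · exact Subtype.ext (h.2.2.1 x x.2 y y.2 he)
  · obtain ⟨x, hx, he⟩ := h.2.2.2.1 v
    exact ⟨⟨x, hx⟩, he⟩

theorem IsSemilinear.map_one {t : G} {F : Type} [Field F] [Fintype F] {e : G → F} (h : IsSemilinear P t F e) :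
    e 1 = 0 := by
  have := h.2.1 1 (one_mem _) 1 (one_mem _)
  rw [one_mul] at this
  exact left_eq_add.1 this

/-- The automorphisms of a finite field commute. -/
theorem ringAut_comm {F : Type} [Field F] [Fintype F] (σ τ : F ≃+* F) (v : F) : σ (τ v) = τ (σ v) := by
  obtain ⟨g, hg⟩ := IsCyclic.exists_monoid_generator (α := Fˣ)
  rcases eq_or_ne v 0 with rfl | hv
  · simp
  obtain ⟨k, hk⟩ := Submonoid.mem_powers_iff _ _ |>.1 (hg (Units.mk0 v hv))
  obtain ⟨i, hi⟩ := Submonoid.mem_powers_iff _ _ |>.1 (hg (Units.mk0 (σ g) (by simp)))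
  obtain ⟨j, hj⟩ := Submonoid.mem_powers_iff _ _ |>.1 (hg (Units.mk0 (τ g) (by simp)))
  have hi' : σ (g : F) = (g : F) ^ i := by rw [← Units.val_pow_eq_pow_val, hi, Units.val_mk0]
  have hj' : τ (g : F) = (g : F) ^ j := by rw [← Units.val_pow_eq_pow_val, hj, Units.val_mk0]
  have hk' : v = (g : F) ^ k := by rw [← Units.val_pow_eq_pow_val, hk, Units.val_mk0]
  rw [hk']
  simp only [map_pow, hi', hj', ← pow_mul, mul_comm, mul_left_comm]

namespace Base

theorem isMulCommutative (b : Base M u s P) : IsMulCommutative (P : Subgroup G) :=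
  ⟨⟨fun a c => Subtype.ext (b.comm a.2 c.2)⟩⟩

theorem transitive (b : Base M u s P) {x y : G} (hx : x ∈ (P : Subgroup G)) (hx1 : x ≠ 1)
    (hy : y ∈ (P : Subgroup G)) (hy1 : y ≠ 1) :
    ∃ n ∈ Subgroup.normalizer ((P : Subgroup G) : Set G), n * x * n⁻¹ = y := by
  haveI : Fact (Nat.Prime 2) := ⟨Nat.prime_two⟩
  haveI := b.isMulCommutative
  obtain ⟨g, hg⟩ := isConj_iff.1 ((b.isConj hx hx1).symm.trans (b.isConj hy hy1))
  obtain ⟨n, hn, hn'⟩ := P.conj_eq_normalizer_conj_of_mem x g⁻¹ hx (by rw [inv_inv, hg]; exact hy)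
  exact ⟨n⁻¹, inv_mem hn, by rw [inv_inv, ← hn', inv_inv, hg]⟩

theorem exists_semilinear (b : Base M u s P) {t : G} (ht : t ∈ (P : Subgroup G)) (ht1 : t ≠ 1) :
    ∃ (F : Type) (_ : Field F) (_ : Fintype F) (e : G → F), IsSemilinear P t F e := by
  classical
  haveI : Fact (Nat.Prime 2) := ⟨Nat.prime_two⟩
  set P' := (P : Subgroup G) with hP'
  letI : CommGroup P' :=
    { P'.toGroup with
      mul_comm := fun a c => Subtype.ext (b.comm a.2 c.2) }
  let N := Subgroup.normalizer (P' : Set G)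
  letI : Module (ZMod 2) (Additive P') := AddCommGroup.zmodModule (n := 2) fun x => by
    rw [two_nsmul]; exact Subtype.ext (b.sq_eq_one (Additive.toMul x).2)
  haveI : Nontrivial (Additive P') :=
    ⟨⟨Additive.ofMul ⟨t, ht⟩, 0, fun h => ht1 (congrArg Subtype.val (congrArg Additive.toMul h))⟩⟩
  let act : N → (Additive P' ≃ₗ[ZMod 2] Additive P') := fun n =>
    { toFun := fun x => Additive.ofMul ⟨(n : G) * ((Additive.toMul x : P') : G) * (n : G)⁻¹,
        (Subgroup.mem_normalizer_iff.1 n.2 _).1 (Additive.toMul x).2⟩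
      invFun := fun x => Additive.ofMul ⟨(n : G)⁻¹ * ((Additive.toMul x : P') : G) * (n : G),
        (Subgroup.mem_normalizer_iff''.1 n.2 _).1 (Additive.toMul x).2⟩
      left_inv := fun x => Subtype.ext (by
        show (n : G)⁻¹ * ((n : G) * ((Additive.toMul x : P') : G) * (n : G)⁻¹) * n = ((Additive.toMul x : P') : G)
        group)
      right_inv := fun x => Subtype.ext (by
        show (n : G) * ((n : G)⁻¹ * ((Additive.toMul x : P') : G) * n) * (n : G)⁻¹ = ((Additive.toMul x : P') : G)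
        group)
      map_add' := fun x y => Subtype.ext (by
        show (n : G) * (((Additive.toMul x : P') : G) * ((Additive.toMul y : P') : G)) * (n : G)⁻¹ =
          ((n : G) * ((Additive.toMul x : P') : G) * (n : G)⁻¹) * ((n : G) * ((Additive.toMul y : P') : G) * (n : G)⁻¹)
        group)
      map_smul' := fun c x => by
        obtain ⟨c, rfl⟩ := ZMod.natCast_zmod_surjective c
        simp only [Nat.cast_smul_eq_nsmul, RingHom.id_apply]
        induction c with
        | zero =>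
          simp only [zero_smul]
          refine Subtype.ext ?_
          show (n : G) * 1 * (n : G)⁻¹ = 1
          group
        | succ c hc =>
          simp only [succ_nsmul]
          refine Subtype.ext ?_
          have h := congrArg (fun z : Additive P' => ((Additive.toMul z : P') : G)) hc
          simp only [toMul_ofMul] at h
          show (n : G) * (((Additive.toMul (c • x) : P') : G) * ((Additive.toMul x : P') : G)) * (n : G)⁻¹ =
            ((Additive.toMul (c • Additive.ofMul (⟨(n : G) * ((Additive.toMul x : P') : G) * (n : G)⁻¹, _⟩ : P')) : P') : G) *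
              ((n : G) * ((Additive.toMul x : P') : G) * (n : G)⁻¹)
          rw [← h]
          group }
  let ρ : N →* (Additive P' ≃ₗ[ZMod 2] Additive P') :=
    MonoidHom.mk' act fun m n => LinearEquiv.ext fun x => Subtype.ext (by
      show ((m * n : N) : G) * ((Additive.toMul x : P') : G) * ((m * n : N) : G)⁻¹ =
        (m : G) * ((n : G) * ((Additive.toMul x : P') : G) * (n : G)⁻¹) * (m : G)⁻¹
      simp only [Subgroup.coe_mul]
      group)
  let incl : P'.subgroupOf N ≤ ρ.ker := fun p hp => MonoidHom.mem_ker.2 (LinearEquiv.ext fun x => Subtype.ext (by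
    show (p : G) * ((Additive.toMul x : P') : G) * (p : G)⁻¹ = ((Additive.toMul x : P') : G)
    rw [show (p : G) * ((Additive.toMul x : P') : G) = ((Additive.toMul x : P') : G) * (p : G) from
      b.comm hp (Additive.toMul x).2, mul_inv_cancel_right]))
  have hodd : Odd (Nat.card ρ.range) := by
    rw [← Subgroup.index_ker, Nat.odd_iff]
    by_contra h
    refine P.not_dvd_index (dvd_trans ?_ (Dvd.intro _ (Subgroup.relIndex_mul_index (Subgroup.le_normalizer))))
    exact (Nat.dvd_of_mod_eq_zero (by omega : ρ.ker.index % 2 = 0)).trans (Subgroup.index_dvd_of_le incl)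
  have htrans : ∀ v w : Additive P', v ≠ 0 → w ≠ 0 → ∃ g : ρ.range, ρ.range.subtype g v = w := by
    intro v w hv hw
    obtain ⟨n, hn, he⟩ := b.transitive (Additive.toMul v).2 (fun h => hv (Subtype.ext h))
      (Additive.toMul w).2 (fun h => hw (Subtype.ext h))
    exact ⟨⟨ρ ⟨n, hn⟩, ⟨_, rfl⟩⟩, Subtype.ext he⟩
  rcases Cfsg.Agent.S3360.result 2 (V := Additive P') (G := ρ.range) (Cfsg.Agent.S0205.result hodd)
    ρ.range.subtype ρ.range.subtype_injective htrans with ⟨F, hF, hFf, e, he⟩ | hlist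
  · set T := e (Additive.ofMul ⟨t, ht⟩)
    have hT : T ≠ 0 := fun h => ht1 (congrArg Subtype.val (congrArg Additive.toMul
      (e.injective (h.trans (map_zero e).symm))))
    let f : G → F := fun x => if hx : x ∈ P' then e (Additive.ofMul ⟨x, hx⟩) / T else 0
    have hf : ∀ x (hx : x ∈ P'), f x = e (Additive.ofMul ⟨x, hx⟩) / T := fun x hx => dif_pos hx
    refine ⟨F, hF, hFf, f, ?_, ?_, ?_, ?_, ?_⟩
    · rw [hf t ht]; exact div_self hT
    · intro x hx y hy
      rw [hf x hx, hf y hy, hf (x * y) (mul_mem hx hy), ← add_div, ← map_add]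
      rfl
    · intro x hx y hy h
      rw [hf x hx, hf y hy, div_left_inj' hT] at h
      exact congrArg Subtype.val (congrArg Additive.toMul (e.injective h))
    · intro v
      refine ⟨((Additive.toMul (e.symm (v * T)) : P') : G), (Additive.toMul (e.symm (v * T))).2, ?_⟩
      rw [hf _ (Additive.toMul (e.symm (v * T))).2]
      simp only [Subtype.coe_eta, ofMul_toMul,
        AddEquiv.apply_symm_apply, mul_div_assoc, div_self hT, mul_one]
    · intro n hn
      obtain ⟨a, σ, h⟩ := he ⟨ρ ⟨n, hn⟩, ⟨_, rfl⟩⟩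
      refine ⟨a * σ T / T, σ, fun x hx => ?_⟩
      have hx' : n * x * n⁻¹ ∈ P' := (Subgroup.mem_normalizer_iff.1 hn x).1 hx
      rw [hf x hx, hf _ hx', show e (Additive.ofMul (⟨n * x * n⁻¹, hx'⟩ : P')) = a * σ (e (Additive.ofMul ⟨x, hx⟩))
        from h (Additive.ofMul ⟨x, hx⟩), map_div₀]
      have : σ T ≠ 0 := by simpa using hT
      field_simp
  · exfalso
    obtain ⟨k, hk⟩ := IsPGroup.iff_card.1 P.2
    have h4 := b.four
    have h2 : 2 ∣ Nat.card (Additive P') := by
      change 2 ∣ Nat.card P'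
      rw [hP', hk] at *
      rcases k with _ | k
      · omega
      · exact dvd_pow_self 2 k.succ_ne_zero
    simp only [Set.mem_insert_iff, Set.mem_singleton_iff] at hlist
    omega

/-- Two conjugate elements of the normalizer fixing the same point act in the same way. -/
theorem act_eq (b : Base M u s P) {a x t : G} (ha : a ∈ Subgroup.normalizer ((P : Subgroup G) : Set G))
    (hx : x ∈ Subgroup.normalizer ((P : Subgroup G) : Set G)) (ht : t ∈ (P : Subgroup G)) (ht1 : t ≠ 1)
    (hxt : x * t * x⁻¹ = t) (hat : (a * x * a⁻¹) * t * (a * x * a⁻¹)⁻¹ = t) {p : G} (hp : p ∈ (P : Subgroup G)) :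
    (a * x * a⁻¹) * p * (a * x * a⁻¹)⁻¹ = x * p * x⁻¹ := by
  obtain ⟨F, _, _, e, he⟩ := b.exists_semilinear ht ht1
  have he0 := he.map_one
  obtain ⟨he1, -, hinj, hsurj, hsl⟩ := he
  obtain ⟨β, τ, hτ⟩ := hsl a ha
  obtain ⟨α, σ, hσ⟩ := hsl x hx
  set x' := a * x * a⁻¹ with hx'
  have hx'N : x' ∈ Subgroup.normalizer ((P : Subgroup G) : Set G) := mul_mem (mul_mem ha hx) (inv_mem ha)
  obtain ⟨γ, σ', hσ'⟩ := hsl x' hx'N
  have hmem : ∀ {n y : G}, n ∈ Subgroup.normalizer ((P : Subgroup G) : Set G) → y ∈ (P : Subgroup G) →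
      n * y * n⁻¹ ∈ (P : Subgroup G) := fun hn hy => (Subgroup.mem_normalizer_iff.1 hn _).1 hy
  have hα : α = 1 := by
    have h := hσ t ht
    rw [hxt, he1, map_one, mul_one] at h
    exact h.symm
  have hγ : γ = 1 := by
    have h := hσ' t ht
    rw [hat, he1, map_one, mul_one] at h
    exact h.symm
  have key : ∀ v, σ' (β * τ v) = β * τ (σ v) := by
    intro v
    obtain ⟨y, hy, rfl⟩ := hsurj v
    have h1 := hσ' _ (hmem ha hy)
    have h2 := hτ _ (hmem hx hy)
    have e1 : x' * (a * y * a⁻¹) * x'⁻¹ = a * (x * y * x⁻¹) * a⁻¹ := by rw [hx']; group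
    rw [e1, hτ y hy, hγ, one_mul, h2, hσ y hy, hα, one_mul] at h1
    exact h1.symm
  have hβ : β ≠ 0 := by
    intro h
    have h' := hτ t ht
    rw [h, zero_mul] at h'
    exact ht1 (conj_eq_one_iff.1 (hinj _ (hmem ha ht) 1 (one_mem _) (h'.trans he0.symm)))
  have hβ1 : σ' β = β := by
    have h := key 1
    simpa using h
  refine hinj _ (hmem hx'N hp) _ (hmem hx hp) ?_
  rw [hσ' p hp, hσ p hp, hγ, hα, one_mul, one_mul]
  obtain ⟨v, hv⟩ := τ.surjective (e p)
  have h := key v
  rw [map_mul, hβ1, hv] at h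
  rw [mul_left_cancel₀ hβ h, ← ringAut_comm, hv]

/-- Away from order eight no normalizer in the centralizer is transitive on a large section. -/
theorem noTransitive_or_eight (b : Base M u s P) {t : G} (ht : t ∈ (P : Subgroup G)) (ht1 : t ≠ 1) :
    NoTransitive (P.subtype (comm_mem_centralizer (fun _ h => b.sq_eq_one h) ht)) ∨
      (Nat.card (P : Subgroup G) = 8 ∧ ∀ x ∈ (P : Subgroup G), x ≠ 1 → x ≠ t →
        ∀ y ∈ (P : Subgroup G), y ≠ 1 → y ≠ t →
          ∃ n ∈ Subgroup.normalizer ((P : Subgroup G) : Set G), n * t * n⁻¹ = t ∧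
            (n * x * n⁻¹ = y ∨ n * x * n⁻¹ = t * y)) := by
  classical
  by_contra hboth
  rw [not_or] at hboth
  obtain ⟨hno, h8⟩ := hboth
  have hPC : (P : Subgroup G) ≤ (Subgroup.centralizer ({t} : Set G)) := comm_mem_centralizer (fun _ h => b.sq_eq_one h) ht
  simp only [NoTransitive, not_forall] at hno
  obtain ⟨U, hU, hU4, hfail⟩ := hno
  simp only [not_exists, not_and, not_forall, not_not] at hfail
  have hcardP : Nat.card ((P.subtype hPC : Sylow 2 (Subgroup.centralizer ({t} : Set G))) : Subgroup (Subgroup.centralizer ({t} : Set G))) = Nat.card (P : Subgroup G) :=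
    Nat.card_congr (Subgroup.subgroupOfEquivOfLe hPC).toEquiv
  set t' : (Subgroup.centralizer ({t} : Set G)) := ⟨t, Subgroup.mem_centralizer_singleton_iff.2 rfl⟩
  have ht' : ∀ n : (Subgroup.centralizer ({t} : Set G)), n * t' * n⁻¹ = t' := fun n => Subtype.ext (by
    show (n : G) * t * (n : G)⁻¹ = t
    rw [Subgroup.mem_centralizer_singleton_iff.1 n.2, mul_inv_cancel_right])
  -- `t` lies in the subgroup
  have htU : t' ∈ U := by
    by_contra hout
    obtain ⟨w, hw, hwU, hwtU⟩ : ∃ w ∈ ((P.subtype hPC : Sylow 2 (Subgroup.centralizer ({t} : Set G))) : Subgroup (Subgroup.centralizer ({t} : Set G))), w ∉ U ∧ t' * w ∉ U := by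
      by_contra! hall
      have hsub : (((P.subtype hPC : Sylow 2 (Subgroup.centralizer ({t} : Set G))) : Subgroup (Subgroup.centralizer ({t} : Set G))) : Set (Subgroup.centralizer ({t} : Set G))) ⊆
          (U : Set (Subgroup.centralizer ({t} : Set G))) ∪ (fun x => t'⁻¹ * x) '' (U : Set (Subgroup.centralizer ({t} : Set G))) := fun w hw => by
        by_cases h : w ∈ U
        · exact Or.inl h
        · exact Or.inr ⟨t' * w, hall w hw h, inv_mul_cancel_left _ _⟩
      have h := (Set.ncard_le_ncard hsub (Set.toFinite _)).trans (Set.ncard_union_le _ _)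
      have h2 := Set.ncard_image_le (f := fun x => t'⁻¹ * x) (s := (U : Set (Subgroup.centralizer ({t} : Set G)))) (Set.toFinite _)
      simp only [← Nat.card_coe_set_eq, SetLike.coe_sort_coe] at h h2
      have := Nat.card_pos (α := U)
      omega
    obtain ⟨n, hn, hfix, hbad⟩ := hfail t' ht hout w hw hwU
    rw [ht'] at hbad
    refine hwtU ?_
    have hwi : w⁻¹ = w := Subtype.ext (inv_eq_of_mul_eq_one_right (b.sq_eq_one hw))
    rwa [hwi] at hbad
  obtain ⟨F, _, _, e, he⟩ := b.exists_semilinear ht ht1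
  have hq := he.card
  have h0 := he.map_one
  obtain ⟨he1, hadd, hinj, hsurj, hsl⟩ := he
  let E : Set F := (fun x : (Subgroup.centralizer ({t} : Set G)) => e x) '' (U : Set (Subgroup.centralizer ({t} : Set G)))
  have hE : E.ncard = Nat.card U := by
    rw [Set.ncard_image_of_injOn (fun x hx y hy h => Subtype.ext (hinj (x : G) (hU hx) (y : G) (hU hy) h)), ← Nat.card_coe_set_eq]
    rfl
  let H : Subgroup (F ≃+* F) := fixingSubgroup (F ≃+* F) E
  haveI : Finite (F ≃+* F) := Finite.of_injective (fun σ : F ≃+* F => (σ : F → F)) DFunLike.coe_injective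
  letI : Fintype H := Fintype.ofFinite H
  set K := FixedPoints.subfield H F
  have hpow : Fintype.card F = Fintype.card K ^ Nat.card H := by
    rw [Module.card_eq_pow_finrank (K := K), FixedPoints.finrank_eq_card, Nat.card_eq_fintype_card]
  have hEK : E ⊆ (K : Set F) := fun v hv σ => (σ.2 ⟨v, hv⟩ : _)
  have hUK : Nat.card U ≤ Fintype.card K := by
    rw [← hE]
    refine (Set.ncard_le_ncard hEK (Set.toFinite _)).trans_eq ?_
    rw [← Nat.card_coe_set_eq, ← Nat.card_eq_fintype_card]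
    rfl
  obtain ⟨x₀, hx₀, hx₀U⟩ : ∃ x ∈ ((P.subtype hPC : Sylow 2 (Subgroup.centralizer ({t} : Set G))) : Subgroup (Subgroup.centralizer ({t} : Set G))), x ∉ U := by
    by_contra! hall
    have := Subgroup.card_le_of_le hall
    have := Nat.card_pos (α := U)
    omega
  have hcover : ((P.subtype hPC : Sylow 2 (Subgroup.centralizer ({t} : Set G))) : Subgroup (Subgroup.centralizer ({t} : Set G))).carrier ⊆
      (U : Set (Subgroup.centralizer ({t} : Set G))) ∪ ⋃ σ : H, {y : (Subgroup.centralizer ({t} : Set G)) | y ∈ ((P.subtype hPC : Sylow 2 (Subgroup.centralizer ({t} : Set G))) : Subgroup (Subgroup.centralizer ({t} : Set G))) ∧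
        e y - (σ : F ≃+* F) (e x₀) ∈ E} := by
    intro y hy
    by_cases hyU : y ∈ U
    · exact Or.inl hyU
    obtain ⟨n, hn, hfix, hbad⟩ := hfail x₀ hx₀ hx₀U y hy hyU
    have hnN : (n : G) ∈ Subgroup.normalizer ((P : Subgroup G) : Set G) := by
      rw [Subgroup.mem_normalizer_iff]
      intro z
      constructor
      · intro hz; exact (Subgroup.mem_normalizer_iff.1 hn ⟨z, hPC hz⟩).1 hz
      · intro hz
        have h1 := (Subgroup.mem_normalizer_iff''.1 hn ⟨_, hPC hz⟩).1 hz
        have h2 : (n : G)⁻¹ * ((n : G) * z * (n : G)⁻¹) * n ∈ (P : Subgroup G) := h1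
        rwa [show (n : G)⁻¹ * ((n : G) * z * (n : G)⁻¹) * n = z by group] at h2
    obtain ⟨a, σ, hσ⟩ := hsl _ hnN
    have ha : a = 1 := by
      have h := hσ t ht
      rw [show (n : G) * t * (n : G)⁻¹ = t from congrArg Subtype.val (ht' n), he1, map_one, mul_one] at h
      exact h.symm
    subst ha
    simp only [one_mul] at hσ
    have hσH : σ ∈ H := by
      rintro ⟨_, z, hz, rfl⟩
      show σ (e z) = e z
      rw [← hσ z (hU hz), show (n : G) * z * (n : G)⁻¹ = z from congrArg Subtype.val (hfix z hz)]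
    refine Or.inr (Set.mem_iUnion.2 ⟨⟨σ, hσH⟩, hy, n * x₀ * n⁻¹ * y⁻¹, hbad, ?_⟩)
    show e ((n : G) * x₀ * (n : G)⁻¹ * (y : G)⁻¹) = e y - σ (e x₀)
    have hsub : ∀ {z w : G}, z ∈ (P : Subgroup G) → w ∈ (P : Subgroup G) → e (z * w⁻¹) = e w - e z := by
      intro z w hz hw
      have hwi : w⁻¹ = w := inv_eq_of_mul_eq_one_right (b.sq_eq_one hw)
      have h2 : ∀ {z : G}, z ∈ (P : Subgroup G) → e z + e z = 0 := fun hz => by
        rw [← hadd _ hz _ hz, b.sq_eq_one hz, h0]
      rw [hwi, hadd z hz w hw, eq_sub_iff_add_eq]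
      linear_combination h2 hz
    rw [hsub (z := (n : G) * (x₀ : G) * (n : G)⁻¹) (w := (y : G))
      ((Subgroup.mem_normalizer_iff.1 hnN _).1 hx₀) hy, hσ (x₀ : G) hx₀]
  have hbound : Nat.card (P : Subgroup G) ≤ Nat.card U + Nat.card H * Nat.card U := by
    rw [← hcardP]
    refine le_trans (le_of_eq (Nat.card_coe_set_eq _)) ((Set.ncard_le_ncard hcover (Set.toFinite _)).trans
      ((Set.ncard_union_le _ _).trans (add_le_add (le_of_eq (Nat.card_coe_set_eq _).symm) ?_)))
    refine (Set.ncard_iUnion_le_of_fintype _).trans ?_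
    rw [Nat.card_eq_fintype_card (α := H), ← Finset.card_univ, ← smul_eq_mul]
    refine Finset.sum_le_card_nsmul _ _ _ fun σ _ => ?_
    rw [← hE]
    refine Set.ncard_le_ncard_of_injOn (fun y : (Subgroup.centralizer ({t} : Set G)) => e y - (σ : F ≃+* F) (e x₀)) (fun y hy => hy.2)
      (fun y hy z hz h => Subtype.ext (hinj _ hy.1 _ hz.1 (sub_left_inj.1 h))) (Set.toFinite _)
  obtain ⟨m, hm⟩ := IsPGroup.iff_card.1 ((P.subtype hPC).2.to_le hU)
  obtain ⟨k, hk⟩ := IsPGroup.iff_card.1 P.2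
  have hK2 : 2 ≤ Fintype.card K := Fintype.one_lt_card
  rw [hcardP] at hU4
  -- the numbers
  set f := Nat.card H
  have hmk : m + 2 ≤ k := by
    have : 2 ^ (m + 2) ≤ 2 ^ k := by rw [pow_add, ← hm, ← hk]; linarith
    exact (Nat.pow_le_pow_iff_right (by norm_num)).1 this
  obtain ⟨r, rfl⟩ : ∃ r, k = m + 2 + r := ⟨k - (m + 2), by omega⟩
  have hr : 2 ^ (2 + r) ≤ 1 + f := by
    have h := hbound
    rw [hk, hm, show m + 2 + r = (2 + r) + m by ring, pow_add] at h
    refine Nat.le_of_mul_le_mul_right ?_ (pow_pos two_pos m)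
    rw [add_mul, one_mul]
    exact h
  have hf1 : 2 ^ (f - 1) ≤ 2 ^ (2 + r) := by
    have h1 : 2 ^ (f - 1) * Nat.card U ≤ Fintype.card K ^ (f - 1) * Fintype.card K :=
      Nat.mul_le_mul (Nat.pow_le_pow_left hK2 _) hUK
    rw [← pow_succ, Nat.sub_add_cancel (Nat.one_le_iff_ne_zero.2 Nat.card_pos.ne'), ← hpow, hq, hk, hm,
      show m + 2 + r = (2 + r) + m by ring, pow_add] at h1
    exact Nat.le_of_mul_le_mul_right h1 (pow_pos two_pos m)
  have hf2 : f - 1 ≤ 2 + r := (Nat.pow_le_pow_iff_right (by norm_num)).1 hf1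
  have hr0 : r = 0 := by
    have h1 : r + 2 ≤ 2 ^ r * 2 := by
      have := Nat.lt_two_pow_self (n := r)
      omega
    rw [pow_add] at hr
    omega
  subst hr0
  have hf3 : f = 3 := by norm_num at hr hf2; omega
  have hK : Fintype.card K = 2 := by
    have h1 : Fintype.card K ^ 3 = 4 * Nat.card U := by
      rw [← hf3, ← hpow, hq, hk, hm, add_zero, pow_add]; ring
    have h2 : Fintype.card K ^ 2 ≤ 4 := by
      refine Nat.le_of_mul_le_mul_right ?_ (by omega : 0 < Fintype.card K)
      rw [← pow_succ, h1]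
      exact Nat.mul_le_mul_left 4 hUK
    nlinarith
  have hUcard : Nat.card U = 2 := by
    refine le_antisymm (hK ▸ hUK) ?_
    have ht'1 : t' ≠ 1 := fun h => ht1 (congrArg Subtype.val h)
    haveI : Nontrivial U := ⟨⟨⟨t', htU⟩, 1, fun h => ht'1 (congrArg Subtype.val h)⟩⟩
    exact Finite.one_lt_card
  have hU2 : ∀ z ∈ U, z = 1 ∨ z = t' := by
    intro z hz
    rw [Nat.card_eq_two_iff' (1 : U)] at hUcard
    obtain ⟨w, -, hw⟩ := hUcard
    by_cases h : z = 1
    · exact Or.inl h
    · refine Or.inr ?_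
      have h1 := hw ⟨z, hz⟩ (fun e => h (congrArg Subtype.val e))
      have h2 := hw ⟨t', htU⟩ (fun e => ht1 (congrArg (fun x : U => ((x : (Subgroup.centralizer ({t} : Set G))) : G)) e))
      exact congrArg Subtype.val (h1.trans h2.symm)
  refine h8 ⟨by rw [← hq, hpow, hK, hf3]; rfl, fun x hx hx1 hxt y hy hy1 hyt => ?_⟩
  have hnotin : ∀ {z : G} (hz : z ∈ (P : Subgroup G)), z ≠ 1 → z ≠ t → (⟨z, hPC hz⟩ : (Subgroup.centralizer ({t} : Set G))) ∉ U := by
    intro z hz h1 h2 h
    rcases hU2 _ h with e | e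
    · exact h1 (congrArg Subtype.val e)
    · exact h2 (congrArg Subtype.val e)
  obtain ⟨n, hn, hfix, hbad⟩ := hfail ⟨x, hPC hx⟩ hx (hnotin hx hx1 hxt) ⟨y, hPC hy⟩ hy (hnotin hy hy1 hyt)
  refine ⟨n, ?_, congrArg Subtype.val (ht' n), ?_⟩
  · rw [Subgroup.mem_normalizer_iff]
    intro z
    constructor
    · intro hz; exact (Subgroup.mem_normalizer_iff.1 hn ⟨z, hPC hz⟩).1 hz
    · intro hz
      have h1 := (Subgroup.mem_normalizer_iff''.1 hn ⟨_, hPC hz⟩).1 hz
      have h2 : (n : G)⁻¹ * ((n : G) * z * (n : G)⁻¹) * n ∈ (P : Subgroup G) := h1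
      rwa [show (n : G)⁻¹ * ((n : G) * z * (n : G)⁻¹) * n = z by group] at h2
  · rcases hU2 _ hbad with e1 | e1
    · exact Or.inl (mul_inv_eq_one.1 (congrArg Subtype.val e1))
    · exact Or.inr (mul_inv_eq_iff_eq_mul.1 (congrArg Subtype.val e1))

end Base

end Cfsg.Lib.Deficit
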