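import Cfsg.Agent.Blocks.ConstantDeficit.Parity
import Cfsg.Agent.Blocks.Orth2
import Cfsg.Agent.Chars.Values
import Cfsg.Agent.Chars.Count
import Cfsg.Agent.S0944
import Cfsg.Agent.Components.Cores

/-!
# A constant deficit on the principal 2-block: the classes of 2-elements and the value of the deficit
-/

set_option autoImplicit false
set_option linter.unusedSectionVars false
set_option linter.style.haveILetI false

namespace Cfsg.Lib.Deficit

open Cfsg Cfsg.Lib.Chars Cfsg.Lib.Blocks
open scoped ComplexConjugate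

universe u

variable {G : Type u} [Group G] [Fintype G] {M : Ideal AlgInt}

/-- The principal block as a finite set. -/
noncomputable def pbFin (M : Ideal AlgInt) (G : Type u) [Group G] [Fintype G] : Finset (IrrCharacter G) := by
  classical exact Finset.univ.filter (· ∈ principalBlock M G)

/-- The non-principal characters of the principal block. -/
noncomputable def pbNon (M : Ideal AlgInt) (G : Type u) [Group G] [Fintype G] : Finset (IrrCharacter G) := by
  classical exact (pbFin M G).erase (principal G)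

theorem mem_pbFin {χ : IrrCharacter G} : χ ∈ pbFin M G ↔ χ ∈ principalBlock M G := by
  classical simp [pbFin]

theorem mem_pbNon {χ : IrrCharacter G} :
    χ ∈ pbNon M G ↔ χ ∈ principalBlock M G ∧ χ ≠ principal G := by
  classical simp [pbNon, mem_pbFin, and_comm]

theorem pbFin_sum (hM : IsPModular 2 M) (f : IrrCharacter G → ℂ) :
    ∑ χ ∈ pbFin M G, f χ = f (principal G) + ∑ χ ∈ pbNon M G, f χ := by
  classical
  rw [pbNon]
  exact (Finset.add_sum_erase _ f (mem_pbFin.2 (mem_blockOf_self hM (principal G)))).symm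

theorem colKer_principal (a c : G) :
    colKer (principalBlock M G) a c = ∑ χ ∈ pbFin M G, (χ : G → ℂ) a * conj ((χ : G → ℂ) c) := by
  classical
  rw [colKer_eq]
  exact Finset.sum_congr (Finset.ext fun χ => by simp [mem_pbFin]) fun _ _ => rfl

/-- The sum of the non-principal characters of the principal block. -/
noncomputable def psum (M : Ideal AlgInt) (g : G) : ℂ := ∑ χ ∈ pbNon M G, (χ : G → ℂ) g

/-- A constant deficit. -/
def IsDeficit (M : Ideal AlgInt) (u : G) (k : ℂ) : Prop :=
  ∀ χ ∈ principalBlock M G, χ ≠ principal G → (χ : G → ℂ) 1 - (χ : G → ℂ) u = k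

theorem deficit_identity (hM : IsPModular 2 M) {u : G} {k : ℂ} (hk : IsDeficit M u k) (g : G) :
    colKer (principalBlock M G) 1 g - colKer (principalBlock M G) u g = k * conj (psum M g) := by
  rw [colKer_principal, colKer_principal, pbFin_sum hM, pbFin_sum hM, psum, map_sum, Finset.mul_sum]
  simp only [principal, map_one, mul_one, add_sub_add_left_eq_sub, ← Finset.sum_sub_distrib]
  exact Finset.sum_congr rfl fun χ hχ => by
    rw [← sub_mul, hk χ (mem_pbNon.1 hχ).1 (mem_pbNon.1 hχ).2]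

theorem colKer_regular_singular (hM : IsPModular 2 M) {g h : G} (hg : ¬ 2 ∣ orderOf g) (hh : 2 ∣ orderOf h) :
    colKer (principalBlock M G) g h = 0 := by
  classical
  rw [colKer_eq]
  exact block_orthogonality_regular hM (isPBlock_blockOf (principal G)) hg hh

theorem psum_eq_zero (hM : IsPModular 2 M) {u : G} {k : ℂ} (hk : IsDeficit M u k) (hk0 : k ≠ 0) {s t g : G}
    (hs : IsPPart 2 u s) (ht : IsPPart 2 g t) (hg : 2 ∣ orderOf g) (hne : ¬ IsConj s t) : psum M g = 0 := by
  classical
  have h := deficit_identity hM hk g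
  have hB : IsPBlock M (principalBlock M G) := isPBlock_blockOf (principal G)
  rw [colKer_regular_singular hM (by simp) hg, colKer_eq,
    block_orthogonality_conj hM hB hs ht hne, sub_zero, eq_comm,
    mul_eq_zero, or_iff_right hk0] at h
  exact (map_eq_zero (starRingEnd ℂ)).1 h

/-- The whole row of the kernel sums to the order. -/
theorem sum_colKer_univ (hM : IsPModular 2 M) (a : G) :
    ∑ g : G, colKer (principalBlock M G) a g = Nat.card G := by
  classical
  have hG : (Nat.card G : ℂ) ≠ 0 := Nat.cast_ne_zero.2 Nat.card_pos.ne'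
  have horth : ∀ χ : IrrCharacter G,
      ∑ g : G, conj ((χ : G → ℂ) g) = if χ = principal G then (Nat.card G : ℂ) else 0 := fun χ => by
    have h : classInner ((principal G : IrrCharacter G) : G → ℂ) (χ : G → ℂ) =
        if χ = principal G then 1 else 0 := by
      split_ifs with h
      · rw [h, classInner_irr_self]
      · exact classInner_irr_ne (Ne.symm h)
    rw [classInner_def, inv_mul_eq_iff_eq_mul₀ hG, mul_ite, mul_one, mul_zero] at h
    rw [← h]
    exact Finset.sum_congr rfl fun g _ => (one_mul _).symm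
  simp only [colKer_principal]
  rw [Finset.sum_comm]
  simp only [← Finset.mul_sum, horth, mul_ite, mul_zero]
  rw [Finset.sum_ite_eq' (pbFin M G), if_pos (mem_pbFin.2 (mem_blockOf_self hM (principal G)))]
  simp [principal]

theorem regular_row (hM : IsPModular 2 M) {a : G} (ha : ¬ 2 ∣ orderOf a) :
    ∑ g ∈ Finset.univ.filter (fun g : G => ¬ 2 ∣ orderOf g), colKer (principalBlock M G) a g = Nat.card G := by
  classical
  rw [← sum_colKer_univ hM a, Finset.sum_filter]
  refine Finset.sum_congr rfl fun g _ => ?_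
  split_ifs with h
  · exact (colKer_regular_singular hM ha h).symm
  · rfl

/-- The degrees in the principal block sum to an even number in a group of even order. -/
theorem deg_sum_even (hM : IsPModular 2 M) (hG : 2 ∣ Nat.card G) :
    2 ∣ ∑ χ ∈ pbFin M G, deg (χ : G → ℂ) := by
  classical
  haveI : Fact (Nat.Prime 2) := ⟨Nat.prime_two⟩
  obtain ⟨z, hz⟩ := exists_prime_orderOf_dvd_card' 2 hG
  choose n hn using fun χ : IrrCharacter G => Cfsg.Agent.S0944.result χ z hz
  have h := colKer_regular_singular hM (g := (1 : G)) (by simp) (dvd_of_eq hz.symm)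
  rw [colKer_principal, Finset.sum_congr rfl fun (χ : IrrCharacter G) _ => show (χ : G → ℂ) 1 * conj ((χ : G → ℂ) z) =
    (((deg (χ : G → ℂ) : ℤ) * n χ : ℤ) : ℂ) by
      rw [irr_apply_one_eq_deg, (hn χ).1, map_intCast]; push_cast; ring, ← Int.cast_sum,
    Int.cast_eq_zero] at h
  have hpar : (2 : ℤ) ∣ ∑ χ ∈ pbFin M G, ((deg (χ : G → ℂ) : ℤ) * n χ - (deg (χ : G → ℂ) : ℤ)) := by
    refine Finset.dvd_sum fun χ _ => ?_
    have h2 := (hn χ).2
    rw [show (charDegree (χ : G → ℂ) : ℤ) = (deg (χ : G → ℂ) : ℤ) from rfl] at h2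
    obtain ⟨c, hc⟩ := h2
    rcases Int.even_or_odd (deg (χ : G → ℂ) : ℤ) with ⟨d, hd⟩ | ⟨d, hd⟩
    · exact ⟨d * n χ - d, by rw [hd]; ring⟩
    · exact ⟨(2 * d + 1) * (d - c), by rw [hd] at hc ⊢; linear_combination (-(2 * d + 1)) * hc⟩
  rw [Finset.sum_sub_distrib, h, zero_sub, dvd_neg] at hpar
  exact_mod_cast hpar

theorem deg_non_odd (hM : IsPModular 2 M) (hG : 2 ∣ Nat.card G) :
    Odd (∑ χ ∈ pbNon M G, deg (χ : G → ℂ)) := by
  classical
  have h := deg_sum_even hM hG
  rw [pbNon, Nat.odd_iff]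
  have h1 := (Finset.add_sum_erase _ (fun χ : IrrCharacter G => deg (χ : G → ℂ))
    (mem_pbFin.2 (mem_blockOf_self hM (principal G)) : principal G ∈ pbFin M G)).symm
  have h2 : deg ((principal G : IrrCharacter G) : G → ℂ) = 1 := by simp [deg, principal]
  simp only [h2] at h1
  omega

theorem psum_one (hM : IsPModular 2 M) :
    psum M (1 : G) = ((∑ χ ∈ pbNon M G, deg (χ : G → ℂ) : ℕ) : ℂ) := by
  rw [psum, Nat.cast_sum]
  exact Finset.sum_congr rfl fun χ _ => irr_apply_one_eq_deg χ

/-- The sum cannot vanish on the whole of a section. -/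
theorem section_sum_ne_zero (hM : IsPModular 2 M) (hG : 2 ∣ Nat.card G) {t : G}
    (ht : ∃ k : ℕ, orderOf t = 2 ^ k) (H : Subgroup G) [Fintype H]
    (hH : H = Subgroup.centralizer (Subgroup.zpowers t : Set G)) :
    ∑ z ∈ Finset.univ.filter (fun z : H => ¬ 2 ∣ orderOf z), psum M (t * (z : G)) ≠ 0 := by
  classical
  intro h
  have hs : Small M (∑ χ ∈ pbNon M G, (twoRatio H * ∑ z ∈ Finset.univ.filter (fun z : H => ¬ 2 ∣ orderOf z),
      (χ : G → ℂ) (t * (z : G)) - (χ : G → ℂ) 1)) :=
    small_sum _ _ fun χ hχ => small_section_sum hM ht hH (mem_pbNon.1 hχ).1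
  rw [Finset.sum_sub_distrib, ← Finset.mul_sum, Finset.sum_comm] at hs
  change Small M (twoRatio H * (∑ z ∈ Finset.univ.filter (fun z : H => ¬ 2 ∣ orderOf z),
    psum M (t * (z : G))) - psum M (1 : G)) at hs
  rw [h, mul_zero, zero_sub, psum_one hM] at hs
  have hs' := hs.neg
  rw [neg_neg, small_natCast_iff hM] at hs'
  exact Nat.not_even_iff_odd.2 (deg_non_odd hM hG) (even_iff_two_dvd.2 hs')

/-- An element agreeing with the identity throughout the principal block lies in the core of odd order. -/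
theorem mem_oddCore_of_kernel (hM : IsPModular 2 M) {u : G}
    (hu : ∀ χ ∈ principalBlock M G, (χ : G → ℂ) u = (χ : G → ℂ) 1) : u ∈ Cfsg.oddCore G := by
  classical
  let K : Subgroup G := ⨅ χ : {χ : IrrCharacter G // χ ∈ principalBlock M G},
    kerSubgroup ((χ : IrrCharacter G) : G → ℂ) (isCharacter_of_irr χ.1.2)
  haveI : K.Normal := Subgroup.normal_iInf_normal fun χ => kerSubgroup_normal _
  have huK : u ∈ K := Subgroup.mem_iInf.2 fun χ => (mem_kerSubgroup _ _).2 (hu χ.1 χ.2)
  have hreg : ∀ g ∈ K, ¬ 2 ∣ orderOf g := by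
    intro g hg h2
    have h := colKer_regular_singular hM (g := (1 : G)) (by simp) h2
    rw [colKer_principal, Finset.sum_congr rfl fun (χ : IrrCharacter G) hχ => show (χ : G → ℂ) 1 * conj ((χ : G → ℂ) g) =
      ((deg (χ : G → ℂ) * deg (χ : G → ℂ) : ℕ) : ℂ) by
        rw [(mem_kerSubgroup _ _).1 (Subgroup.mem_iInf.1 hg ⟨χ, mem_pbFin.1 hχ⟩), irr_apply_one_eq_deg,
          Complex.conj_natCast, Nat.cast_mul], ← Nat.cast_sum, Nat.cast_eq_zero,
      Finset.sum_eq_zero_iff] at h
    have := h _ (mem_pbFin.2 (mem_blockOf_self hM (principal G)))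
    rw [mul_self_eq_zero] at this
    exact (deg_irr_pos (principal G)).ne' this
  refine Cfsg.Lib.Components.le_pPrimeCore ?_ huK
  rw [Nat.coprime_comm, Nat.prime_two.coprime_iff_not_dvd]
  intro hd
  haveI : Fact (Nat.Prime 2) := ⟨Nat.prime_two⟩
  obtain ⟨x, hx⟩ := exists_prime_orderOf_dvd_card' (G := K) 2 hd
  exact hreg x x.2 (by rw [Subgroup.orderOf_coe, hx])

theorem mem_oddCore_of_deficit_zero (hM : IsPModular 2 M) {u : G} {k : ℂ} (hk : IsDeficit M u k)
    (hk0 : k = 0) : u ∈ Cfsg.oddCore G := by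
  refine mem_oddCore_of_kernel hM fun χ hχ => ?_
  by_cases h : χ = principal G
  · rw [h]; rfl
  · exact (sub_eq_zero.1 ((hk χ hχ h).trans hk0)).symm

/-- With a deficit that is not zero the element has even order. -/
theorem two_dvd_orderOf (hM : IsPModular 2 M) (hG : 2 ∣ Nat.card G) {u : G} {k : ℂ} (hk : IsDeficit M u k)
    (hk0 : k ≠ 0) : 2 ∣ orderOf u := by
  classical
  by_contra hu
  letI := Fintype.ofFinite (Subgroup.centralizer (Subgroup.zpowers (1 : G) : Set G))
  refine section_sum_ne_zero hM hG (t := 1) ⟨0, by simp⟩ _ rfl ?_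
  have htop : Subgroup.centralizer (Subgroup.zpowers (1 : G) : Set G) = ⊤ := by
    rw [centralizer_zpowers]
    exact eq_top_iff.2 fun g _ => Subgroup.mem_centralizer_singleton_iff.2 (by simp)
  have h : k * conj (∑ g ∈ Finset.univ.filter (fun g : G => ¬ 2 ∣ orderOf g), psum M g) = 0 := by
    rw [map_sum, Finset.mul_sum]
    simp only [← deficit_identity hM hk]
    rw [Finset.sum_sub_distrib, regular_row hM (by simp), regular_row hM hu, sub_self]
  rw [mul_eq_zero, or_iff_right hk0, map_eq_zero] at h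
  refine Eq.trans ?_ h
  refine Finset.sum_bij (fun z _ => (z : G)) (fun z hz => ?_) (fun z _ z' _ e => Subtype.ext e)
    (fun g hg => ⟨⟨g, htop ▸ Subgroup.mem_top g⟩, ?_, rfl⟩) fun z _ => by rw [one_mul]
  · simpa [Subgroup.orderOf_coe] using hz
  · simpa [Subgroup.orderOf_mk] using hg

variable {u s : G} {k : ℂ}

/-- Every non-trivial `2`-element is conjugate to the `2`-part. -/
theorem isConj_part (hM : IsPModular 2 M) (hG : 2 ∣ Nat.card G) (hk : IsDeficit M u k) (hk0 : k ≠ 0)
    (hs : IsPPart 2 u s) {t : G} (ht : ∃ j : ℕ, orderOf t = 2 ^ j) (ht1 : t ≠ 1) : IsConj s t := by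
  classical
  by_contra hne
  letI := Fintype.ofFinite (Subgroup.centralizer (Subgroup.zpowers t : Set G))
  refine section_sum_ne_zero hM hG ht _ rfl (Finset.sum_eq_zero fun z hz => ?_)
  have hc := commute_of_mem_centralizer rfl z.2
  have hz' : ¬ 2 ∣ orderOf (z : G) := by
    rw [Subgroup.orderOf_coe]; exact (Finset.mem_filter.1 hz).2
  have hp := isPPart_mul hc ht hz'
  refine psum_eq_zero hM hk hk0 hs hp ?_ hne
  by_contra h2
  exact ht1 (IsPPart.eq Nat.prime_two hp ((isPPart_one_iff Nat.prime_two).2 h2))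

/-- The deficit is the order of a Sylow 2-subgroup. -/
theorem deficit_eq (hM : IsPModular 2 M) (hG : 2 ∣ Nat.card G) (hk : IsDeficit M u k) (hk0 : k ≠ 0) :
    k = (2 : ℂ) ^ (Nat.card G).factorization 2 := by
  classical
  have hu := two_dvd_orderOf hM hG hk hk0
  set a := (Nat.card G).factorization 2 with ha
  set e : ℤ := ∑ χ ∈ pbNon M G, regInt 2 (principal G) χ with he
  have hsum : k * conj (∑ g ∈ Finset.univ.filter (fun g : G => ¬ 2 ∣ orderOf g), psum M g) = Nat.card G := by
    rw [map_sum, Finset.mul_sum]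
    simp only [← deficit_identity hM hk]
    rw [Finset.sum_sub_distrib, regular_row hM (by simp), sub_eq_self]
    refine Finset.sum_eq_zero fun g hg => ?_
    rw [← conj_colKer, colKer_regular_singular hM (Finset.mem_filter.1 hg).2 hu, map_zero]
  have he' : (e : ℂ) = twoRatio G * ∑ g ∈ Finset.univ.filter (fun g : G => ¬ 2 ∣ orderOf g), psum M g := by
    rw [he, Int.cast_sum, show (∑ g ∈ Finset.univ.filter (fun g : G => ¬ 2 ∣ orderOf g), psum M g) =
      ∑ χ ∈ pbNon M G, ∑ g ∈ Finset.univ.filter (fun g : G => ¬ 2 ∣ orderOf g), (χ : G → ℂ) g from Finset.sum_comm,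
      Finset.mul_sum]
    exact Finset.sum_congr rfl fun χ _ => (twoRatio_mul_sum χ).symm
  have hke : k * (e : ℂ) = (2 : ℂ) ^ a := by
    have h1 : (e : ℂ) = twoRatio G * conj (∑ g ∈ Finset.univ.filter (fun g : G => ¬ 2 ∣ orderOf g), psum M g) := by
      have h := congrArg conj he'
      rw [map_intCast, map_mul] at h
      rw [h]
      congr 1
      simp [twoRatio, map_div₀, Complex.conj_ofNat]
    rw [h1, mul_left_comm, hsum, twoRatio, ← ha, div_mul_cancel₀ _ (Nat.cast_ne_zero.2 Nat.card_pos.ne')]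
  have hodd : ¬ (2 : ℤ) ∣ e := by
    intro hd
    have h1 : (2 : ℤ) ∣ ∑ χ ∈ pbNon M G, (regInt 2 (principal G) χ - (deg (χ : G → ℂ) : ℤ)) :=
      Finset.dvd_sum fun χ hχ => regInt_principal_parity hM (mem_pbNon.1 hχ).1
    rw [Finset.sum_sub_distrib, ← he] at h1
    have h2 : (2 : ℤ) ∣ ((∑ χ ∈ pbNon M G, deg (χ : G → ℂ) : ℕ) : ℤ) := by
      push_cast
      exact (dvd_sub_right hd).1 h1
    exact Nat.not_even_iff_odd.2 (deg_non_odd hM hG) (even_iff_two_dvd.2 (by exact_mod_cast h2))
  have he0 : e ≠ 0 := fun h => hodd (by rw [h]; exact dvd_zero 2)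
  -- positivity
  have hpos : k * ((∑ χ ∈ pbNon M G, deg (χ : G → ℂ) : ℕ) : ℂ) =
      ((∑ χ ∈ pbFin M G, deg (χ : G → ℂ) * deg (χ : G → ℂ) : ℕ) : ℂ) := by
    have h := deficit_identity hM hk (1 : G)
    rw [← conj_colKer _ (1 : G) u, colKer_regular_singular hM (by simp) hu, map_zero, sub_zero,
      psum_one hM, Complex.conj_natCast] at h
    rw [← h, colKer_principal, Nat.cast_sum]
    exact Finset.sum_congr rfl fun χ _ => by rw [irr_apply_one_eq_deg, Complex.conj_natCast, Nat.cast_mul]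
  have hD : 0 < ∑ χ ∈ pbNon M G, deg (χ : G → ℂ) := (deg_non_odd hM hG).pos
  have hD' : 0 < ∑ χ ∈ pbFin M G, deg (χ : G → ℂ) * deg (χ : G → ℂ) :=
    lt_of_lt_of_le (Nat.mul_pos (deg_irr_pos (principal G)) (deg_irr_pos (principal G)))
      (Finset.single_le_sum (f := fun χ : IrrCharacter G => deg (χ : G → ℂ) * deg (χ : G → ℂ))
        (fun _ _ => Nat.zero_le _) (mem_pbFin.2 (mem_blockOf_self hM (principal G))))
  obtain ⟨χ, hχ⟩ : (pbNon M G).Nonempty := Finset.nonempty_of_sum_ne_zero hD.ne'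
  have hint : IsIntegral ℤ k := by
    rw [← hk χ (mem_pbNon.1 hχ).1 (mem_pbNon.1 hχ).2]
    exact (IsCharacter.isIntegral (isCharacter_of_irr χ.2) 1).sub (IsCharacter.isIntegral (isCharacter_of_irr χ.2) u)
  have he0' : (e : ℂ) ≠ 0 := Int.cast_ne_zero.2 he0
  have hkq : k = (((2 : ℚ) ^ a / (e : ℚ) : ℚ) : ℂ) := by
    push_cast
    rw [eq_div_iff he0', hke]
  obtain ⟨z, hz⟩ := int_of_isIntegral_rat (hkq ▸ hint)
  have hkz : k = (z : ℂ) := by rw [hkq, hz, Rat.cast_intCast]
  have hze : z * e = 2 ^ a := by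
    have h := hke
    rw [hkz] at h
    exact_mod_cast h
  have hunit : e.natAbs = 1 := by
    refine Nat.eq_one_of_dvd_coprimes (Nat.Coprime.pow_left a (Nat.prime_two.coprime_iff_not_dvd.2 fun h =>
      hodd (Int.natCast_dvd.2 h))) ?_ dvd_rfl
    have h := congrArg Int.natAbs hze
    rw [Int.natAbs_mul, Int.natAbs_pow] at h
    exact ⟨z.natAbs, by rw [mul_comm]; exact h.symm⟩
  have hzpos : 0 < z := by
    rw [hkz] at hpos
    have h : z * ((∑ χ ∈ pbNon M G, deg (χ : G → ℂ) : ℕ) : ℤ) =
        ((∑ χ ∈ pbFin M G, deg (χ : G → ℂ) * deg (χ : G → ℂ) : ℕ) : ℤ) := by exact_mod_cast hpos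
    refine pos_of_mul_pos_left ?_ (Int.natCast_nonneg (∑ χ ∈ pbNon M G, deg (χ : G → ℂ)))
    rw [h]
    exact_mod_cast hD'
  rcases Int.natAbs_eq e with h | h <;> rw [hunit] at h
  · rw [← hke, h]; simp
  · exfalso
    have h2 : (0 : ℤ) < 2 ^ a := by positivity
    rw [h] at hze
    push_cast at hze
    omega

end Cfsg.Lib.Deficit
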