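import Cfsg.Agent.Blocks.ConstantDeficit.Linear
import Cfsg.Agent.Blocks.ConstantDeficit.Average
import Mathlib.GroupTheory.SpecificGroups.Cyclic
import Mathlib.NumberTheory.Padics.PadicVal.Basic

/-!
# The values at 2-elements when the deficit is constant
-/

set_option autoImplicit false
set_option linter.unusedSectionVars false
set_option linter.style.haveILetI false

namespace Cfsg.Lib.Deficit

open Cfsg Cfsg.Lib.Chars Cfsg.Lib.Blocks
open scoped ComplexConjugate

universe u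

variable {G : Type u} [Group G] [Fintype G] {M : Ideal AlgInt}

/-- The standing hypotheses: trivial core, at least four in a Sylow 2-subgroup, a constant deficit. -/
structure Base (M : Ideal AlgInt) (u s : G) (P : Sylow 2 G) : Prop where
  hM : IsPModular 2 M
  core : Cfsg.oddCore G = ⊥
  four : 4 ≤ Nat.card (P : Subgroup G)
  deficit : IsDeficit M u (Nat.card (P : Subgroup G) : ℂ)
  part : IsPPart 2 u s
  mem : s ∈ (P : Subgroup G)

variable {u s : G} {P : Sylow 2 G}

namespace Base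

theorem even (b : Base M u s P) : 2 ∣ Nat.card G := by
  haveI : Fact (Nat.Prime 2) := ⟨Nat.prime_two⟩
  obtain ⟨k, hk⟩ := IsPGroup.iff_card.1 P.2
  have := b.four
  refine dvd_trans ?_ (P : Subgroup G).card_subgroup_dvd_card
  rcases k with _ | k
  · rw [hk] at this; omega
  · rw [hk, pow_succ]; exact dvd_mul_left 2 _

theorem cast_ne_zero (b : Base M u s P) : (Nat.card (P : Subgroup G) : ℂ) ≠ 0 :=
  Nat.cast_ne_zero.2 Nat.card_pos.ne'

theorem exists_pow (b : Base M u s P) {t : G} (ht : t ∈ (P : Subgroup G)) :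
    ∃ j : ℕ, orderOf t = 2 ^ j := by
  haveI : Fact (Nat.Prime 2) := ⟨Nat.prime_two⟩
  exact exists_orderOf_eq_of_mem Nat.prime_two P.2 ht

theorem isConj (b : Base M u s P) {t : G} (ht : t ∈ (P : Subgroup G)) (ht1 : t ≠ 1) : IsConj s t :=
  isConj_part b.hM b.even b.deficit b.cast_ne_zero b.part (b.exists_pow ht) ht1

theorem s_ne_one (b : Base M u s P) : s ≠ 1 := by
  intro h
  have hu := two_dvd_orderOf b.hM b.even b.deficit b.cast_ne_zero
  exact (isPPart_one_iff Nat.prime_two).1 (h ▸ b.part) hu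

theorem orderOf_eq_two (b : Base M u s P) {t : G} (ht : t ∈ (P : Subgroup G)) (ht1 : t ≠ 1) :
    orderOf t = 2 := by
  haveI : Fact (Nat.Prime 2) := ⟨Nat.prime_two⟩
  have hP : 2 ∣ Nat.card (P : Subgroup G) := by
    obtain ⟨k, hk⟩ := IsPGroup.iff_card.1 P.2
    have := b.four
    rcases k with _ | k
    · rw [hk] at this; omega
    · rw [hk, pow_succ]; exact dvd_mul_left 2 _
  obtain ⟨z, hz⟩ := exists_prime_orderOf_dvd_card' 2 hP
  have hz1 : (z : G) ≠ 1 := fun h => by simp [OneMemClass.coe_eq_one.1 h] at hz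
  have h := (b.isConj ht ht1).symm.trans (b.isConj z.2 hz1)
  obtain ⟨c, hc⟩ := isConj_iff.1 h
  rw [← orderOf_injective (MulAut.conj c).toMonoidHom (MulAut.conj c).injective t,
    show (MulAut.conj c).toMonoidHom t = (z : G) from hc, Subgroup.orderOf_coe, hz]

theorem s_two (b : Base M u s P) : orderOf s = 2 := b.orderOf_eq_two b.mem b.s_ne_one

theorem sq_eq_one (b : Base M u s P) {t : G} (ht : t ∈ (P : Subgroup G)) : t * t = 1 := by
  rcases eq_or_ne t 1 with h | h
  · rw [h, one_mul]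
  · rw [← pow_two, ← b.orderOf_eq_two ht h, pow_orderOf_eq_one]

theorem comm (b : Base M u s P) {a c : G} (ha : a ∈ (P : Subgroup G)) (hc : c ∈ (P : Subgroup G)) :
    a * c = c * a := by
  have hi : ∀ {t : G}, t ∈ (P : Subgroup G) → t⁻¹ = t := fun ht => inv_eq_of_mul_eq_one_right (b.sq_eq_one ht)
  calc a * c = (a * c)⁻¹ := (hi (mul_mem ha hc)).symm
    _ = c * a := by rw [mul_inv_rev, hi ha, hi hc]

theorem value (b : Base M u s P) (χ : IrrCharacter G) {t : G} (ht : t ∈ (P : Subgroup G)) (ht1 : t ≠ 1) :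
    (χ : G → ℂ) t = (χ : G → ℂ) s :=
  (classFunction_eq_of_isConj (isClassFunction_irr χ) (b.isConj ht ht1)).symm

/-- The multiplicities on a Sylow 2-subgroup. -/
theorem mult (b : Base M u s P) (χ : IrrCharacter G) :
    (∃ m : ℕ, (χ : G → ℂ) 1 + ((Nat.card (P : Subgroup G) : ℂ) - 1) * (χ : G → ℂ) s =
      (Nat.card (P : Subgroup G) : ℂ) * m) ∧
    ∃ n : ℕ, (χ : G → ℂ) 1 - (χ : G → ℂ) s = (Nat.card (P : Subgroup G) : ℂ) * n := by
  classical
  set P' := (P : Subgroup G)
  letI : CommGroup P' :=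
    { P'.toGroup with
      mul_comm := fun a c => Subtype.ext (b.comm a.2 c.2) }
  have hres := IsCharacter.restrict (isCharacter_of_irr χ.2) P'
  have hsum : ∀ lam : P' →* ℂˣ, classInner (fun t : P' => (χ : G → ℂ) t) (fun t : P' => (lam t : ℂ)) *
      (Nat.card P' : ℂ) = ((χ : G → ℂ) 1 - (χ : G → ℂ) s) + (χ : G → ℂ) s * ∑ t : P', conj (lam t : ℂ) := by
    intro lam
    rw [classInner_def, mul_comm, ← mul_assoc, mul_inv_cancel₀ b.cast_ne_zero, one_mul, Finset.mul_sum]
    have e : ∀ t : P', (χ : G → ℂ) t * conj (lam t : ℂ) = (if t = 1 then (χ : G → ℂ) 1 - (χ : G → ℂ) s else 0) +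
        (χ : G → ℂ) s * conj (lam t : ℂ) := by
      intro t
      split_ifs with h
      · subst h; simp
      · rw [b.value χ t.2 (fun h' => h (Subtype.ext h')), zero_add]
    simp only [e, Finset.sum_add_distrib, Finset.sum_ite_eq', Finset.mem_univ, if_true]
  have hnat : ∀ lam : P' →* ℂˣ, ∃ m : ℕ, classInner (fun t : P' => (χ : G → ℂ) t) (fun t : P' => (lam t : ℂ)) = m :=
    fun lam => IsCharacter.exists_mult hres (isIrrCharacter_linear lam)
  constructor
  · obtain ⟨m, hm⟩ := hnat 1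
    refine ⟨m, ?_⟩
    have h := hsum 1
    rw [hm] at h
    simp only [MonoidHom.one_apply, Units.val_one, map_one, Finset.sum_const, Finset.card_univ, nsmul_eq_mul,
      mul_one, ← Nat.card_eq_fintype_card] at h
    linear_combination -h
  · have hs1 : (⟨s, b.mem⟩ : P') ≠ 1 := fun h => b.s_ne_one (congrArg Subtype.val h)
    obtain ⟨φ, hφ⟩ := CommGroup.exists_apply_ne_one_of_hasEnoughRootsOfUnity P' ℂ hs1
    obtain ⟨n, hn⟩ := hnat φ
    refine ⟨n, ?_⟩
    have h0 : ∑ t : P', conj (φ t : ℂ) = 0 := by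
      have h : (φ ⟨s, b.mem⟩ : ℂ) * ∑ t : P', (φ t : ℂ) = ∑ t : P', (φ t : ℂ) := by
        rw [Finset.mul_sum]
        refine Fintype.sum_equiv (Equiv.mulLeft ⟨s, b.mem⟩) _ _ fun t => ?_
        simp
      rw [← map_sum]
      have h2 : ((φ ⟨s, b.mem⟩ : ℂ) - 1) * ∑ t : P', (φ t : ℂ) = 0 := by rw [sub_mul, one_mul, h, sub_self]
      rw [(mul_eq_zero.1 h2).resolve_left (sub_ne_zero.2 fun h' => hφ (Units.ext h')), map_zero]
    have h := hsum φ
    rw [hn, h0, mul_zero, add_zero] at h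
    linear_combination -h

theorem s_real_int (b : Base M u s P) (χ : IrrCharacter G) : ∃ z : ℤ, (χ : G → ℂ) s = z := by
  obtain ⟨z, hz, -⟩ := Cfsg.Agent.S0944.result χ s b.s_two
  exact ⟨z, hz⟩

/-- The principal block at `1` and `s`. -/
theorem one_s (b : Base M u s P) : colKer (principalBlock M G) 1 s = 0 :=
  colKer_regular_singular b.hM (by simp) (dvd_of_eq b.s_two.symm)

/-- A non-principal character of the principal block is not constant on a Sylow 2-subgroup. -/
theorem apply_s_ne (b : Base M u s P) {χ : IrrCharacter G} (hχ : χ ∈ principalBlock M G)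
    (hne : χ ≠ principal G) : (χ : G → ℂ) 1 - (χ : G → ℂ) s ≠ 0 := by
  classical
  intro h0
  have hker : ∀ t ∈ (P : Subgroup G), (χ : G → ℂ) t = (χ : G → ℂ) 1 := fun t ht => by
    rcases eq_or_ne t 1 with h | h
    · rw [h]
    · rw [b.value χ ht h, sub_eq_zero.1 h0]
  obtain ⟨μ, hμ1, hμt, hμB⟩ := exists_linear_kernel b.hM P hχ hne hker
  have hne' : (⟨fun g => (μ g : ℂ), isIrrCharacter_linear μ⟩ : IrrCharacter G) ≠ principal G := fun h =>
    hμ1 (MonoidHom.ext fun g => Units.ext (congrFun (congrArg Subtype.val h) g))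
  have hd := b.deficit _ hμB hne'
  obtain ⟨y, hy, -, hs, -⟩ := b.part
  have hμu : μ u = μ y := by rw [← hy, map_mul, hμt s hs, one_mul]
  simp only [map_one, Units.val_one, hμu] at hd
  have hn : ‖(μ y : ℂ)‖ = 1 := norm_deg_one (isCharacter_linear μ) (by simp) y
  have := congrArg norm hd
  rw [Complex.norm_natCast] at this
  have h2 := norm_sub_le (1 : ℂ) (μ y : ℂ)
  rw [norm_one, hn] at h2
  have h4 : (4 : ℝ) ≤ (Nat.card (P : Subgroup G) : ℝ) := by exact_mod_cast b.four
  linarith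

/-- Every non-principal character of the principal block drops by the order of a Sylow 2-subgroup at `s`. -/
theorem drop (b : Base M u s P) {χ : IrrCharacter G} (hχ : χ ∈ principalBlock M G) (hne : χ ≠ principal G) :
    (χ : G → ℂ) 1 - (χ : G → ℂ) s = (Nat.card (P : Subgroup G) : ℂ) := by
  classical
  choose n hn using fun ψ : IrrCharacter G => (b.mult ψ).2
  set q := (Nat.card (P : Subgroup G) : ℂ)
  have hpos : ∀ ψ ∈ pbNon M G, 1 ≤ n ψ := fun ψ hψ => Nat.one_le_iff_ne_zero.2 fun h =>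
    b.apply_s_ne (mem_pbNon.1 hψ).1 (mem_pbNon.1 hψ).2 (by rw [hn ψ, h, Nat.cast_zero, mul_zero])
  have h1 : ∑ ψ ∈ pbNon M G, ((ψ : G → ℂ) 1 - (ψ : G → ℂ) s) * (ψ : G → ℂ) 1 =
      q * ∑ ψ ∈ pbNon M G, (ψ : G → ℂ) 1 := by
    have h := deficit_identity b.hM b.deficit (1 : G)
    rw [← conj_colKer _ (1 : G) u,
      colKer_regular_singular b.hM (by simp) (two_dvd_orderOf b.hM b.even b.deficit b.cast_ne_zero),
      map_zero, sub_zero, colKer_principal, pbFin_sum b.hM, psum_one b.hM, Complex.conj_natCast] at h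
    have h' := b.one_s
    rw [colKer_principal, pbFin_sum b.hM] at h'
    have e : ∀ ψ : IrrCharacter G, conj ((ψ : G → ℂ) 1) = (ψ : G → ℂ) 1 := fun ψ => by
      rw [irr_apply_one_eq_deg, Complex.conj_natCast]
    have e' : ∀ ψ : IrrCharacter G, conj ((ψ : G → ℂ) s) = (ψ : G → ℂ) s := fun ψ => by
      obtain ⟨z, hz⟩ := b.s_real_int ψ
      rw [hz, map_intCast]
    simp only [principal] at h h'
    simp only [e, e'] at h h'
    simp only [irr_apply_one_eq_deg] at h h'
    rw [Nat.cast_sum] at h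
    simp only [sub_mul, Finset.sum_sub_distrib, irr_apply_one_eq_deg]
    rw [← h, Finset.sum_congr rfl fun (ψ : IrrCharacter G) _ => mul_comm ((ψ : G → ℂ) s) _]
    linear_combination -h'
  have h2 : ∑ ψ ∈ pbNon M G, ((n ψ - 1) * deg (ψ : G → ℂ) : ℕ) = 0 := by
    have h3 : q * ∑ ψ ∈ pbNon M G, (((n ψ - 1) * deg (ψ : G → ℂ) : ℕ) : ℂ) = 0 := by
      rw [Finset.mul_sum, Finset.sum_congr rfl fun ψ hψ => show q * (((n ψ - 1) * deg (ψ : G → ℂ) : ℕ) : ℂ) =
        ((ψ : G → ℂ) 1 - (ψ : G → ℂ) s) * (ψ : G → ℂ) 1 - q * (ψ : G → ℂ) 1 by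
          rw [Nat.cast_mul, Nat.cast_sub (hpos ψ hψ), hn ψ, irr_apply_one_eq_deg, Nat.cast_one]; ring,
        Finset.sum_sub_distrib, h1, Finset.mul_sum, sub_self]
    rw [← Nat.cast_sum, mul_eq_zero, or_iff_right b.cast_ne_zero] at h3
    exact_mod_cast h3
  have h4 := Finset.sum_eq_zero_iff.1 h2 χ (mem_pbNon.2 ⟨hχ, hne⟩)
  have h5 := deg_irr_pos χ
  have h6 := hpos χ (mem_pbNon.2 ⟨hχ, hne⟩)
  have h7 : n χ = 1 := by
    rcases Nat.mul_eq_zero.1 h4 with h | h <;> omega
  rw [hn χ, h7, Nat.cast_one, mul_one]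

theorem s_ge (b : Base M u s P) {χ : IrrCharacter G} (hχ : χ ∈ principalBlock M G) (hne : χ ≠ principal G) :
    ∃ d : ℤ, (χ : G → ℂ) s = d ∧ -1 ≤ d ∧ (deg (χ : G → ℂ) : ℤ) = Nat.card (P : Subgroup G) + d := by
  obtain ⟨d, hd⟩ := b.s_real_int χ
  obtain ⟨m, hm⟩ := (b.mult χ).1
  have h := b.drop hχ hne
  rw [irr_apply_one_eq_deg, hd] at h hm
  have h' : (deg (χ : G → ℂ) : ℤ) - d = Nat.card (P : Subgroup G) := by exact_mod_cast h
  have hm' : (deg (χ : G → ℂ) : ℤ) + ((Nat.card (P : Subgroup G) : ℤ) - 1) * d =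
      (Nat.card (P : Subgroup G) : ℤ) * m := by exact_mod_cast hm
  refine ⟨d, hd, ?_, by linarith⟩
  have hq : (0 : ℤ) < Nat.card (P : Subgroup G) := by exact_mod_cast Nat.card_pos
  by_contra hlt
  have : (Nat.card (P : Subgroup G) : ℤ) * (1 + d - m) = 0 := by linear_combination h' * 0 + (hm' - h')
  rcases mul_eq_zero.1 this with h0 | h0 <;> omega

/-- The non-principal characters are faithful. -/
theorem faithful (b : Base M u s P) {χ : IrrCharacter G} (hχ : χ ∈ principalBlock M G) (hne : χ ≠ principal G)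
    {g : G} (hg : (χ : G → ℂ) g = (χ : G → ℂ) 1) : g = 1 := by
  classical
  haveI : Fact (Nat.Prime 2) := ⟨Nat.prime_two⟩
  set K := kerSubgroup (χ : G → ℂ) (isCharacter_of_irr χ.2)
  haveI : K.Normal := kerSubgroup_normal _
  have hle : K ≤ Cfsg.oddCore G := by
    refine Cfsg.Lib.Components.le_pPrimeCore ?_
    rw [Nat.coprime_comm, Nat.prime_two.coprime_iff_not_dvd]
    intro hd
    obtain ⟨x, hx⟩ := exists_prime_orderOf_dvd_card' (G := K) 2 hd
    obtain ⟨Q, hQ⟩ := (IsPGroup.of_card (n := 1) (by rw [Nat.card_zpowers, Subgroup.orderOf_coe, hx, pow_one]) :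
      IsPGroup 2 (Subgroup.zpowers (x : G))).exists_le_sylow
    obtain ⟨a, ha⟩ := MulAction.exists_smul_eq G Q P
    have hm : a * (x : G) * a⁻¹ ∈ (P : Subgroup G) := by
      rw [← ha, Sylow.coe_subgroup_smul]
      exact Subgroup.smul_mem_pointwise_smul _ (MulAut.conj a) _ (hQ (Subgroup.mem_zpowers _))
    have hne1 : a * (x : G) * a⁻¹ ≠ 1 := fun h => by
      rw [conj_eq_one_iff, OneMemClass.coe_eq_one] at h
      simp [h] at hx
    have hK := (mem_kerSubgroup _ _).1 ((inferInstance : K.Normal).conj_mem _ x.2 a)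
    rw [b.value χ hm hne1] at hK
    refine b.apply_s_ne hχ hne ?_
    rw [hK, sub_self]
  have := hle ((mem_kerSubgroup _ _).2 hg)
  rw [b.core, Subgroup.mem_bot] at this
  exact this

/-- One of the characters takes the value `-1` at `s`. -/
theorem exists_minus_one (b : Base M u s P) :
    ∃ χ ∈ principalBlock M G, χ ≠ principal G ∧ (χ : G → ℂ) s = -1 := by
  classical
  by_contra! hno
  have h := b.one_s
  rw [colKer_principal, pbFin_sum b.hM] at h
  have hnn : ∀ χ ∈ pbNon M G, ∃ z : ℕ, (χ : G → ℂ) 1 * conj ((χ : G → ℂ) s) = z := fun χ hχ => by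
    obtain ⟨hB, hne⟩ := mem_pbNon.1 hχ
    obtain ⟨d, hd, hge, hdeg⟩ := b.s_ge hB hne
    have hne1 : d ≠ -1 := fun e => hno χ hB hne (by rw [hd, e]; simp)
    obtain ⟨z, rfl⟩ : ∃ z : ℕ, d = z := ⟨d.toNat, by omega⟩
    exact ⟨deg (χ : G → ℂ) * z, by rw [irr_apply_one_eq_deg, hd]; simp⟩
  choose z hz using hnn
  rw [← Finset.sum_attach, Finset.sum_congr rfl fun χ _ => hz χ.1 χ.2, ← Nat.cast_sum] at h
  simp only [principal, map_one, mul_one] at h
  have : (((1 + ∑ χ ∈ (pbNon M G).attach, z χ.1 χ.2 : ℕ)) : ℂ) = 0 := by rw [Nat.cast_add, Nat.cast_one, h]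
  rw [Nat.cast_eq_zero] at this
  omega

end Base

end Cfsg.Lib.Deficit
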